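import Cfsg.Prelude.Def_ChevStructure
import Mathlib

/-!
# Collection in a group with Steinberg's relations (R1), (R2)

Words in root elements whose parameters are monomials `c t^a u^b v^e` with integer `c` and integer
exponents are collected with the commutator relations. The collection is a computation on tables,
so identities between root elements can be checked by evaluation and hold in every group with the
relations (R1), (R2).
-/

set_option autoImplicit false

set_option linter.unusedSectionVars false

namespace CfsgLib.ChevCollect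

open Cfsg.Lie

/-- A monomial `c t^a u^b v^e`. -/
abbrev Mon : Type := ℤ × ℤ × ℤ × ℤ

/-- A word of root elements with monomial parameters. -/
abbrev Word : Type := List (ℕ × Mon)

/-- `-m`. -/
def mNeg (m : Mon) : Mon := (-m.1, m.2)

/-- Product of monomials. -/
def mMul (m n : Mon) : Mon := (m.1 * n.1, m.2.1 + n.2.1, m.2.2.1 + n.2.2.1, m.2.2.2 + n.2.2.2)

/-- Power of a monomial. -/
def mPow (m : Mon) (i : ℕ) : Mon := (m.1 ^ i, i * m.2.1, i * m.2.2.1, i * m.2.2.2)

/-- An integer multiple of a monomial. -/
def mScale (C : ℤ) (m : Mon) : Mon := (C * m.1, m.2)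

/-- The variables. -/
def varT : Mon := (1, 1, 0, 0)
/-- The variables. -/
def varU : Mon := (1, 0, 1, 0)
/-- The variables. -/
def varV : Mon := (1, 0, 0, 1)

variable {K G : Type*} [Field K] [Group G]

/-- The value of a monomial. -/
def mEval (t u v : K) (m : Mon) : K := (m.1 : K) * t ^ m.2.1 * u ^ m.2.2.1 * v ^ m.2.2.2

/-- The value of a word. -/
def wEval (x : ℕ → K → G) (t u v : K) (w : Word) : G :=
  (w.map fun p => x p.1 (mEval t u v p.2)).prod

section Eval

variable (t u v : K)

theorem mEval_neg (m : Mon) : mEval t u v (mNeg m) = -mEval t u v m := by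
  simp [mEval, mNeg]

theorem mEval_scale (C : ℤ) (m : Mon) : mEval t u v (mScale C m) = (C : K) * mEval t u v m := by
  simp only [mEval, mScale, Int.cast_mul]
  ring

theorem mEval_pow (m : Mon) (i : ℕ) : mEval t u v (mPow m i) = mEval t u v m ^ i := by
  simp only [mEval, mPow, Int.cast_pow, mul_pow]
  rw [← zpow_natCast (t ^ m.2.1) i, ← zpow_mul, mul_comm m.2.1, ← zpow_natCast (u ^ m.2.2.1) i,
    ← zpow_mul, mul_comm m.2.2.1, ← zpow_natCast (v ^ m.2.2.2) i, ← zpow_mul, mul_comm m.2.2.2]

variable {t u v}

theorem mEval_mul (ht : t ≠ 0) (hu : u ≠ 0) (hv : v ≠ 0) (m n : Mon) :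
    mEval t u v (mMul m n) = mEval t u v m * mEval t u v n := by
  simp only [mEval, mMul, Int.cast_mul, zpow_add₀ ht, zpow_add₀ hu, zpow_add₀ hv]
  ring

theorem mEval_T : mEval t u v varT = t := by simp [mEval, varT]
theorem mEval_U : mEval t u v varU = u := by simp [mEval, varU]
theorem mEval_V : mEval t u v varV = v := by simp [mEval, varV]

theorem mEval_zero {m : Mon} (h : m.1 = 0) : mEval t u v m = 0 := by simp [mEval, h]

theorem mEval_add {m n : Mon} (h : m.2 = n.2) :
    mEval t u v (m.1 + n.1, m.2) = mEval t u v m + mEval t u v n := by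
  simp only [mEval, ← h, Int.cast_add]
  ring

end Eval

theorem wEval_cons (x : ℕ → K → G) (t u v : K) (p : ℕ × Mon) (w : Word) :
    wEval x t u v (p :: w) = x p.1 (mEval t u v p.2) * wEval x t u v w := by
  simp [wEval]

theorem wEval_append (x : ℕ → K → G) (t u v : K) (w w' : Word) :
    wEval x t u v (w ++ w') = wEval x t u v w * wEval x t u v w' := by
  simp [wEval]

/-- The relations (R1), (R2). -/
structure StRels (D : ChevalleyDatum) (x : ℕ → K → G) : Prop where
  add : ∀ r, r < D.nroots → ∀ t u, x r (t + u) = x r t * x r u
  comm : ∀ r s t u, r < D.nroots → s < D.nroots → s ≠ r → s ≠ D.neg r →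
    (x s u)⁻¹ * (x r t)⁻¹ * x s u * x r t = ((D.commWord K r s t u).map fun p => x p.1 p.2).prod

/-- The right-hand side of (R2) for monomials. -/
def commW (D : ChevalleyDatum) (r s : ℕ) (a b : Mon) : Word :=
  (D.commTerms r s).map fun c =>
    (c.1, mScale c.2.1 (mMul (mPow (mNeg a) c.2.2.1) (mPow b c.2.2.2)))

/-- Conjugation of one factor by `x_a(m)`. -/
def conjOne (D : ChevalleyDatum) (a : ℕ) (m : Mon) (p : ℕ × Mon) : Option Word :=
  if a < D.nroots ∧ p.1 < D.nroots then
    if p.1 = a then some [p]
    else if p.1 = D.neg a then none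
    else some (p :: commW D a p.1 (mNeg m) p.2)
  else none

/-- Conjugation of a word by `x_a(m)`. -/
def conjWord (D : ChevalleyDatum) (a : ℕ) (m : Mon) : Word → Option Word
  | [] => some []
  | p :: w => do
    let p' ← conjOne D a m p
    let w' ← conjWord D a m w
    pure (p' ++ w')

/-- A total preorder on factors: by root, then by exponents. -/
def before (p q : ℕ × Mon) : Bool :=
  decide (p.1 < q.1) || (p.1 == q.1 && (decide (p.2.2.1 < q.2.2.1) ||
    (p.2.2.1 == q.2.2.1 && (decide (p.2.2.2.1 < q.2.2.2.1) ||
      (p.2.2.2.1 == q.2.2.2.1 && decide (p.2.2.2.2 < q.2.2.2.2))))))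

/-- One step of collection; `none` on a pair of opposite roots, unchanged word when sorted. -/
def collectStep (D : ChevalleyDatum) : Word → Option Word
  | [] => some []
  | [p] => if p.2.1 == 0 && decide (p.1 < D.nroots) then some [] else some [p]
  | p :: q :: w =>
    if p.1 < D.nroots ∧ q.1 < D.nroots then
      if p.2.1 = 0 then some (q :: w)
      else if p.1 = q.1 ∧ p.2.2 = q.2.2 then some ((p.1, (p.2.1 + q.2.1, p.2.2)) :: w)
      else if before q p then
        if p.1 = q.1 then some (q :: p :: w)
        else if p.1 = D.neg q.1 then none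
        else some (q :: p :: (commW D q.1 p.1 q.2 p.2 ++ w))
      else (collectStep D (q :: w)).map (p :: ·)
    else none

/-- Collection. -/
def collect (D : ChevalleyDatum) : ℕ → Word → Option Word
  | 0, w => some w
  | k + 1, w =>
    match collectStep D w with
    | none => none
    | some w' => if w' = w then some w else collect D k w'

section Sound

variable {D : ChevalleyDatum} {x : ℕ → K → G} (R : StRels D x)
include R

theorem x_zero {r : ℕ} (hr : r < D.nroots) : x r 0 = 1 := by simpa using R.add r hr 0 0

theorem x_neg {r : ℕ} (hr : r < D.nroots) (t : K) : x r (-t) = (x r t)⁻¹ :=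
  eq_inv_of_mul_eq_one_left (by rw [← R.add r hr, neg_add_cancel, x_zero R hr])

variable {t u v : K} (ht : t ≠ 0) (hu : u ≠ 0) (hv : v ≠ 0)
include ht hu hv

theorem wEval_commW (r s : ℕ) (a b : Mon) :
    wEval x t u v (commW D r s a b) =
      ((D.commWord K r s (mEval t u v a) (mEval t u v b)).map fun p => x p.1 p.2).prod := by
  simp only [wEval, commW, ChevalleyDatum.commWord, List.map_map]
  congr 1
  refine List.map_congr_left fun c _ => ?_
  simp only [Function.comp_apply, mEval_scale, mEval_mul ht hu hv, mEval_pow, mEval_neg]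
  congr 1
  ring

theorem conjOne_sound {a : ℕ} {m : Mon} {p : ℕ × Mon} {w : Word} (h : conjOne D a m p = some w) :
    wEval x t u v w =
      x a (mEval t u v m) * x p.1 (mEval t u v p.2) * (x a (mEval t u v m))⁻¹ := by
  unfold conjOne at h
  split_ifs at h with h1 h2 h3
  · obtain rfl := Option.some.inj h
    rw [h2, ← R.add a h1.1 (mEval t u v m), add_comm, R.add a h1.1, mul_inv_cancel_right]
    simp [wEval, h2]
  · obtain rfl := Option.some.inj h
    rw [wEval_cons, wEval_commW R ht hu hv, ← R.comm a p.1 _ _ h1.1 h1.2 h2 h3, mEval_neg,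
      x_neg R h1.1]
    group

theorem conjWord_sound {a : ℕ} {m : Mon} : ∀ {w w' : Word}, conjWord D a m w = some w' →
    wEval x t u v w' = x a (mEval t u v m) * wEval x t u v w * (x a (mEval t u v m))⁻¹
  | [], w', h => by
    simp only [conjWord, Option.some.injEq] at h
    subst h
    simp [wEval]
  | p :: w, w', h => by
    simp only [conjWord, Option.bind_eq_bind, Option.bind_eq_some_iff, Option.pure_def,
      Option.some.injEq] at h
    obtain ⟨p', hp, w'', hw, rfl⟩ := h
    rw [wEval_append, conjOne_sound R ht hu hv hp, conjWord_sound hw, wEval_cons]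
    group

theorem collectStep_sound : ∀ {w w' : Word}, collectStep D w = some w' →
    wEval x t u v w' = wEval x t u v w
  | [], w', h => by
    simp only [collectStep, Option.some.injEq] at h
    rw [← h]
  | [p], w', h => by
    simp only [collectStep] at h
    split_ifs at h with h1
    · obtain rfl := Option.some.inj h
      simp only [Bool.and_eq_true, beq_iff_eq, decide_eq_true_eq] at h1
      simp [wEval, mEval_zero h1.1, x_zero R h1.2]
    · rw [← Option.some.inj h]
  | p :: q :: w, w', h => by
    simp only [collectStep] at h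
    split_ifs at h with h1 h2 h3 h4 h5 h6
    · obtain rfl := Option.some.inj h
      rw [wEval_cons x t u v p, mEval_zero h2, x_zero R h1.1, one_mul]
    · obtain rfl := Option.some.inj h
      rw [wEval_cons, wEval_cons, wEval_cons, ← mul_assoc, mEval_add h3.2, R.add p.1 h1.1, h3.1]
    · obtain rfl := Option.some.inj h
      simp only [wEval_cons]
      rw [← mul_assoc, ← mul_assoc, h5, ← R.add q.1 h1.2, add_comm, R.add q.1 h1.2]
    · obtain rfl := Option.some.inj h
      simp only [wEval_cons, wEval_append]
      rw [wEval_commW R ht hu hv, ← R.comm q.1 p.1 _ _ h1.2 h1.1 h5 h6]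
      group
    · simp only [Option.map_eq_some_iff] at h
      obtain ⟨w'', hw, rfl⟩ := h
      rw [wEval_cons x t u v p, collectStep_sound hw, ← wEval_cons x t u v p]

theorem collect_sound : ∀ {k : ℕ} {w w' : Word}, collect D k w = some w' →
    wEval x t u v w' = wEval x t u v w
  | 0, w, w', h => by
    simp only [collect, Option.some.injEq] at h
    rw [h]
  | k + 1, w, w', h => by
    simp only [collect] at h
    split at h
    · simp at h
    · next w'' hw =>
      split_ifs at h with he
      · rw [Option.some.inj h]
      · rw [collect_sound h, collectStep_sound R ht hu hv hw]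

end Sound

end CfsgLib.ChevCollect
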