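import Cfsg.Agent.ChevCollect.RankOne
import Cfsg.Agent.Chevalley.Bruhat

/-!
# The kernel of a homomorphism onto the Chevalley group is central

In a group generated by root elements with (R1), (R2) every element is `u n u'` with `u`, `u'`
positive unipotent and `n` a product of `n_p(t)`, `p` fundamental. If such an element dies in the
Chevalley group, it is a conjugate of an element of `N` fixing all root elements.
-/

set_option autoImplicit false
set_option linter.unusedSectionVars false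

namespace CfsgLib.ChevCollect

open Cfsg.Lie CfsgLib.Chevalley
open scoped MatrixGroups

/-- `n_p(t) x_s(u) n_p(t)⁻¹` is computed for all fundamental `p` and all `s ≠ ±p`. -/
def nChk (D : ChevalleyDatum) : Bool :=
  (List.range D.rank).all fun i => (List.range D.nroots).all fun s =>
    s == D.simple i || s == D.neg (D.simple i) || (nAct D (D.simple i) s).isSome

variable {K G : Type*} [Field K] [Group G] {D : ChevalleyDatum}

/-- The positive roots from `m` on. -/
def uG (D : ChevalleyDatum) (x : ℕ → K → G) (m : ℕ) : Subgroup G :=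
  Subgroup.closure {g | ∃ r : Root D, half D ≤ r ∧ m ≤ r ∧ ∃ t, x r t = g}

/-- The positive roots other than the `i`th fundamental one. -/
def uC (hW : GoodWeyl D) (x : ℕ → K → G) (i : Fin D.rank) : Subgroup G :=
  Subgroup.closure {g | ∃ r : Root D, half D ≤ r ∧ r ≠ pRoot hW i ∧ ∃ t, x r t = g}

/-- Products of `n_p(t)`. -/
def nGrp (hW : GoodWeyl D) (x : ℕ → K → G) : Subgroup G :=
  Subgroup.closure {g | ∃ i : Fin D.rank, ∃ t : K, t ≠ 0 ∧ nEl D x (pRoot hW i) t = g}

/-- `g` maps the root element of `r` to that of `π r`. -/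
def MonG (x : ℕ → K → G) (g : G) (π : Equiv.Perm (Root D)) : Prop :=
  ∀ r : Root D, ∃ c : K, c ≠ 0 ∧ ∀ u, g * x r u * g⁻¹ = x (π r) (c * u)

variable {x : ℕ → K → G} (R : StRels D x) (hW : GoodWeyl D) (θ : G →* GL D.Idx K)
  (hθ : ∀ (r : Root D) (t : K), θ (x r t) = X hW.good r t)
  (hN : nChk D = true) {W : List (ℕ × ℕ)} (hX : wXAll D W = true)

include R hW

theorem mem_uG {r : Root D} {m : ℕ} (hr : half D ≤ r) (hm : m ≤ r) (t : K) : x r t ∈ uG D x m :=
  Subgroup.subset_closure ⟨r, hr, hm, t, rfl⟩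

theorem mem_uC {r : Root D} {i : Fin D.rank} (hr : half D ≤ r) (h : r ≠ pRoot hW i) (t : K) :
    x r t ∈ uC hW x i :=
  Subgroup.subset_closure ⟨r, hr, h, t, rfl⟩

theorem uC_le (i : Fin D.rank) : uC hW x i ≤ uG D x 0 :=
  Subgroup.closure_mono fun _ ⟨r, h, _, t, e⟩ => ⟨r, h, Nat.zero_le _, t, e⟩

/-- Conjugation of a later root element by an earlier one stays beyond. -/
theorem conj_pos {a s : Root D} (ha : half D ≤ a) (hs : half D ≤ s) (hne : s ≠ a) (v w : K)
    {H : Subgroup G} (hsH : x s w ∈ H)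
    (hH : ∀ k : Root D, (a : ℕ) < k → (s : ℕ) < k → ∀ c, x k c ∈ H) :
    x a v * x s w * (x a v)⁻¹ ∈ H := by
  have hrev : (s : ℕ) ≠ D.neg a := by
    rw [hW.good.neg_fin]
    intro e
    exact hW.good.rev_ne_of_key (b := false) ha hs (Fin.ext e)
  have h := R.comm a s (-v) w a.isLt s.isLt (fun e => hne (Fin.ext e)) hrev
  rw [x_neg R a.isLt, inv_inv] at h
  rw [show x a v * x s w * (x a v)⁻¹ = x s w * ((x s w)⁻¹ * x a v * x s w * (x a v)⁻¹) by group, h]
  refine mul_mem hsH (Subgroup.list_prod_mem _ fun g hg => ?_)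
  simp only [ChevalleyDatum.commWord, List.map_map, List.mem_map] at hg
  obtain ⟨c, hc, rfl⟩ := hg
  obtain ⟨hk, h1, h2⟩ := Good.commTerms_key (b := false) (r := a) (s := s) hW.toGoodComm ha hs hc
  exact hH ⟨c.1, hk⟩ h1 h2 _

theorem conj_uC (i : Fin D.rank) (v : K) {u : G} (hu : u ∈ uC hW x i) :
    x (pRoot hW i) v * u * (x (pRoot hW i) v)⁻¹ ∈ uC hW x i := by
  refine (show uC hW x i ≤ (uC hW x i).comap (MulAut.conj (x (pRoot hW i) v)).toMonoidHom from
    (Subgroup.closure_le _).2 ?_) hu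
  rintro _ ⟨r, hr, hne, t, rfl⟩
  show x (pRoot hW i) v * x r t * (x (pRoot hW i) v)⁻¹ ∈ uC hW x i
  refine conj_pos R hW (pRoot_pos hW i) hr hne v t (mem_uC R hW hr hne t) fun k h1 _ c => ?_
  exact mem_uC R hW (le_trans (pRoot_pos hW i) h1.le) (fun e => by rw [e] at h1; omega) c

theorem split_uG {m : ℕ} (hmD : m < D.nroots) (hm : half D ≤ m) {g : G} (hg : g ∈ uG D x m) :
    ∃ t : K, ∃ g' ∈ uG D x (m + 1), g = x m t * g' := by
  have hconj : ∀ (v : K), ∀ g' ∈ uG D x (m + 1), x m v * g' * (x m v)⁻¹ ∈ uG D x (m + 1) := by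
    intro v g' hg'
    refine (show uG D x (m + 1) ≤ (uG D x (m + 1)).comap (MulAut.conj (x m v)).toMonoidHom from
      (Subgroup.closure_le _).2 ?_) hg'
    rintro _ ⟨r, hr, hmr, t, rfl⟩
    show x m v * x r t * (x m v)⁻¹ ∈ uG D x (m + 1)
    refine conj_pos R hW (a := ⟨m, hmD⟩) hm hr (fun e => by rw [e] at hmr; simp at hmr) v t
      (mem_uG R hW hr hmr t) fun k h1 _ c => ?_
    exact mem_uG R hW (show half D ≤ (k : ℕ) by simp at h1; omega) (by simp at h1; omega) c
  induction hg using Subgroup.closure_induction with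
  | mem y hy =>
    obtain ⟨r, hr, hmr, t, rfl⟩ := hy
    rcases eq_or_lt_of_le hmr with e | hlt
    · exact ⟨t, 1, one_mem _, by rw [e, mul_one]⟩
    · exact ⟨0, _, mem_uG R hW hr hlt t, by rw [x_zero R hmD, one_mul]⟩
  | one => exact ⟨0, 1, one_mem _, by rw [x_zero R hmD, one_mul]⟩
  | mul y z _ _ hy hz =>
    obtain ⟨t, g', hg', rfl⟩ := hy
    obtain ⟨s, h', hh', rfl⟩ := hz
    refine ⟨t + s, (x m s)⁻¹ * g' * x m s * h', mul_mem ?_ hh', ?_⟩
    · have := hconj (-s) g' hg'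
      rwa [x_neg R hmD, inv_inv] at this
    · rw [R.add m hmD]; group
  | inv y _ hy =>
    obtain ⟨t, g', hg', rfl⟩ := hy
    refine ⟨-t, x m t * g'⁻¹ * (x m t)⁻¹, hconj t _ (inv_mem hg'), ?_⟩
    rw [x_neg R hmD]; group

include hθ in
theorem map_uG (m : ℕ) {g : G} (hg : g ∈ uG D x m) : θ g ∈ uGe hW.good K false m := by
  refine (show uG D x m ≤ (uGe hW.good K false m).comap θ from (Subgroup.closure_le _).2 ?_) hg
  rintro _ ⟨r, hr, hmr, t, rfl⟩
  rw [SetLike.mem_coe, Subgroup.mem_comap, hθ]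
  exact X_mem_uGe hW.good (b := false) hr hmr t

include hθ in
theorem uG_injective {g : G} (hg : g ∈ uG D x 0) (h1 : θ g = 1) : g = 1 := by
  suffices H : ∀ (k m : ℕ), half D ≤ m → m + k = D.nroots → ∀ g ∈ uG D x m, θ g = 1 → g = 1 by
    refine H (D.nroots - half D) (half D) le_rfl (by have := hW.good.two_half; omega) g ?_ h1
    refine (show uG D x 0 ≤ uG D x (half D) from Subgroup.closure_mono ?_) hg
    rintro _ ⟨r, hr, -, t, rfl⟩
    exact ⟨r, hr, hr, t, rfl⟩
  intro k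
  induction k with
  | zero =>
    intro m _ hm g hg _
    have e : uG D x m = ⊥ := by
      rw [eq_bot_iff, uG, Subgroup.closure_le]
      rintro _ ⟨r, -, hmr, -, -⟩
      have := r.isLt
      omega
    rwa [e, Subgroup.mem_bot] at hg
  | succ k ih =>
    intro m hm hmk g hg hg1
    obtain ⟨t, g', hg', rfl⟩ := split_uG R hW (by omega) hm hg
    let r : Root D := ⟨m, by omega⟩
    obtain ⟨i, hi⟩ := hW.toGoodUni.exists_coroot_ne K r
    rw [map_mul, show θ (x m t) = X hW.good r t from hθ r t] at hg1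
    have e := entry_X_mul hW.good (b := false) (r := r) hm t (map_uG R hW θ hθ _ hg') i
    rw [hg1, Units.val_one, Matrix.one_apply_ne (by simp)] at e
    obtain rfl : t = 0 := (mul_eq_zero.1 e.symm).resolve_right hi
    rw [X_zero, one_mul] at hg1
    rw [x_zero R (by omega), one_mul]
    exact ih (m + 1) (by omega) (by omega) g' hg' hg1

theorem split_pos (i : Fin D.rank) {u : G} (hu : u ∈ uG D x 0) :
    ∃ v ∈ uC hW x i, ∃ t : K, u = v * x (pRoot hW i) t := by
  induction hu using Subgroup.closure_induction with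
  | mem y hy =>
    obtain ⟨r, hr, -, t, rfl⟩ := hy
    by_cases h : r = pRoot hW i
    · subst h; exact ⟨1, one_mem _, t, by rw [one_mul]⟩
    · exact ⟨_, mem_uC R hW hr h t, 0, by rw [x_zero R (pRoot hW i).isLt, mul_one]⟩
  | one => exact ⟨1, one_mem _, 0, by rw [x_zero R (pRoot hW i).isLt, mul_one]⟩
  | mul y z _ _ hy hz =>
    obtain ⟨v, hv, t, rfl⟩ := hy
    obtain ⟨v', hv', t', rfl⟩ := hz
    refine ⟨v * (x (pRoot hW i) t * v' * (x (pRoot hW i) t)⁻¹),
      mul_mem hv (conj_uC R hW i t hv'), t + t', ?_⟩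
    rw [R.add _ (pRoot hW i).isLt]
    group
  | inv y _ hy =>
    obtain ⟨v, hv, t, rfl⟩ := hy
    refine ⟨_, conj_uC R hW i (-t) (inv_mem hv), -t, ?_⟩
    rw [x_neg R (pRoot hW i).isLt, mul_inv_rev]
    group

include hX in
theorem wX_pRoot (i : Fin D.rank) {t : K} (ht : t ≠ 0) (v : K) :
    nEl D x (pRoot hW i) t * x (pRoot hW i) v * (nEl D x (pRoot hW i) t)⁻¹ =
      x (pRoot hW i).rev (-(t⁻¹ ^ 2 * v)) := by
  rw [← hW.good.neg_fin]
  exact wX_of_check R (List.all_eq_true.1 hX _ (List.mem_range.2 (pRoot hW i).isLt)) ht v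

theorem nEl_neg' (i : Fin D.rank) (t : K) :
    nEl D x (pRoot hW i) (-t) = (nEl D x (pRoot hW i) t)⁻¹ :=
  nEl_neg R (pRoot hW i).isLt (by rw [hW.good.neg_fin]; exact Fin.isLt _) t

include hX in
theorem wY_pRoot (i : Fin D.rank) {t : K} (ht : t ≠ 0) (v : K) :
    nEl D x (pRoot hW i) t * x (pRoot hW i).rev v * (nEl D x (pRoot hW i) t)⁻¹ =
      x (pRoot hW i) (-(t ^ 2 * v)) := by
  have h := wX_pRoot R hW hX i (neg_ne_zero.2 ht) (-(t ^ 2 * v))
  rw [nEl_neg' R hW i, inv_inv, show -((-t)⁻¹ ^ 2 * -(t ^ 2 * v)) = v by field_simp] at h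
  rw [← h]
  group

include hθ in
theorem map_nEl_one (i : Fin D.rank) : θ (nEl D x (pRoot hW i) 1) = nR hW i := by
  simp only [nEl, map_mul, inv_one, hW.good.neg_fin, hθ, nR]

include hθ hN hX in
/-- `n_p(t)` permutes the root elements like the reflection. -/
theorem monG_nEl (i : Fin D.rank) {t : K} (ht : t ≠ 0) :
    MonG x (nEl D x (pRoot hW i) t) (wPerm hW i) := by
  intro r
  by_cases h1 : r = pRoot hW i
  · subst h1
    refine ⟨-(t⁻¹ ^ 2), neg_ne_zero.2 (pow_ne_zero 2 (inv_ne_zero ht)), fun u => ?_⟩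
    rw [hW.wPerm_pRoot, wX_pRoot R hW hX i ht, neg_mul]
  by_cases h2 : r = (pRoot hW i).rev
  · subst h2
    refine ⟨-(t ^ 2), neg_ne_zero.2 (pow_ne_zero 2 ht), fun u => ?_⟩
    rw [hW.wPerm_rev, hW.wPerm_pRoot, Fin.rev_rev, wY_pRoot R hW hX i ht, neg_mul]
  obtain ⟨⟨s', η, k⟩, he⟩ : ∃ p, nAct D (pRoot hW i) r = some p := by
    refine Option.isSome_iff_exists.1 ?_
    have := List.all_eq_true.1 (List.all_eq_true.1 hN i (List.mem_range.2 i.isLt)) r
      (List.mem_range.2 r.isLt)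
    simp only [Bool.or_eq_true, beq_iff_eq] at this
    rcases this with (e | e) | e
    · exact absurd (Fin.ext e) h1
    · refine absurd (Fin.ext ?_) h2
      rw [← hW.good.neg_fin]
      exact e
    · exact e
  have hs' : s' < D.nroots := by
    have he' := he
    unfold nAct at he'
    split at he'
    · split_ifs at he' with hc
      simp only [Option.some.injEq, Prod.mk.injEq] at he'
      exact he'.1 ▸ hc.2.2.1
    · simp at he'
  -- identify the root and the sign
  have hfn := nAct_sound R he (one_ne_zero (α := K)) 1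
  have e := congrArg θ hfn
  rw [map_mul, map_mul, map_inv, map_nEl_one R hW θ hθ, hθ, nR_conj, one_zpow, mul_one, mul_one,
    mul_one, show θ (x s' (η : K)) = X hW.good ⟨s', hs'⟩ (η : K) from hθ ⟨s', hs'⟩ _] at e
  have heta : (eta D i r : K) ≠ 0 := left_ne_zero_of_mul_eq_one (b := (eta D i r : K))
    (by rw [← Int.cast_mul, hW.eta_sq, Int.cast_one])
  have hroot : wPerm hW i r = ⟨s', hs'⟩ := by
    by_contra hne
    exact X_ne hW.toGoodUni hne heta _ e
  rw [hroot] at e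
  have hη : (η : K) = eta D i r := (X_injective hW.good ⟨s', hs'⟩ e).symm
  refine ⟨(η : K) * t ^ k, mul_ne_zero (hη ▸ heta) (zpow_ne_zero k ht), fun u => ?_⟩
  rw [hroot, nAct_sound R he ht]

include hθ hN hX in
theorem exists_monG {n : G} (hn : n ∈ nGrp hW x) :
    ∃ π : Equiv.Perm (Root D), (∀ r, π r.rev = (π r).rev) ∧ MonG x n π := by
  induction hn using Subgroup.closure_induction_left with
  | one => exact ⟨1, fun r => rfl, fun r => ⟨1, one_ne_zero, fun u => by simp⟩⟩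
  | mul_left y hy z _ hz =>
    obtain ⟨i, t, ht, rfl⟩ := hy
    obtain ⟨π, hπ, hz⟩ := hz
    refine ⟨wPerm hW i * π, fun r => by simp [hπ, hW.wPerm_rev], fun r => ?_⟩
    obtain ⟨c, hc0, hc⟩ := hz r
    obtain ⟨d, hd0, hd⟩ := monG_nEl R hW θ hθ hN hX i ht (π r)
    refine ⟨d * c, mul_ne_zero hd0 hc0, fun u => ?_⟩
    rw [show nEl D x (pRoot hW i) t * z * x r u * (nEl D x (pRoot hW i) t * z)⁻¹ =
      nEl D x (pRoot hW i) t * (z * x r u * z⁻¹) * (nEl D x (pRoot hW i) t)⁻¹ by group, hc, hd,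
      mul_assoc]
    rfl
  | inv_mul_cancel y hy z _ hz =>
    obtain ⟨i, t, ht, rfl⟩ := hy
    obtain ⟨π, hπ, hz⟩ := hz
    refine ⟨wPerm hW i * π, fun r => by simp [hπ, hW.wPerm_rev], fun r => ?_⟩
    obtain ⟨c, hc0, hc⟩ := hz r
    obtain ⟨d, hd0, hd⟩ := monG_nEl R hW θ hθ hN hX i (neg_ne_zero.2 ht) (π r)
    refine ⟨d * c, mul_ne_zero hd0 hc0, fun u => ?_⟩
    rw [← nEl_neg' R hW i, show nEl D x (pRoot hW i) (-t) * z * x r u *
      (nEl D x (pRoot hW i) (-t) * z)⁻¹ = nEl D x (pRoot hW i) (-t) * (z * x r u * z⁻¹) *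
        (nEl D x (pRoot hW i) (-t))⁻¹ by group, hc, hd, mul_assoc]
    rfl

include hθ hN hX in
theorem exists_unu (hgen : Subgroup.closure {g | ∃ r : Root D, ∃ t, x r t = g} = ⊤) (g : G) :
    ∃ u ∈ uG D x 0, ∃ n ∈ nGrp hW x, ∃ u' ∈ uG D x 0, g = u * n * u' := by
  set P : Set G := {g | ∃ u ∈ uG D x 0, ∃ n ∈ nGrp hW x, ∃ u' ∈ uG D x 0, g = u * n * u'} with hP
  have hU : ∀ v ∈ uG D x 0, ∀ g ∈ P, v * g ∈ P := by
    rintro v hv _ ⟨u, hu, n, hn, u', hu', rfl⟩
    exact ⟨v * u, mul_mem hv hu, n, hn, u', hu', by group⟩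
  have hXp : ∀ (i : Fin D.rank) (a : K), x (pRoot hW i) a ∈ uG D x 0 := fun i a =>
    mem_uG R hW (pRoot_pos hW i) (Nat.zero_le _) a
  have hn0 : ∀ (i : Fin D.rank) {t : K}, t ≠ 0 → nEl D x (pRoot hW i) t ∈ nGrp hW x :=
    fun i t ht => Subgroup.subset_closure ⟨i, t, ht, rfl⟩
  have hNP : ∀ (i : Fin D.rank) (t : K), t ≠ 0 → ∀ g ∈ P, nEl D x (pRoot hW i) t * g ∈ P := by
    rintro i t ht _ ⟨u, hu, n, hn, u', hu', rfl⟩
    obtain ⟨v, hv, a, rfl⟩ := split_pos R hW i hu
    set p := pRoot hW i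
    set m := nEl D x p t with hm
    have hv' : m * v * m⁻¹ ∈ uG D x 0 := by
      refine (show uC hW x i ≤ (uG D x 0).comap (MulAut.conj m).toMonoidHom from
        (Subgroup.closure_le _).2 ?_) hv
      rintro _ ⟨r, hr, hne, w, rfl⟩
      obtain ⟨c, -, hc⟩ := monG_nEl R hW θ hθ hN hX i ht r
      show m * x r w * m⁻¹ ∈ uG D x 0
      rw [hc]
      exact mem_uG R hW (hW.wPerm_pos i hr hne).1 (Nat.zero_le _) _
    rw [show m * (v * x p a * n * u') = (m * v * m⁻¹) * (m * x p a * n * u') by group]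
    refine hU _ hv' _ ?_
    rcases eq_or_ne a 0 with rfl | ha
    · exact ⟨1, one_mem _, m * n, mul_mem (hn0 i ht) hn, u', hu',
        by rw [x_zero R p.isLt]; group⟩
    obtain ⟨π, hπ, hM⟩ := exists_monG R hW θ hθ hN hX (inv_mem hn)
    by_cases hpos : half D ≤ (π p : ℕ)
    · obtain ⟨c, -, hc⟩ := hM p
      refine ⟨1, one_mem _, m * n, mul_mem (hn0 i ht) hn, x (π p) (c * a) * u',
        mul_mem (mem_uG R hW hpos (Nat.zero_le _) _) hu', ?_⟩
      rw [← hc]; group
    · -- rank one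
      set b := -(t⁻¹ ^ 2 * a) with hb
      have hb0 : b ≠ 0 := neg_ne_zero.2 (mul_ne_zero (pow_ne_zero 2 (inv_ne_zero ht)) ha)
      have e1 : m * x p a * m⁻¹ = x p.rev b := wX_pRoot R hW hX i ht a
      have e2 : x p.rev b = x p b⁻¹ * nEl D x p (-b⁻¹) * x p b⁻¹ := by
        simp only [nEl, inv_neg, inv_inv, neg_neg, x_neg R p.isLt, hW.good.neg_fin]
        group
      have hpos' : half D ≤ ((π p.rev : Root D) : ℕ) := by
        rw [hπ, Fin.val_rev]
        have := hW.good.two_half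
        omega
      obtain ⟨c, -, hc⟩ := hM p.rev
      obtain ⟨d, -, hd⟩ := monG_nEl R hW θ hθ hN hX i (neg_ne_zero.2 ht) p
      have e3 : x p b⁻¹ * (m * n) = (m * n) * x (π p.rev) (c * (d * b⁻¹)) := by
        have a1 := hd b⁻¹
        rw [hW.wPerm_pRoot, nEl_neg' R hW i, ← hm, inv_inv] at a1
        have a2 := hc (d * b⁻¹)
        rw [inv_inv, ← a1] at a2
        rw [← a2]
        group
      refine ⟨x p b⁻¹, hXp i _, nEl D x p (-b⁻¹) * (m * n),
        mul_mem (hn0 i (neg_ne_zero.2 (inv_ne_zero hb0))) (mul_mem (hn0 i ht) hn),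
        x (π p.rev) (c * (d * b⁻¹)) * u', mul_mem (mem_uG R hW hpos' (Nat.zero_le _) _) hu', ?_⟩
      calc m * x p a * n * u' = (m * x p a * m⁻¹) * (m * n) * u' := by group
        _ = x p b⁻¹ * nEl D x p (-b⁻¹) * (x p b⁻¹ * (m * n)) * u' := by rw [e1, e2]; group
        _ = _ := by rw [e3]; group
  set S := Subgroup.closure ((uG D x 0 : Set G) ∪
    {g | ∃ i : Fin D.rank, ∃ t : K, t ≠ 0 ∧ nEl D x (pRoot hW i) t = g})
  have hS : S = ⊤ := by
    rw [eq_top_iff, ← hgen, Subgroup.closure_le]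
    rintro _ ⟨r, t, rfl⟩
    revert t
    refine hW.root_induction (P := fun r => ∀ t, x r t ∈ S)
      (fun i t => Subgroup.subset_closure (Or.inl (hXp i t))) ?_ r
    intro i s hs t
    obtain ⟨c, hc0, hc⟩ := monG_nEl R hW θ hθ hN hX i (one_ne_zero (α := K)) s
    have hm : nEl D x (pRoot hW i) 1 ∈ S :=
      Subgroup.subset_closure (Or.inr ⟨i, 1, one_ne_zero, rfl⟩)
    have := mul_mem (mul_mem hm (hs (t / c))) (inv_mem hm)
    rwa [hc, mul_div_cancel₀ _ hc0] at this
  have hgP : g ∈ S := hS ▸ Subgroup.mem_top g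
  show g ∈ P
  induction hgP using Subgroup.closure_induction_left with
  | one => exact ⟨1, one_mem _, 1, one_mem _, 1, one_mem _, by group⟩
  | mul_left y hy z _ ih =>
    rcases hy with hy | ⟨i, t, ht, rfl⟩
    · exact hU y hy z ih
    · exact hNP i t ht z ih
  | inv_mul_cancel y hy z _ ih =>
    rcases hy with hy | ⟨i, t, ht, rfl⟩
    · exact hU _ (inv_mem hy) z ih
    · rw [← nEl_neg' R hW i]
      exact hNP i _ (neg_ne_zero.2 ht) z ih

include hθ hN hX in
theorem map_nGrp {n : G} (hn : n ∈ nGrp hW x) : θ n ∈ D.monomialSubgroup K := by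
  refine (show nGrp hW x ≤ (D.monomialSubgroup K).comap θ from (Subgroup.closure_le _).2 ?_) hn
  rintro _ ⟨i, t, ht, rfl⟩
  have e : θ (nEl D x (pRoot hW i) t) = hT K (pRoot hW i) (Units.mk0 t ht) * nR hW i := by
    rw [← nWord_eq hW i (Units.mk0 t ht)]
    simp only [nEl, map_mul, hW.good.neg_fin, hθ, Units.val_mk0, Units.val_inv_eq_inv_val]
  rw [SetLike.mem_coe, Subgroup.mem_comap, e]
  exact mul_mem (diag_le_monomial D (hT_mem_diagonal hW _ _)) (nR_mem_monomial (F := K) hW i)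

include hθ hN hX in
/-- The kernel of the map onto the Chevalley group is central. -/
theorem ker_le_center {C : Weyl.Cert D.rank} {M : CoxeterMatrix (Fin D.rank)} {T : Weyl.RootTable}
    (h : Weyl.RootGood C M T)
    (hgen : Subgroup.closure {g | ∃ r : Root D, ∃ t, x r t = g} = ⊤) :
    θ.ker ≤ Subgroup.center G := by
  intro g hg
  obtain ⟨u, hu, n, hn, u', hu', rfl⟩ := exists_unu R hW θ hθ hN hX hgen g
  rw [MonoidHom.mem_ker, map_mul, map_mul] at hg
  have hpos : θ n ∈ D.posUnipotent K := by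
    rw [show θ n = (θ u)⁻¹ * (θ u * θ n * θ u') * (θ u')⁻¹ by group, hg, mul_one,
      posUnipotent_eq hW.good, ← uGe_half hW.good (Nat.zero_le _)]
    exact mul_mem (inv_mem (map_uG R hW θ hθ 0 hu)) (inv_mem (map_uG R hW θ hθ 0 hu'))
  have h1 : θ n = 1 := by
    have := pos_inf_monomial (F := K) hW h
    exact (Subgroup.mem_bot).1 (this ▸ ⟨hpos, map_nGrp R hW θ hθ hN hX hn⟩)
  rw [h1, mul_one, ← map_mul] at hg
  have huu : u * u' = 1 := uG_injective R hW θ hθ (mul_mem hu hu') hg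
  have hnc : n ∈ Subgroup.center G := by
    obtain ⟨π, -, hM⟩ := exists_monG R hW θ hθ hN hX hn
    rw [Subgroup.mem_center_iff]
    intro y
    have hle : ⊤ ≤ Subgroup.centralizer ({n} : Set G) := by
      rw [← hgen, Subgroup.closure_le]
      rintro _ ⟨r, t, rfl⟩
      rw [SetLike.mem_coe, Subgroup.mem_centralizer_singleton_iff]
      obtain ⟨c, hc0, hc⟩ := hM r
      have e := congrArg θ (hc 1)
      rw [map_mul, map_mul, map_inv, h1, one_mul, inv_one, mul_one, hθ, hθ, mul_one] at e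
      have hr : π r = r := by
        by_contra hne
        exact X_ne hW.toGoodUni (Ne.symm hne) one_ne_zero _ e
      rw [hr] at e
      have := hc t
      rw [hr, ← X_injective hW.good r e, one_mul, mul_inv_eq_iff_eq_mul] at this
      exact this.symm
    exact Subgroup.mem_centralizer_singleton_iff.1 (hle (Subgroup.mem_top y))
  rw [show u' = u⁻¹ from (inv_eq_of_mul_eq_one_right huu).symm,
    show u * n * u⁻¹ = n by rw [Subgroup.mem_center_iff.1 hnc u, mul_inv_cancel_right]]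
  exact hnc

end CfsgLib.ChevCollect
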