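import Cfsg.Agent.ChevCollect.Central
import Cfsg.Agent.SteinbergPres.NActData

/-!
# The reflection of a fundamental root moves every other root element by collection

Derived from the conjugation check of `SteinbergPres.NActData`.
-/

set_option autoImplicit false

namespace CfsgLib.ChevCollect

open Cfsg.Lie CfsgLib.SteinbergPres

theorem nChk_of_chkNAct {D : ChevalleyDatum} (h : chkNAct D = true)
    (ho : ((List.range D.rank).all fun i =>
      Chevalley.opp D (D.simple i) == D.neg (D.simple i)) = true) : nChk D = true := by
  simp only [nChk, chkNAct, chkNActAt, List.all_eq_true, List.mem_range, Bool.or_eq_true,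
    beq_iff_eq] at *
  intro i hi s hs
  rcases h i hi s hs with (e | e) | e
  · exact Or.inl (Or.inl e)
  · exact Or.inl (Or.inr (e.trans (ho i hi)))
  · exact Or.inr (by rw [e]; rfl)

theorem nChk_G2 : nChk chevG2 = true := nChk_of_chkNAct chkNAct_G2 (by decide +kernel)
theorem nChk_B2 : nChk chevB2 = true := nChk_of_chkNAct chkNAct_B2 (by decide +kernel)
theorem nChk_D4 : nChk chevD4 = true := nChk_of_chkNAct chkNAct_D4 (by decide +kernel)
theorem nChk_F4 : nChk chevF4 = true := nChk_of_chkNAct chkNAct_F4 (by decide +kernel)
theorem nChk_E6 : nChk chevE6 = true := nChk_of_chkNAct chkNAct_E6 (by decide +kernel)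
theorem nChk_E7 : nChk chevE7 = true := nChk_of_chkNAct chkNAct_E7 (by decide +kernel)
theorem nChk_E8 : nChk chevE8 = true := nChk_of_chkNAct chkNAct_E8 (by decide +kernel)

end CfsgLib.ChevCollect
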