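import Cfsg.Agent.ChevCollect.Data
import Cfsg.Prelude.Def_SteinbergCover

/-!
# The presented groups `SteinbergCover`, `SteinbergGroup`
-/

set_option autoImplicit false

namespace CfsgLib.ChevCollect

open Cfsg.Lie

variable {K : Type*} [Field K] (D : ChevalleyDatum)

/-- The seven data have checked rank one witnesses. -/
theorem exists_wit {D : ChevalleyDatum} (hD : D ∈ [chevG2, chevB2, chevD4, chevF4, chevE6, chevE7, chevE8]) :
    ∃ W, wXAll D W = true := by
  simp only [List.mem_cons, List.not_mem_nil, or_false] at hD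
  rcases hD with rfl | rfl | rfl | rfl | rfl | rfl | rfl
  exacts [⟨_, wXAll_G2⟩, ⟨_, wXAll_B2⟩, ⟨_, wXAll_D4⟩, ⟨_, wXAll_F4⟩, ⟨_, wXAll_E6⟩,
    ⟨_, wXAll_E7⟩, ⟨_, wXAll_E8⟩]

theorem stWord_map {G : Type*} [Group G] (φ : FreeGroup (Fin D.nroots × K) →* G) (w : List (ℕ × K)) :
    φ (D.stWord w) = (w.map fun p => φ (D.stX p.1 p.2)).prod := by
  simp only [ChevalleyDatum.stWord, map_list_prod, List.map_map, Function.comp_def]

/-- The generators of `SteinbergCover` satisfy (R1), (R2). -/
theorem stRels_scGen : StRels D (D.scGen K) where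
  add r hr t u := by
    have h : PresentedGroup.mk (D.steinbergRelsAB K)
        (D.stX r t * D.stX r u * (D.stX r (t + u))⁻¹) = 1 :=
      PresentedGroup.one_of_mem (Or.inl ⟨r, t, u, hr, rfl⟩)
    rw [map_mul, map_mul, map_inv, mul_inv_eq_one] at h
    exact h.symm
  comm r s t u hr hs h1 h2 := by
    have h : PresentedGroup.mk (D.steinbergRelsAB K)
        ((D.stX s u)⁻¹ * (D.stX r t)⁻¹ * D.stX s u * D.stX r t *
          (D.stWord (D.commWord K r s t u))⁻¹) = 1 :=
      PresentedGroup.one_of_mem (Or.inr ⟨r, s, t, u, hr, hs, h1, h2, rfl⟩)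
    rw [map_mul, map_inv, mul_inv_eq_one, stWord_map] at h
    simpa [ChevalleyDatum.scGen] using h

theorem stX_fin (p : Fin D.nroots × K) : D.stX (p.1 : ℕ) p.2 = FreeGroup.of p := by
  simp [ChevalleyDatum.stX]

/-- A map of generators satisfying the relations extends. -/
theorem lift_stX {G : Type*} [Group G] {x : ℕ → K → G} (hx : ∀ r, ¬ r < D.nroots → ∀ t, x r t = 1)
    (r : ℕ) (t : K) : FreeGroup.lift (fun p : Fin D.nroots × K => x p.1 p.2) (D.stX r t) = x r t := by
  by_cases hr : r < D.nroots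
  · simp [ChevalleyDatum.stX, hr]
  · simp [ChevalleyDatum.stX, hr, hx r hr t]

/-- The homomorphism out of `SteinbergCover` given by root elements with (R1), (R2). -/
theorem exists_hom_cover {G : Type*} [Group G] {x : ℕ → K → G} (R : StRels D x)
    (hx : ∀ r, ¬ r < D.nroots → ∀ t, x r t = 1) :
    ∃ φ : D.SteinbergCover K →* G, ∀ r t, φ (D.scGen K r t) = x r t := by
  refine ⟨PresentedGroup.toGroup (f := fun p : Fin D.nroots × K => x p.1 p.2) ?_, fun r t => ?_⟩
  · rintro g (⟨r, t₁, t₂, hr, rfl⟩ | ⟨r, s, t, u, hr, hs, h1, h2, rfl⟩)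
    · simp only [map_mul, map_inv, lift_stX D hx, R.add r hr, mul_inv_cancel]
    · simp only [map_mul, map_inv, stWord_map, lift_stX D hx, R.comm r s t u hr hs h1 h2,
        mul_inv_cancel]
  · exact lift_stX D hx r t

theorem scGen_out {r : ℕ} (hr : ¬ r < D.nroots) (t : K) : D.scGen K r t = 1 := by
  simp [ChevalleyDatum.scGen, ChevalleyDatum.stX, hr]

theorem stGen_out {r : ℕ} (hr : ¬ r < D.nroots) (t : K) : D.stGen K r t = 1 := by
  simp [ChevalleyDatum.stGen, ChevalleyDatum.stX, hr]

theorem closure_scGen :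
    Subgroup.closure {g | ∃ r, r < D.nroots ∧ ∃ t, g = D.scGen K r t} = ⊤ := by
  rw [eq_top_iff, ← PresentedGroup.closure_range_of (D.steinbergRelsAB K), Subgroup.closure_le]
  rintro _ ⟨⟨r, t⟩, rfl⟩
  refine Subgroup.subset_closure ⟨r, r.2, t, ?_⟩
  simp [ChevalleyDatum.scGen, ChevalleyDatum.stX, PresentedGroup.of]

/-- Over a finite field `SteinbergCover` maps isomorphically to `SteinbergGroup`. -/
theorem exists_cover_equiv [Finite K] {W : List (ℕ × ℕ)} (hW : wXAll D W = true) :
    ∃ e : D.SteinbergCover K ≃* D.SteinbergGroup K, ∀ r t, e (D.scGen K r t) = D.stGen K r t := by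
  have := Fintype.ofFinite K
  have R := stRels_scGen (K := K) D
  have R' : StRels D (D.stGen K) :=
    { add := fun r hr t u => by
        have h : PresentedGroup.mk (D.steinbergRels K)
            (D.stX r t * D.stX r u * (D.stX r (t + u))⁻¹) = 1 :=
          PresentedGroup.one_of_mem (Or.inl (Or.inl ⟨r, t, u, hr, rfl⟩))
        rw [map_mul, map_mul, map_inv, mul_inv_eq_one] at h
        exact h.symm
      comm := fun r s t u hr hs h1 h2 => by
        have h : PresentedGroup.mk (D.steinbergRels K)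
            ((D.stX s u)⁻¹ * (D.stX r t)⁻¹ * D.stX s u * D.stX r t *
              (D.stWord (D.commWord K r s t u))⁻¹) = 1 :=
          PresentedGroup.one_of_mem (Or.inl (Or.inr ⟨r, s, t, u, hr, hs, h1, h2, rfl⟩))
        rw [map_mul, map_inv, mul_inv_eq_one, stWord_map] at h
        simpa [ChevalleyDatum.stGen] using h }
  obtain ⟨φ, hφ⟩ := exists_hom_cover D R' fun r hr t => stGen_out D hr t
  have hback : ∀ g ∈ D.steinbergRels K,
      FreeGroup.lift (fun p : Fin D.nroots × K => D.scGen K p.1 p.2) g = 1 := by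
    have hl := lift_stX D (x := D.scGen K) fun r hr t => scGen_out D hr t
    rintro g ((⟨r, t₁, t₂, hr, rfl⟩ | ⟨r, s, t, u, hr, hs, h1, h2, rfl⟩) | ⟨r, t₁, t₂, hr, h1, h2, rfl⟩)
    · simp only [map_mul, map_inv, hl, R.add r hr, mul_inv_cancel]
    · simp only [map_mul, map_inv, stWord_map, hl, R.comm r s t u hr hs h1 h2, mul_inv_cancel]
    · have hh : ∀ t : K, FreeGroup.lift (fun p : Fin D.nroots × K => D.scGen K p.1 p.2) (D.stH r t) =
          hEl D (D.scGen K) r t := fun t => by
        simp only [ChevalleyDatum.stH, stWord_map, hl, ChevalleyDatum.hWord, ChevalleyDatum.nWord,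
          hEl, nEl, List.map_append, List.map_cons, List.map_nil, List.prod_append, List.prod_cons,
          List.prod_nil, mul_one, mul_assoc]
      have hw : wXCheck D r (W.getD r (0, 0)) = true :=
        List.all_eq_true.1 hW r (List.mem_range.2 hr)
      rw [map_mul, map_mul, map_inv, hh, hh, hh, hEl_mul R hr hw h1 h2, mul_inv_cancel]
  set ψ := PresentedGroup.toGroup (f := fun p : Fin D.nroots × K => D.scGen K p.1 p.2) hback with hψ
  have hψ' : ∀ r t, ψ (D.stGen K r t) = D.scGen K r t :=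
    fun r t => lift_stX D (x := D.scGen K) (fun r hr t => scGen_out D hr t) r t
  refine ⟨MonoidHom.toMulEquiv φ ψ (PresentedGroup.ext fun p => ?_) (PresentedGroup.ext fun p => ?_),
    hφ⟩
  · have e : D.scGen K (p.1 : ℕ) p.2 = PresentedGroup.of p := by
      simp [ChevalleyDatum.scGen, stX_fin, PresentedGroup.of]
    rw [MonoidHom.comp_apply, MonoidHom.id_apply, ← e, hφ, hψ']
  · have e : D.stGen K (p.1 : ℕ) p.2 = PresentedGroup.of p := by
      simp [ChevalleyDatum.stGen, stX_fin, PresentedGroup.of]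
    rw [MonoidHom.comp_apply, MonoidHom.id_apply, ← e, hψ', hφ]

end CfsgLib.ChevCollect
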