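import Cfsg.Agent.ChevCollect.CentralChk
import Cfsg.Agent.ChevCollect.Presented
import Cfsg.Agent.Chevalley.WeylData
import Cfsg.Agent.Weyl.RootG2
import Cfsg.Agent.Weyl.RootB2
import Cfsg.Agent.Weyl.RootD4
import Cfsg.Agent.Weyl.RootF4
import Cfsg.Agent.Weyl.RootE6
import Cfsg.Agent.Weyl.RootE7
import Cfsg.Agent.Weyl.RootE8

/-!
# The presented group is a central extension of the Chevalley group
-/

set_option autoImplicit false

namespace CfsgLib.ChevCollect

open Cfsg.Lie CfsgLib.Chevalley
open scoped MatrixGroups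


variable (K : Type*) [Field K] (D : ChevalleyDatum)

/-- The root elements of the Chevalley group. -/
def xGrp (hD : Good D) (r : ℕ) (t : K) : D.group K :=
  if h : r < D.nroots then ⟨X hD ⟨r, h⟩ t, X_mem_group hD _ t⟩ else 1

theorem coe_xGrp (hD : Good D) (r : Root D) (t : K) :
    (xGrp K D hD r t : GL D.Idx K) = X hD r t := by
  simp [xGrp]

theorem stRels_xGrp (hC : GoodComm D) : StRels D (xGrp K D hC.good) where
  add r hr t u := Subtype.ext (by
    simp only [Subgroup.coe_mul, coe_xGrp K D hC.good ⟨r, hr⟩, X_mul])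
  comm r s t u hr hs h1 h2 := by
    have h := X_comm hC (R := K) ⟨r, hr⟩ ⟨s, hs⟩ (fun e => h1 (congrArg Fin.val e))
      (fun e => h2 ((congrArg Fin.val e).trans (hC.good.neg_fin _).symm)) t u
    apply Subtype.ext
    simp only [Subgroup.coe_mul, Subgroup.coe_inv, coe_xGrp K D hC.good ⟨r, hr⟩,
      coe_xGrp K D hC.good ⟨s, hs⟩, SubmonoidClass.coe_list_prod, List.map_map]
    rw [mul_assoc _ (X hC.good ⟨s, hs⟩ u), h]
    simp only [commRhs, wordGL, ChevalleyDatum.commWord, List.map_map]
    group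
    refine congrArg List.prod (List.map_congr_left fun c _ => ?_)
    simp only [Function.comp_apply, xGrp]
    split <;> simp

/-- `SteinbergCover` is a central extension of the Chevalley group. -/
theorem exists_central_of {C : Weyl.Cert D.rank} {M : CoxeterMatrix (Fin D.rank)} {T : Weyl.RootTable}
    (h : Weyl.RootGood C M T) (hW : GoodWeyl D) (hN : nChk D = true) {W : List (ℕ × ℕ)}
    (hX : wXAll D W = true) :
    ∃ θ : D.SteinbergCover K →* D.group K, Function.Surjective θ ∧
      θ.ker ≤ Subgroup.center (D.SteinbergCover K) ∧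
      ∀ (r : ℕ) (t : K), r < D.nroots →
        ((θ (D.scGen K r t) : GL D.Idx K) : Matrix D.Idx D.Idx K) = D.x K r t := by
  obtain ⟨θ, hθ⟩ := exists_hom_cover D (stRels_xGrp K D hW.toGoodComm)
    fun r hr t => by simp [xGrp, hr]
  refine ⟨θ, ?_, ?_, fun r t hr => ?_⟩
  · have e : θ.range.map (D.group K).subtype = D.group K := by
      refine le_antisymm (Subgroup.map_subtype_le _) ?_
      conv_lhs => rw [group_eq_closure hW.good]
      rw [Subgroup.closure_le]
      rintro _ ⟨r, t, rfl⟩
      exact ⟨θ (D.scGen K r t), ⟨_, rfl⟩, by rw [Subgroup.subtype_apply, hθ, coe_xGrp]⟩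
    intro g
    have hg : (g : GL D.Idx K) ∈ θ.range.map (D.group K).subtype := e.symm ▸ g.2
    obtain ⟨g', ⟨a, ha⟩, hg'⟩ := hg
    exact ⟨a, ha.trans (Subtype.ext hg')⟩
  · intro a ha
    replace ha : a ∈ ((D.group K).subtype.comp θ).ker := by
      rw [MonoidHom.mem_ker] at ha ⊢; rw [MonoidHom.comp_apply, ha, map_one]
    revert a
    show ((D.group K).subtype.comp θ).ker ≤ Subgroup.center _
    refine ker_le_center (stRels_scGen D) hW _ (fun r t => ?_) hN hX h ?_
    · rw [MonoidHom.comp_apply, hθ, Subgroup.subtype_apply, coe_xGrp]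
    · rw [eq_top_iff, ← closure_scGen D, Subgroup.closure_le]
      rintro _ ⟨r, hr, t, rfl⟩
      exact Subgroup.subset_closure ⟨⟨r, hr⟩, t, rfl⟩
  · rw [hθ, coe_xGrp K D hW.good ⟨r, hr⟩, ((coe_eq_x_iff hW.good hr).2 rfl)]

theorem exists_central
    (hD : D ∈ [chevG2, chevB2, chevD4, chevF4, chevE6, chevE7, chevE8]) :
    ∃ θ : D.SteinbergCover K →* D.group K, Function.Surjective θ ∧
      θ.ker ≤ Subgroup.center (D.SteinbergCover K) ∧
      ∀ (r : ℕ) (t : K), r < D.nroots →
        ((θ (D.scGen K r t) : GL D.Idx K) : Matrix D.Idx D.Idx K) = D.x K r t := by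
  have hW := goodWeyl_of_mem hD
  simp only [List.mem_cons, List.not_mem_nil, or_false] at hD
  rcases hD with rfl | rfl | rfl | rfl | rfl | rfl | rfl
  exacts [exists_central_of K _ Weyl.rootG2_good hW nChk_G2 wXAll_G2,
    exists_central_of K _ Weyl.rootB2_good hW nChk_B2 wXAll_B2,
    exists_central_of K _ Weyl.rootD4_good hW nChk_D4 wXAll_D4,
    exists_central_of K _ Weyl.rootF4_good hW nChk_F4 wXAll_F4,
    exists_central_of K _ Weyl.rootE6_good hW nChk_E6 wXAll_E6,
    exists_central_of K _ Weyl.rootE7_good hW nChk_E7 wXAll_E7,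
    exists_central_of K _ Weyl.rootE8_good hW nChk_E8 wXAll_E8]

end CfsgLib.ChevCollect
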