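import Cfsg.Agent.SchurTheory.Basic

/-!
# Commutators of lifts in a central extension
-/

set_option autoImplicit false
set_option linter.unusedSectionVars false

namespace CfsgLib.ChevCollect

open scoped commutatorElement

variable {E Q : Type*} [Group E] [Group Q] {π : E →* Q}
  (hπ : Function.Surjective π) (hc : π.ker ≤ Subgroup.center E) (hQ : commutator Q = ⊤)

include hπ hc hQ in
/-- Over a perfect quotient the preimage of the centre is central. -/
theorem mem_center_of_map {z : E} (hz : π z ∈ Subgroup.center Q) : z ∈ Subgroup.center E := by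
  rw [Subgroup.mem_center_iff]
  intro e
  have h : π.comp (MonoidHom.id E) = π.comp (MulAut.conj z).toMonoidHom := by
    ext a
    show π a = π (z * a * z⁻¹)
    rw [map_mul, map_mul, map_inv, ← Subgroup.mem_center_iff.1 hz (π a), mul_inv_cancel_right]
  have hmem : π e ∈ (commutator E).map π := by
    rw [commutator_def, Subgroup.map_commutator, Subgroup.map_top_of_surjective π hπ,
      ← commutator_def, hQ]
    trivial
  obtain ⟨c, hc', he⟩ := hmem
  have h1 : c = z * c * z⁻¹ := SchurTheory.eqOn_commutator π hc _ _ h hc'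
  have hk : c⁻¹ * e ∈ Subgroup.center E := hc (by rw [MonoidHom.mem_ker, map_mul, map_inv, he,
    inv_mul_cancel])
  have h2 : z * c = c * z := by
    rw [eq_mul_inv_iff_mul_eq] at h1
    exact h1.symm
  calc e * z = c * (c⁻¹ * e) * z := by group
    _ = c * (z * (c⁻¹ * e)) := by rw [mul_assoc, Subgroup.mem_center_iff.1 hk z]
    _ = z * e := by rw [← mul_assoc, ← h2, mul_assoc, mul_inv_cancel_left]

include hπ hc hQ in
/-- The commutator of two lifts depends on the images modulo the centre of the quotient. -/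
theorem comm_congr {a a' b b' : E} (ha : (π a)⁻¹ * π a' ∈ Subgroup.center Q)
    (hb : (π b)⁻¹ * π b' ∈ Subgroup.center Q) : ⁅a', b'⁆ = ⁅a, b⁆ := by
  rw [← SchurTheory.commutatorElement_mul_mem_center (x := a) (y := b)
    (mem_center_of_map hπ hc hQ (z := a⁻¹ * a') (by rwa [map_mul, map_inv]))
    (mem_center_of_map hπ hc hQ (z := b⁻¹ * b') (by rwa [map_mul, map_inv])),
    mul_inv_cancel_left, mul_inv_cancel_left]

include hπ hc hQ in
theorem comm_congr_eq {a a' b b' : E} (ha : π a' = π a) (hb : π b' = π b) :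
    ⁅a', b'⁆ = ⁅a, b⁆ :=
  comm_congr hπ hc hQ (by rw [ha, inv_mul_cancel]; exact one_mem _)
    (by rw [hb, inv_mul_cancel]; exact one_mem _)

theorem conj_comm (g a b : E) : g * ⁅a, b⁆ * g⁻¹ = ⁅g * a * g⁻¹, g * b * g⁻¹⁆ := by
  simp only [commutatorElement_def]; group

theorem comm_mul (a b b' : E) : ⁅a, b * b'⁆ = ⁅a, b⁆ * (b * ⁅a, b'⁆ * b⁻¹) := by
  simp only [commutatorElement_def]; group

theorem mul_comm_left (a a' b : E) : ⁅a * a', b⁆ = a * ⁅a', b⁆ * a⁻¹ * ⁅a, b⁆ := by
  simp only [commutatorElement_def]; group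

end CfsgLib.ChevCollect
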