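import Cfsg.Agent.ChevCollect.RankOne
import Cfsg.Prelude.Def_ChevE7

/-!
# Witnesses for the rank one relation in type E7

The check runs in 3 pieces to bound the kernel's memory.
-/

set_option autoImplicit false

namespace CfsgLib.ChevCollect

open Cfsg.Lie

/-- Witnesses for type E7. -/
def witE7 : List (ℕ × ℕ) := [
  (1, 32), (0, 93), (0, 94), (0, 95), (0, 96), (0, 97), (0, 98), (0, 99), (0, 100), (0, 101),
  (0, 102), (0, 103), (0, 104), (0, 105), (0, 106), (0, 107), (0, 108), (0, 109), (0, 110), (0, 111),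
  (0, 112), (0, 113), (0, 114), (0, 115), (0, 116), (0, 117), (0, 118), (0, 119), (0, 120), (0, 121),
  (0, 122), (0, 123), (0, 124), (1, 109), (1, 110), (1, 111), (1, 112), (1, 113), (1, 114), (1, 115),
  (1, 116), (1, 117), (1, 118), (2, 115), (2, 116), (2, 117), (2, 118), (3, 118), (1, 119), (1, 120),
  (1, 121), (1, 122), (1, 123), (2, 119), (2, 120), (2, 121), (2, 122), (3, 119), (3, 120), (3, 121),
  (4, 119), (4, 120), (5, 119), (5, 6), (4, 5), (4, 6), (3, 4), (3, 5), (3, 6), (2, 3),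
  (2, 4), (2, 5), (2, 6), (1, 2), (1, 3), (1, 4), (1, 5), (1, 6), (3, 7), (2, 7),
  (2, 8), (2, 9), (2, 10), (1, 7), (1, 8), (1, 9), (1, 10), (1, 11), (1, 12), (1, 13),
  (1, 14), (1, 15), (1, 16), (0, 1), (0, 2), (0, 3), (0, 4), (0, 5), (0, 6), (0, 7),
  (0, 8), (0, 9), (0, 10), (0, 11), (0, 12), (0, 13), (0, 14), (0, 15), (0, 16), (0, 17),
  (0, 18), (0, 19), (0, 20), (0, 21), (0, 22), (0, 23), (0, 24), (0, 25), (0, 26), (0, 27),
  (0, 28), (0, 29), (0, 30), (0, 31), (0, 32), (1, 93)]

theorem wXAll_E7_0 : ((List.range' 0 42).all fun a =>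
    wXCheck chevE7 a (witE7.getD a (0, 0))) = true := by decide +kernel

theorem wXAll_E7_1 : ((List.range' 42 42).all fun a =>
    wXCheck chevE7 a (witE7.getD a (0, 0))) = true := by decide +kernel

theorem wXAll_E7_2 : ((List.range' 84 42).all fun a =>
    wXCheck chevE7 a (witE7.getD a (0, 0))) = true := by decide +kernel

theorem wXAll_E7 : wXAll chevE7 witE7 = true := by
  rw [wXAll, show List.range chevE7.nroots = List.range' 0 42 ++ List.range' 42 42 ++ List.range' 84 42 from by decide +kernel]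
  simp only [List.all_append, wXAll_E7_0, wXAll_E7_1, wXAll_E7_2, Bool.and_self]

end CfsgLib.ChevCollect
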