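import Cfsg.Agent.ChevCollect.RankOne
import Cfsg.Prelude.Def_ChevE8

/-!
# Witnesses for the rank one relation in type E8

The check runs in 6 pieces to bound the kernel's memory.
-/

set_option autoImplicit false

namespace CfsgLib.ChevCollect

open Cfsg.Lie

/-- Witnesses for type E8. -/
def witE8 : List (ℕ × ℕ) := [
  (1, 119), (0, 120), (0, 122), (0, 125), (0, 129), (0, 134), (0, 140), (0, 146), (0, 151), (0, 155),
  (0, 158), (0, 160), (0, 161), (1, 161), (0, 168), (0, 173), (0, 177), (0, 180), (0, 182), (0, 183),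
  (1, 183), (0, 187), (0, 190), (0, 192), (0, 193), (1, 193), (0, 196), (0, 198), (0, 199), (1, 199),
  (0, 201), (0, 202), (1, 202), (0, 203), (1, 203), (2, 203), (0, 206), (0, 208), (0, 209), (1, 209),
  (0, 211), (0, 212), (1, 212), (0, 213), (1, 213), (2, 213), (0, 215), (0, 216), (1, 216), (0, 217),
  (1, 217), (2, 217), (0, 218), (1, 218), (2, 218), (3, 218), (0, 220), (0, 221), (1, 221), (0, 222),
  (1, 222), (2, 222), (0, 223), (1, 223), (2, 223), (3, 223), (0, 224), (1, 224), (2, 224), (3, 224),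
  (4, 224), (0, 225), (1, 225), (2, 225), (3, 225), (4, 225), (5, 225), (6, 225), (0, 227), (0, 228),
  (1, 228), (0, 229), (1, 229), (2, 229), (0, 230), (1, 230), (2, 230), (3, 230), (0, 231), (1, 231),
  (2, 231), (3, 231), (4, 231), (0, 232), (1, 232), (2, 232), (3, 232), (4, 232), (5, 232), (0, 233),
  (1, 233), (2, 233), (3, 233), (4, 233), (5, 233), (0, 234), (1, 234), (2, 234), (3, 234), (4, 234),
  (0, 235), (1, 235), (2, 235), (3, 235), (0, 236), (1, 236), (2, 236), (0, 237), (1, 237), (0, 238),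
  (0, 1), (1, 2), (0, 2), (2, 3), (1, 3), (0, 3), (3, 4), (2, 4), (1, 4), (0, 4),
  (4, 5), (3, 5), (2, 5), (1, 5), (0, 5), (5, 6), (4, 6), (3, 6), (2, 6), (1, 6),
  (0, 6), (5, 7), (4, 7), (3, 7), (2, 7), (1, 7), (0, 7), (4, 8), (3, 8), (2, 8),
  (1, 8), (0, 8), (3, 9), (2, 9), (1, 9), (0, 9), (2, 10), (1, 10), (0, 10), (1, 11),
  (0, 11), (0, 12), (6, 14), (5, 14), (4, 14), (3, 14), (2, 14), (1, 14), (0, 14), (4, 15),
  (3, 15), (2, 15), (1, 15), (0, 15), (3, 16), (2, 16), (1, 16), (0, 16), (2, 17), (1, 17),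
  (0, 17), (1, 18), (0, 18), (0, 19), (3, 21), (2, 21), (1, 21), (0, 21), (2, 22), (1, 22),
  (0, 22), (1, 23), (0, 23), (0, 24), (2, 26), (1, 26), (0, 26), (1, 27), (0, 27), (0, 28),
  (1, 30), (0, 30), (0, 31), (0, 33), (2, 36), (1, 36), (0, 36), (1, 37), (0, 37), (0, 38),
  (1, 40), (0, 40), (0, 41), (0, 43), (1, 46), (0, 46), (0, 47), (0, 49), (0, 52), (1, 56),
  (0, 56), (0, 57), (0, 59), (0, 62), (0, 66), (0, 71), (1, 78), (0, 78), (0, 79), (0, 81),
  (0, 84), (0, 88), (0, 93), (0, 99), (0, 105), (0, 110), (0, 114), (0, 117), (0, 119), (1, 120)]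

theorem wXAll_E8_0 : ((List.range' 0 40).all fun a =>
    wXCheck chevE8 a (witE8.getD a (0, 0))) = true := by decide +kernel

theorem wXAll_E8_1 : ((List.range' 40 40).all fun a =>
    wXCheck chevE8 a (witE8.getD a (0, 0))) = true := by decide +kernel

theorem wXAll_E8_2 : ((List.range' 80 40).all fun a =>
    wXCheck chevE8 a (witE8.getD a (0, 0))) = true := by decide +kernel

theorem wXAll_E8_3 : ((List.range' 120 40).all fun a =>
    wXCheck chevE8 a (witE8.getD a (0, 0))) = true := by decide +kernel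

theorem wXAll_E8_4 : ((List.range' 160 40).all fun a =>
    wXCheck chevE8 a (witE8.getD a (0, 0))) = true := by decide +kernel

theorem wXAll_E8_5 : ((List.range' 200 40).all fun a =>
    wXCheck chevE8 a (witE8.getD a (0, 0))) = true := by decide +kernel

theorem wXAll_E8 : wXAll chevE8 witE8 = true := by
  rw [wXAll, show List.range chevE8.nroots = List.range' 0 40 ++ List.range' 40 40 ++ List.range' 80 40 ++ List.range' 120 40 ++ List.range' 160 40 ++ List.range' 200 40 from by decide +kernel]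
  simp only [List.all_append, wXAll_E8_0, wXAll_E8_1, wXAll_E8_2, wXAll_E8_3, wXAll_E8_4, wXAll_E8_5, Bool.and_self]

end CfsgLib.ChevCollect
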