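import Cfsg.Agent.ChevCollect.RankOne
import Cfsg.Prelude.Def_ChevB2
import Cfsg.Prelude.Def_ChevG2
import Cfsg.Prelude.Def_ChevD4
import Cfsg.Prelude.Def_ChevF4
import Cfsg.Prelude.Def_ChevE6
import Cfsg.Agent.ChevCollect.DataE7
import Cfsg.Agent.ChevCollect.DataE8

/-!
# Witnesses for the rank one relation in the seven data
-/

set_option autoImplicit false

namespace CfsgLib.ChevCollect

open Cfsg.Lie


/-- Witnesses for type B2. -/
def witB2 : List (ℕ × ℕ) := [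
  (1, 4), (0, 5), (0, 6), (1, 7), (1, 0), (0, 1), (0, 2), (1, 3)]

theorem wXAll_B2 : wXAll chevB2 witB2 = true := by decide +kernel

/-- Witnesses for type G2. -/
def witG2 : List (ℕ × ℕ) := [
  (1, 5), (0, 6), (0, 8), (0, 9), (1, 9), (0, 10), (0, 1), (1, 2), (0, 2), (0, 3),
  (0, 5), (1, 6)]

theorem wXAll_G2 : wXAll chevG2 witG2 = true := by decide +kernel

/-- Witnesses for type D4. -/
def witD4 : List (ℕ × ℕ) := [
  (1, 9), (0, 14), (0, 15), (0, 16), (0, 17), (1, 17), (0, 19), (0, 20), (0, 21), (0, 22),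
  (1, 20), (1, 21), (1, 2), (1, 3), (0, 1), (0, 2), (0, 3), (0, 4), (1, 6), (0, 6),
  (0, 7), (0, 8), (0, 9), (1, 14)]

theorem wXAll_D4 : wXAll chevD4 witD4 = true := by decide +kernel

/-- Witnesses for type F4. -/
def witF4 : List (ℕ × ℕ) := [
  (1, 23), (0, 24), (0, 26), (0, 29), (0, 31), (0, 32), (1, 32), (0, 36), (0, 38), (0, 39),
  (1, 39), (0, 40), (1, 40), (2, 40), (3, 40), (0, 42), (0, 43), (1, 43), (0, 44), (1, 44),
  (2, 44), (0, 45), (1, 45), (0, 46), (0, 1), (1, 2), (0, 2), (2, 3), (1, 3), (0, 3),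
  (1, 4), (0, 4), (0, 5), (3, 7), (2, 7), (1, 7), (0, 7), (1, 8), (0, 8), (0, 9),
  (0, 11), (1, 15), (0, 15), (0, 16), (0, 18), (0, 21), (0, 23), (1, 24)]

theorem wXAll_F4 : wXAll chevF4 witF4 = true := by decide +kernel

/-- Witnesses for type E6. -/
def witE6 : List (ℕ × ℕ) := [
  (1, 25), (0, 46), (0, 47), (0, 48), (0, 49), (0, 50), (0, 51), (0, 52), (0, 53), (0, 54),
  (0, 55), (1, 53), (1, 54), (1, 55), (2, 55), (5, 55), (0, 61), (0, 62), (0, 63), (0, 64),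
  (0, 65), (0, 66), (0, 67), (0, 68), (0, 69), (0, 70), (1, 64), (1, 65), (1, 66), (2, 66),
  (1, 67), (1, 68), (1, 69), (2, 67), (2, 68), (3, 67), (3, 4), (2, 3), (2, 4), (1, 2),
  (1, 3), (1, 4), (2, 5), (1, 5), (1, 6), (1, 7), (0, 1), (0, 2), (0, 3), (0, 4),
  (0, 5), (0, 6), (0, 7), (0, 8), (0, 9), (0, 10), (5, 16), (2, 16), (1, 16), (1, 17),
  (1, 18), (0, 16), (0, 17), (0, 18), (0, 19), (0, 20), (0, 21), (0, 22), (0, 23), (0, 24),
  (0, 25), (1, 46)]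

theorem wXAll_E6 : wXAll chevE6 witE6 = true := by decide +kernel

end CfsgLib.ChevCollect
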