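import Cfsg.Agent.ChevCollect.TorusAct
import Cfsg.Agent.ChevCollect.CentralExt

/-!
# Root elements in a central extension

Given enough torus elements, a central extension of a group with root elements over the
Chevalley group has root elements satisfying (R1), (R2) again: they are commutators with torus
elements, the positive ones generate a subgroup meeting the kernel trivially, and every pair of
roots which are not opposite is moved to positive roots by the Weyl group.
-/

set_option autoImplicit false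
set_option linter.unusedSectionVars false

namespace CfsgLib.ChevCollect

open Cfsg.Lie CfsgLib.Chevalley
open scoped MatrixGroups commutatorElement

variable {K G E : Type*} [Field K] [Group G] [Group E] {D : ChevalleyDatum}

/-- Any lifts of elements of the two root subgroups commute. -/
def LiftComm (x : ℕ → K → G) (π : E →* G) (r s : Root D) : Prop :=
  ∀ (a b : E) (t u : K), π a = x r t → π b = x s u → Commute a b

/-- The lift `⁅γ_r, x_r(v / (d_r - 1))⁆` of `x_r(v)`. -/
noncomputable def yEl (x : ℕ → K → G) (π : E →* G) (γ : Root D → G × K) (r : ℕ) (v : K) : E :=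
  if h : r < D.nroots then
    ⁅Function.invFun π (γ ⟨r, h⟩).1, Function.invFun π (x r (v / ((γ ⟨r, h⟩).2 - 1)))⁆
  else 1

/-- `γ r` is a torus element moving the root elements of `r`. -/
def GamAt (x : ℕ → K → G) (γ : Root D → G × K) (r : Root D) : Prop :=
  (γ r).2 ≠ 1 ∧ ∃ χ, Scales x (γ r).1 χ ∧ χ r = (γ r).2

/-- A central extension of a group with root elements over the Chevalley group. -/
structure LiftBase (hW : GoodWeyl D) (x : ℕ → K → G) (θ : G →* GL D.Idx K) (π : E →* G) :
    Prop where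
  base : RootCtx hW x θ
  surj : Function.Surjective π
  central : π.ker ≤ Subgroup.center E

/-- Root elements over the Chevalley group, lifted to a central extension, with torus elements
moving every root. -/
structure LiftCtx (hW : GoodWeyl D) (x : ℕ → K → G) (θ : G →* GL D.Idx K) (π : E →* G)
    (γ : Root D → G × K) : Prop where
  base : RootCtx hW x θ
  surj : Function.Surjective π
  central : π.ker ≤ Subgroup.center E
  gam : ∀ r, GamAt x γ r

/-- A family of lifts of the root elements, moved by monomial elements among each other. -/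
structure LiftFam (hW : GoodWeyl D) (x : ℕ → K → G) (θ : G →* GL D.Idx K) (π : E →* G)
    (y : ℕ → K → E) : Prop extends LiftBase hW x θ π where
  map_y : ∀ (r : Root D) v, π (y r v) = x r v
  zero : ∀ r : Root D, y r 0 = 1
  add : ∀ r : Root D, half D ≤ r → ∀ v w, y r (v + w) = y r v * y r w
  conj : ∀ (n : E) (σ : Equiv.Perm (Root D)), MonG x (π n) σ → LinPerm σ →
    ∀ r : Root D, half D ≤ (σ r : ℕ) → ∃ c : K, c ≠ 0 ∧ ∀ v, n * y r v * n⁻¹ = y (σ r) (c * v)

variable {hW : GoodWeyl D} {x : ℕ → K → G} {θ : G →* GL D.Idx K} {π : E →* G}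
  {γ : Root D → G × K}

theorem LiftComm.symm {r s : Root D} (h : LiftComm x π r s) : LiftComm x π s r :=
  fun a b t u ha hb => (h b a u t hb ha).symm

namespace LiftBase

variable (L : LiftBase hW x θ π)
include L

theorem map_inv' (g : G) : π (Function.invFun π g) = g := Function.rightInverse_invFun L.surj g

theorem congr {a a' b b' : E} (ha : π a' = π a) (hb : π b' = π b) : ⁅a', b'⁆ = ⁅a, b⁆ :=
  comm_congr_eq L.surj L.central L.base.perfect ha hb

theorem yEl_root (r : Root D) (v : K) : yEl x π γ r v =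
    ⁅Function.invFun π (γ r).1, Function.invFun π (x r (v / ((γ r).2 - 1)))⁆ := by
  simp [yEl]

theorem map_y {r : Root D} (hg : GamAt x γ r) (v : K) : π (yEl x π γ r v) = x r v := by
  obtain ⟨hne, χ, hχ, hχr⟩ := hg
  rw [L.yEl_root, map_commutatorElement, L.map_inv', L.map_inv', commutatorElement_def, hχ,
    ← x_neg L.base.rels r.isLt, ← L.base.rels.add r r.isLt, hχr]
  congr 1
  have : (γ r).2 - 1 ≠ 0 := sub_ne_zero.2 hne
  field_simp
  ring

theorem y_zero (r : Root D) : yEl x π γ r 0 = 1 := by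
  rw [L.yEl_root, zero_div, L.congr rfl (b := 1) (by rw [L.map_inv', x_zero L.base.rels r.isLt,
    map_one]), commutatorElement_one_right]

theorem conj_y {τ : E} {χ : Root D → K} (hτ : Scales x (π τ) χ) {r : Root D} (hg : GamAt x γ r)
    (v : K) :
    τ * yEl x π γ r v * τ⁻¹ = yEl x π γ r (χ r * v) := by
  obtain ⟨-, ψ, hψ, -⟩ := hg
  rw [L.yEl_root, L.yEl_root, conj_comm]
  refine comm_congr L.surj L.central L.base.perfect ?_ ?_
  · rw [map_mul, map_mul, map_inv, L.map_inv']
    exact L.base.conj_scales hτ hψ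
  · rw [map_mul, map_mul, map_inv, L.map_inv', L.map_inv', hτ, mul_div_assoc, inv_mul_cancel]
    exact one_mem _

theorem y_add {r : Root D} (hg : GamAt x γ r) (hs : LiftComm x π r r) (v w : K) :
    yEl x π γ r (v + w) = yEl x π γ r v * yEl x π γ r w := by
  rw [L.yEl_root r (v + w), L.congr rfl (b := Function.invFun π (x r (v / ((γ r).2 - 1))) *
      Function.invFun π (x r (w / ((γ r).2 - 1)))) (by
    rw [map_mul, L.map_inv', L.map_inv', L.map_inv', add_div, L.base.rels.add r r.isLt]),
    comm_mul, ← L.yEl_root, ← L.yEl_root,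
    hs _ _ _ _ (L.map_inv' _) (L.map_y hg w), mul_inv_cancel_right]

theorem y_neg {r : Root D} (hg : GamAt x γ r) (hs : LiftComm x π r r) (v : K) :
    yEl x π γ r (-v) = (yEl x π γ r v)⁻¹ := by
  refine eq_inv_of_mul_eq_one_left ?_
  rw [← L.y_add hg hs, neg_add_cancel, L.y_zero]

/-- Any scaling element gives the same lifts. -/
theorem y_indep {r : Root D} (hg : GamAt x γ r) (hs : LiftComm x π r r) {σ a : E} {ψ : Root D → K}
    (hσ : Scales x (π σ) ψ) (w : K) (ha : π a = x r w) :
    ⁅σ, a⁆ = yEl x π γ r ((ψ r - 1) * w) := by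
  rw [L.congr rfl (b := yEl x π γ r w) (ha.trans (L.map_y hg w).symm), commutatorElement_def,
    L.conj_y hσ hg, sub_mul, one_mul, sub_eq_add_neg, L.y_add hg hs, L.y_neg hg hs]

theorem conj_mon {n : E} {σ : Equiv.Perm (Root D)} (hn : MonG x (π n) σ) {r : Root D}
    (hg : GamAt x γ r) (hg' : GamAt x γ (σ r)) (hs : LiftComm x π (σ r) (σ r)) :
    ∃ c : K, c ≠ 0 ∧ ∀ v, n * yEl x π γ r v * n⁻¹ = yEl x π γ (σ r) (c * v) := by
  obtain ⟨hne, χ, hχ, hχr⟩ := hg
  choose d hd0 hd using hn
  refine ⟨d r, hd0 r, fun v => ?_⟩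
  have hσ : Scales x (π (n * Function.invFun π (γ r).1 * n⁻¹)) (χ ∘ σ.symm) := by
    intro k u
    obtain ⟨k, rfl⟩ := σ.surjective k
    rw [Function.comp_apply, Equiv.symm_apply_apply,
      show u = d k * (u / d k) by rw [mul_div_cancel₀ _ (hd0 k)], ← hd,
      map_mul, map_mul, map_inv, L.map_inv']
    rw [show π n * (γ r).1 * (π n)⁻¹ * (π n * x k (u / d k) * (π n)⁻¹) *
      (π n * (γ r).1 * (π n)⁻¹)⁻¹ = π n * ((γ r).1 * x k (u / d k) * ((γ r).1)⁻¹) * (π n)⁻¹ by
        group, hχ, hd, mul_left_comm]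
  rw [L.yEl_root, conj_comm, L.y_indep hg' hs hσ (d r * (v / ((γ r).2 - 1)))
    (by rw [map_mul, map_mul, map_inv, L.map_inv', hd]), Function.comp_apply,
    Equiv.symm_apply_apply, hχr]
  congr 1
  have : (γ r).2 - 1 ≠ 0 := sub_ne_zero.2 hne
  field_simp

end LiftBase

namespace LiftFam

variable {y : ℕ → K → E} (L : LiftFam hW x θ π y)
include L

theorem neg {r : Root D} (hr : half D ≤ r) (v : K) : y r (-v) = (y r v)⁻¹ := by
  refine eq_inv_of_mul_eq_one_left ?_
  rw [← L.add r hr, neg_add_cancel, L.zero]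

theorem scale {τ : E} {χ : Root D → K} (hτ : Scales x (π τ) χ) {r : Root D} (hr : half D ≤ r)
    (v : K) : τ * y r v * τ⁻¹ = y r (χ r * v) := by
  have hχ : ∀ k : Root D, χ k ≠ 0 := fun k e => by
    have h := hτ k 1
    rw [e, zero_mul, x_zero L.base.rels k.isLt, mul_inv_eq_one, mul_eq_left,
      ← x_zero L.base.rels k.isLt] at h
    exact one_ne_zero (L.base.x_injective k h)
  obtain ⟨c, -, hc⟩ := L.conj τ 1 (fun k => ⟨χ k, hχ k, fun u => hτ k u⟩) linPerm_one r hr
  rw [hc]
  have e := congrArg π (hc 1)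
  rw [map_mul, map_mul, map_inv, L.map_y, L.map_y, hτ] at e
  have e' := L.base.x_injective r e
  rw [mul_one, mul_one] at e'
  rw [e']
  rfl

theorem map_uG (m : ℕ) {g : E} (hg : g ∈ uG D (y) m) : π g ∈ uG D x m := by
  refine (show uG D (y) m ≤ (uG D x m).comap π from (Subgroup.closure_le _).2 ?_) hg
  rintro _ ⟨r, hr, hmr, t, rfl⟩
  rw [SetLike.mem_coe, Subgroup.mem_comap, L.map_y]
  exact Subgroup.subset_closure ⟨r, hr, hmr, t, rfl⟩

theorem exists_uG (m : ℕ) {h : G} (hh : h ∈ uG D x m) : ∃ g ∈ uG D (y) m, π g = h := by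
  refine (show uG D x m ≤ (uG D (y) m).map π from (Subgroup.closure_le _).2 ?_) hh
  rintro _ ⟨r, hr, hmr, t, rfl⟩
  exact ⟨_, Subgroup.subset_closure ⟨r, hr, hmr, t, rfl⟩, L.map_y r t⟩

theorem uG_scale {τ : E} {χ : Root D → K} (hτ : Scales x (π τ) χ) (m : ℕ) {g : E}
    (hg : g ∈ uG D (y) m) : τ * g * τ⁻¹ ∈ uG D (y) m := by
  refine (show uG D (y) m ≤ (uG D (y) m).comap (MulAut.conj τ).toMonoidHom from
    (Subgroup.closure_le _).2 ?_) hg
  rintro _ ⟨r, hr, hmr, t, rfl⟩
  show τ * y r t * τ⁻¹ ∈ uG D (y) m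
  rw [L.scale hτ hr]
  exact Subgroup.subset_closure ⟨r, hr, hmr, _, rfl⟩

variable (hpair : ∀ m k : Root D, half D ≤ m → (m : ℕ) < k → LiftComm x π m k ∨
    (∃ τ χ, Scales x τ χ ∧ χ m = 1 ∧ χ k ≠ 1) ∨
    (∀ v u, y m v * y k u * (y m v)⁻¹ ∈ uG D y (m + 1)) ∨
    ∃ p : ℕ, (p : K) = 0 ∧ ∀ z : E, π z = 1 → z ^ p = 1 → z = 1)
include hpair

/-- The positive lifts generate a subgroup meeting the kernel trivially. -/
theorem uG_inj {g : E} (hg : g ∈ uG D (y) 0) (h1 : π g = 1) : g = 1 := by
  suffices H : ∀ (k m : ℕ), half D ≤ m → m + k = D.nroots → ∀ g ∈ uG D y m, π g = 1 → g = 1 by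
    refine H (D.nroots - half D) (half D) le_rfl (by have := hW.good.two_half; omega) g ?_ h1
    refine (show uG D y 0 ≤ uG D y (half D) from Subgroup.closure_mono ?_) hg
    rintro _ ⟨r, hr, -, t, rfl⟩
    exact ⟨r, hr, hr, t, rfl⟩
  intro n
  induction n with
  | zero =>
    intro m _ hm g hg _
    have e : uG D y m = ⊥ := by
      rw [eq_bot_iff, uG, Subgroup.closure_le]
      rintro _ ⟨r, -, hmr, -, -⟩
      have := r.isLt
      omega
    rwa [e, Subgroup.mem_bot] at hg
  | succ n ih =>
    intro m hm hmn g hg hg1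
    have hinj : ∀ a ∈ uG D y (m + 1), ∀ b ∈ uG D y (m + 1), π a = π b → a = b := fun a ha b hb e =>
      inv_mul_eq_one.1 (ih (m + 1) (by omega) (by omega) _ (mul_mem (inv_mem ha) hb)
        (by rw [map_mul, map_inv, e, inv_mul_cancel]))
    let r : Root D := ⟨m, by omega⟩
    have hconj : ∀ v, ∀ g ∈ uG D y (m + 1), y r v * g * (y r v)⁻¹ ∈ uG D y (m + 1) := by
      intro v g hg
      refine (show uG D y (m + 1) ≤ (uG D y (m + 1)).comap (MulAut.conj (y r v)).toMonoidHom from
        (Subgroup.closure_le _).2 ?_) hg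
      rintro _ ⟨k, hk, hmk, u, rfl⟩
      show y r v * y k u * (y r v)⁻¹ ∈ uG D y (m + 1)
      have hrk : (r : ℕ) < k := hmk
      by_cases hcm : LiftComm x π r k
      · rw [hcm _ _ _ _ (L.map_y r v) (L.map_y k u), mul_inv_cancel_right]
        exact Subgroup.subset_closure ⟨k, hk, hmk, u, rfl⟩
      by_cases hexact : ∀ v u, y r v * y k u * (y r v)⁻¹ ∈ uG D y (m + 1)
      · exact hexact v u
      have hex : ∀ u, ∃ g ∈ uG D y (m + 1), π g = π (y r v * y k u * (y r v)⁻¹) := fun u => by
        refine L.exists_uG _ ?_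
        rw [map_mul, map_mul, map_inv, L.map_y, L.map_y]
        refine conj_pos L.base.rels hW (a := r) (s := k) hm hk (fun e => by rw [e] at hrk; omega) v u
          (Subgroup.subset_closure ⟨k, hk, hmk, u, rfl⟩) fun j h1 _ c => ?_
        exact Subgroup.subset_closure ⟨j, le_trans hm h1.le, h1, c, rfl⟩
      choose w hw hwπ using hex
      set δ : K → E := fun u => (w u)⁻¹ * (y r v * y k u * (y r v)⁻¹) with hδ
      have hc : ∀ u, δ u ∈ Subgroup.center E := fun u => L.central (by
        rw [MonoidHom.mem_ker, map_mul, map_inv, hwπ, inv_mul_cancel])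
      have hy : ∀ u, y r v * y k u * (y r v)⁻¹ = w u * δ u := fun u => by
        rw [hδ, mul_inv_cancel_left]
      have hadd : ∀ u u', δ (u + u') = δ u * δ u' := by
        intro u u'
        have e : y r v * y k (u + u') * (y r v)⁻¹ = (w u * w u') * (δ u * δ u') := by
          rw [show y k (u + u') = y k u * y k u' from L.add k hk u u',
            show y r v * (y k u * y k u') * (y r v)⁻¹ =
              (y r v * y k u * (y r v)⁻¹) * (y r v * y k u' * (y r v)⁻¹) by group, hy, hy]
          rw [mul_assoc, ← mul_assoc (δ u), ← Subgroup.mem_center_iff.1 (hc u) (w u')]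
          group
        have hπc : ∀ u, π (δ u) = 1 := fun u => by
          rw [hδ, map_mul, map_inv, hwπ, inv_mul_cancel]
        have e' : w (u + u') = w u * w u' := hinj _ (hw _) _ (mul_mem (hw u) (hw u')) (by
          rw [hwπ, e, map_mul, map_mul _ (δ u), hπc, hπc, mul_one, mul_one])
        rw [hy, e'] at e
        exact mul_left_cancel e
      rcases (((hpair r k hm hrk).resolve_left hcm).imp_right fun h => h.resolve_left hexact) with
        ⟨τ, χ, hτ, hχm, hχk⟩ | ⟨p, hp, htf⟩
      rotate_left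
      · have hpow : ∀ (j : ℕ) (u : K), δ ((j : K) * u) = δ u ^ j := by
          intro j u
          induction j with
          | zero =>
            have h := hadd 0 0
            rw [add_zero] at h
            rw [Nat.cast_zero, zero_mul, pow_zero, left_eq_mul.1 h]
          | succ j ihj => rw [Nat.cast_succ, add_mul, one_mul, hadd, ihj, pow_succ]
        have h0 : δ u = 1 := htf _ (by rw [hδ, map_mul, map_inv, hwπ, inv_mul_cancel]) (by
          rw [← hpow, hp, zero_mul]
          have h := hadd 0 0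
          rw [add_zero] at h
          exact left_eq_mul.1 h)
        rw [hy, h0, mul_one]
        exact hw u
      obtain ⟨τ', rfl⟩ := L.surj τ
      have hequiv : ∀ u, δ (χ k * u) = δ u := by
        intro u
        have e : y r v * y k (χ k * u) * (y r v)⁻¹ = (τ' * w u * τ'⁻¹) * δ u := by
          rw [show y k (χ k * u) = τ' * y k u * τ'⁻¹ from (L.scale hτ hk u).symm]
          rw [show y r v = τ' * y r v * τ'⁻¹ by rw [L.scale hτ hm, hχm, one_mul],
            show (τ' * y r v * τ'⁻¹) * (τ' * y k u * τ'⁻¹) * (τ' * y r v * τ'⁻¹)⁻¹ =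
              τ' * (y r v * y k u * (y r v)⁻¹) * τ'⁻¹ by group, hy, mul_assoc _ (w u),
            mul_assoc τ', mul_assoc (w u), ← Subgroup.mem_center_iff.1 (hc u) τ'⁻¹]
          group
        have e' : w (χ k * u) = τ' * w u * τ'⁻¹ := hinj _ (hw _) _ (L.uG_scale hτ _ (hw u)) (by
          rw [hwπ, e, map_mul _ _ (δ u), show π (δ u) = 1 by
            rw [hδ, map_mul, map_inv, hwπ, inv_mul_cancel], mul_one])
        rw [hy, e'] at e
        exact mul_left_cancel e
      have h0 : δ u = 1 := by
        have h2 := hequiv (u / (χ k - 1))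
        rw [show χ k * (u / (χ k - 1)) = u + u / (χ k - 1) by
          have := sub_ne_zero.2 hχk; field_simp; ring, hadd] at h2
        exact mul_eq_right.1 h2
      rw [hy, h0, mul_one]
      exact hw u
    obtain ⟨t, g', hg', rfl⟩ : ∃ t : K, ∃ g' ∈ uG D y (m + 1), g = y r t * g' := by
      clear hg1
      induction hg using Subgroup.closure_induction with
      | mem z hz =>
        obtain ⟨k, hk, hmk, t, rfl⟩ := hz
        rcases eq_or_lt_of_le hmk with e | hlt
        · exact ⟨t, 1, one_mem _, by rw [mul_one, show r = k from Fin.ext e]⟩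
        · exact ⟨0, _, Subgroup.subset_closure ⟨k, hk, hlt, t, rfl⟩,
            by rw [show y r 0 = 1 from L.zero r, one_mul]⟩
      | one => exact ⟨0, 1, one_mem _, by rw [show y r 0 = 1 from L.zero r, one_mul]⟩
      | mul a b _ _ ha hb =>
        obtain ⟨t, g', hg', rfl⟩ := ha
        obtain ⟨s, h', hh', rfl⟩ := hb
        refine ⟨t + s, (y r s)⁻¹ * g' * y r s * h', mul_mem ?_ hh', ?_⟩
        · have := hconj (-s) g' hg'
          rwa [show y r (-s) = (y r s)⁻¹ from L.neg hm s, inv_inv] at this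
        · rw [show y r (t + s) = y r t * y r s from L.add r hm t s]; group
      | inv a _ ha =>
        obtain ⟨t, g', hg', rfl⟩ := ha
        refine ⟨-t, y r t * g'⁻¹ * (y r t)⁻¹, hconj t _ (inv_mem hg'), ?_⟩
        rw [show y r (-t) = (y r t)⁻¹ from L.neg hm t]; group
    obtain ⟨i, hi⟩ := hW.toGoodUni.exists_coroot_ne K r
    have e := congrArg θ hg1
    rw [map_mul, map_mul, L.map_y, L.base.map_x, map_one] at e
    have e' := entry_X_mul hW.good (b := false) (r := r) hm t
      (ChevCollect.map_uG L.base.rels hW θ L.base.map_x _ (L.map_uG (m + 1) hg')) i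
    rw [e, Units.val_one, Matrix.one_apply_ne (by simp)] at e'
    obtain rfl : t = 0 := (mul_eq_zero.1 e'.symm).resolve_right hi
    rw [show y r 0 = 1 from L.zero r, one_mul] at hg1 ⊢
    exact ih (m + 1) (by omega) (by omega) g' hg' hg1

/-- The lifts satisfy (R1), (R2). -/
theorem stRels_y : StRels D (y) where
  add r hr t u := by
    obtain ⟨n, σ, hn, hlin, -, hp, -⟩ := L.base.exists_pos_pair ⟨r, hr⟩ ⟨r, hr⟩ (fun e => by
      have := congrArg Fin.val e; have := hW.good.two_half
      rw [Fin.val_rev] at *; simp only at *; omega)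
    obtain ⟨n, rfl⟩ := L.surj n
    obtain ⟨c, -, hc⟩ := L.conj n σ hn hlin _ hp
    refine mul_left_cancel (a := n) (mul_right_cancel (b := n⁻¹) ?_)
    rw [show n * (y r t * y r u) * n⁻¹ =
      (n * y r t * n⁻¹) * (n * y r u * n⁻¹) by group]
    rw [hc, hc, hc, mul_add, L.add _ hp]
  comm r s t u hr hs h1 h2 := by
    let a : Root D := ⟨r, hr⟩
    let b : Root D := ⟨s, hs⟩
    have hab : b ≠ a := fun e => h1 (congrArg Fin.val e)
    have hrev : b ≠ a.rev := fun e => h2 ((congrArg Fin.val e).trans (hW.good.neg_fin a).symm)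
    obtain ⟨n, σ, hn, hlin, -, hpa, hpb⟩ := L.base.exists_pos_pair a b hrev
    obtain ⟨n, rfl⟩ := L.surj n
    have hmem : ∀ k : Root D, half D ≤ (σ k : ℕ) → ∀ v,
        y k v ∈ (uG D (y) 0).comap (MulAut.conj n).toMonoidHom := by
      intro k hk v
      obtain ⟨c, -, hc⟩ := L.conj n σ hn hlin k hk
      show n * y k v * n⁻¹ ∈ uG D (y) 0
      rw [hc]
      exact Subgroup.subset_closure ⟨σ k, hk, Nat.zero_le _, _, rfl⟩
    set δ := (y s u)⁻¹ * (y r t)⁻¹ * y s u * y r t *
      (((D.commWord K r s t u).map fun p => y p.1 p.2).prod)⁻¹ with hδ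
    have hπδ : π δ = 1 := by
      rw [hδ, map_mul, map_inv, map_list_prod, List.map_map, map_mul, map_mul, map_mul, map_inv,
        map_inv, show π (y r t) = x r t from L.map_y a t,
        show π (y s u) = x s u from L.map_y b u, L.base.rels.comm r s t u hr hs h1 h2,
        mul_inv_eq_one]
      refine congrArg List.prod (List.map_congr_left fun p hp => ?_)
      simp only [ChevalleyDatum.commWord, List.mem_map] at hp
      obtain ⟨c, hc, rfl⟩ := hp
      obtain ⟨hk, -⟩ := term_pos hW.good L.base.wtchk hlin (r := a) (s := b) hab hrev hpa hpb hc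
      exact (L.map_y ⟨c.1, hk⟩ _).symm
    have hδmem : δ ∈ (uG D (y) 0).comap (MulAut.conj n).toMonoidHom := by
      refine mul_mem (mul_mem (mul_mem (mul_mem (inv_mem (hmem b hpb u)) (inv_mem (hmem a hpa t)))
        (hmem b hpb u)) (hmem a hpa t)) (inv_mem (Subgroup.list_prod_mem _ fun z hz => ?_))
      simp only [ChevalleyDatum.commWord, List.map_map, List.mem_map] at hz
      obtain ⟨c, hc, rfl⟩ := hz
      obtain ⟨hk, hkp⟩ := term_pos hW.good L.base.wtchk hlin (r := a) (s := b) hab hrev hpa hpb hc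
      exact hmem ⟨c.1, hk⟩ hkp _
    have hcen : δ ∈ Subgroup.center E := L.central hπδ
    have hconj : n * δ * n⁻¹ = δ := by
      rw [Subgroup.mem_center_iff.1 hcen n, mul_inv_cancel_right]
    have h' : n * δ * n⁻¹ ∈ uG D (y) 0 := hδmem
    rw [hconj] at h'
    exact mul_inv_eq_one.1 (L.uG_inj hpair h' hπδ)

end LiftFam

namespace LiftCtx

variable (L : LiftCtx hW x θ π γ)
include L

theorem liftBase : LiftBase hW x θ π := ⟨L.base, L.surj, L.central⟩

theorem map_y (r : Root D) (v : K) : π (yEl x π γ r v) = x r v := L.liftBase.map_y (L.gam r) v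

/-- The commutators with the torus satisfy (R1), (R2). -/
theorem stRels_y (hself : ∀ r : Root D, half D ≤ r → LiftComm x π r r)
    (hpair : ∀ m k : Root D, half D ≤ m → (m : ℕ) < k → LiftComm x π m k ∨
      ∃ τ χ, Scales x τ χ ∧ χ m = 1 ∧ χ k ≠ 1) : StRels D (yEl x π γ) :=
  (LiftFam.mk L.liftBase L.map_y L.liftBase.y_zero
    (fun r hr => L.liftBase.y_add (L.gam r) (hself r hr))
    (fun _ σ hn _ r hr => L.liftBase.conj_mon hn (L.gam r) (L.gam (σ r)) (hself _ hr))).stRels_y
    fun m k hm hmk => (hpair m k hm hmk).imp id Or.inl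

end LiftCtx

end CfsgLib.ChevCollect
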