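import Cfsg.Agent.ChevCollect.Weights
import Cfsg.Prelude.Def_ChevG2
import Cfsg.Prelude.Def_ChevB2
import Cfsg.Prelude.Def_ChevD4
import Cfsg.Prelude.Def_ChevF4
import Cfsg.Prelude.Def_ChevE6
import Cfsg.Prelude.Def_ChevE7
import Cfsg.Prelude.Def_ChevE8

/-!
# Torus elements separating the roots, checked on the tables
-/

set_option autoImplicit false

namespace CfsgLib.ChevCollect

open Cfsg.Lie CfsgLib.Chevalley

/-- The weight of the root `r` on the torus element with exponents `e`. -/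
def wtDot (D : ChevalleyDatum) (e : ℕ → ℤ) (r : ℕ) : ℤ :=
  ((List.range D.rank).map fun i => e i * D.cartan i r).sum

/-- Exponents vanishing on `m` and not on `k`. -/
def wtE (D : ChevalleyDatum) (m k i : ℕ) : ℤ :=
  if wtDot D (fun j => (D.coroot.getD k #[]).getD j 0) m = 0 then (D.coroot.getD k #[]).getD i 0
  else 2 * (D.coroot.getD k #[]).getD i 0 -
    wtDot D (fun j => (D.coroot.getD k #[]).getD j 0) m * (D.coroot.getD m #[]).getD i 0

/-- A torus element fixes `x_m` and scales `x_k` by a power at most the third. -/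
def pairOK (D : ChevalleyDatum) (m k : ℕ) : Bool :=
  decide (wtDot D (wtE D m k) m = 0) && decide (0 < (wtDot D (wtE D m k) k).natAbs) &&
    decide ((wtDot D (wtE D m k) k).natAbs ≤ 3)

/-- Some combination of two weights of `r` is one. -/
def unitOK (D : ChevalleyDatum) (r : ℕ) : Bool :=
  (List.range D.rank).any fun i => (List.range D.rank).any fun j =>
    [(-1 : ℤ), 0, 1].any fun a => [(-1 : ℤ), 0, 1].any fun b =>
      decide (a * D.cartan i r + b * D.cartan j r = 1)

/-- `c = (r, a, b, k)` shows `r` inside the commutator of two roots it commutes with. -/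
def selfOK (D : ChevalleyDatum) (c : ℕ × ℕ × ℕ × ℕ) : Bool :=
  decide (c.2.1 < D.nroots ∧ c.2.2.1 < D.nroots ∧ c.2.2.2 < D.nroots ∧ c.2.2.1 ≠ c.2.1 ∧
    c.2.2.1 ≠ D.neg c.2.1 ∧ c.2.1 ≠ c.1 ∧ c.2.1 ≠ D.neg c.1 ∧ c.2.2.1 ≠ c.1 ∧
    c.2.2.1 ≠ D.neg c.1 ∧ c.2.2.2 ≠ c.1 ∧ c.2.2.2 ≠ D.neg c.1 ∧
    D.commTerms c.1 c.2.1 = [] ∧ D.commTerms c.1 c.2.2.1 = [] ∧ D.commTerms c.1 c.2.2.2 = []) &&
  pairOK D c.1 c.2.2.2 &&
  match D.commTerms c.2.1 c.2.2.1 with
  | [(k, _, 1, 1), (r, C, 2, 1)] => decide (k = c.2.2.2 ∧ r = c.1 ∧ C * C = 1)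
  | _ => false

/-- The torus separates the roots. -/
def sepChk (D : ChevalleyDatum) (cs : List (ℕ × ℕ × ℕ × ℕ)) : Bool :=
  cs.all (selfOK D) &&
  (List.range D.nroots).all fun r =>
    ((List.range D.rank).any fun i =>
      decide (0 < (D.cartan i r).natAbs) && decide ((D.cartan i r).natAbs ≤ 3)) &&
    (!decide (half D ≤ r) || ((unitOK D r || cs.any fun c => c.1 == r) &&
      (List.range D.nroots).all fun k => !decide (r < k) || pairOK D r k))

theorem wtChk_G2 : wtChk chevG2 = true := by decide +kernel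
theorem wtChk_B2 : wtChk chevB2 = true := by decide +kernel
theorem wtChk_D4 : wtChk chevD4 = true := by decide +kernel
theorem wtChk_F4 : wtChk chevF4 = true := by decide +kernel
theorem wtChk_E6 : wtChk chevE6 = true := by decide +kernel

theorem sepChk_G2 : sepChk chevG2 [] = true := by decide +kernel
theorem sepChk_B2 : sepChk chevB2 [(7, 5, 4, 6), (4, 6, 0, 2)] = true := by decide +kernel
theorem sepChk_D4 : sepChk chevD4 [] = true := by decide +kernel
theorem sepChk_F4 : sepChk chevF4 [] = true := by decide +kernel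
theorem sepChk_E6 : sepChk chevE6 [] = true := by decide +kernel

end CfsgLib.ChevCollect
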