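import Cfsg.Agent.ChevCollect.Pairs
import Cfsg.Agent.ChevCollect.SepChk

/-!
# Lifting the relations over a field with at least five elements
-/

set_option autoImplicit false
set_option linter.unusedSectionVars false

namespace CfsgLib.ChevCollect

open Cfsg.Lie CfsgLib.Chevalley
open scoped MatrixGroups

variable {K G E : Type*} [Field K] [Group G] [Group E] {D : ChevalleyDatum}

theorem exists_not_root (hK : ∃ s : Finset K, 4 < s.card) :
    ∃ c : K, c ≠ 0 ∧ ∀ k : ℤ, 0 < k.natAbs → k.natAbs ≤ 3 → c ^ k ≠ 1 := by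
  classical
  obtain ⟨s, hs⟩ := hK
  by_contra hcon
  simp only [not_exists, not_and, not_forall, not_not] at hcon
  have h23 : ∀ c : K, c ≠ 0 → c ^ 2 = 1 ∨ c ^ 3 = 1 := by
    intro c hc
    obtain ⟨k, h1, h2, h3⟩ := hcon c hc
    have h4 : c ^ k.natAbs = 1 := by
      rcases Int.natAbs_eq k with e | e
      · rwa [e, zpow_natCast] at h3
      · rwa [e, zpow_neg, zpow_natCast, inv_eq_one] at h3
    interval_cases k.natAbs
    · left; rw [pow_one] at h4; rw [h4, one_pow]
    · exact Or.inl h4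
    · exact Or.inr h4
  have hall : (∀ c : K, c ≠ 0 → c ^ 2 = 1) ∨ ∀ c : K, c ≠ 0 → c ^ 3 = 1 := by
    refine or_iff_not_imp_left.2 fun h b hb => ?_
    simp only [not_forall] at h
    obtain ⟨a, ha, ha2⟩ := h
    by_contra hb3
    have ha3 := (h23 a ha).resolve_left ha2
    have hb2 := (h23 b hb).resolve_right hb3
    rcases h23 (a * b) (mul_ne_zero ha hb) with e | e
    · rw [mul_pow, hb2, mul_one] at e
      exact ha2 e
    · rw [mul_pow, ha3, one_mul] at e
      exact hb3 e
  have hcard : ∀ n : ℕ, 0 < n → n ≤ 3 → (∀ c : K, c ≠ 0 → c ^ n = 1) → False := by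
    intro n hn hn3 h
    have hsub : s.erase 0 ⊆ (Polynomial.nthRoots n (1 : K)).toFinset := fun c hc => by
      rw [Multiset.mem_toFinset, Polynomial.mem_nthRoots hn]
      exact h c (Finset.ne_of_mem_erase hc)
    have := (Finset.card_le_card hsub).trans
      ((Multiset.toFinset_card_le _).trans (Polynomial.card_nthRoots n 1))
    have := Finset.pred_card_le_card_erase (s := s) (a := (0 : K))
    omega
  rcases hall with h | h
  · exact hcard 2 (by omega) (by omega) h
  · exact hcard 3 (by omega) le_rfl h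

theorem exists_quad (hK : ∃ s : Finset K, 4 < s.card) :
    ∃ c : K, c ≠ 0 ∧ c ≠ 1 ∧ c * c - c + 1 ≠ 0 := by
  classical
  obtain ⟨s, hs⟩ := hK
  by_contra hcon
  simp only [not_exists, not_and, not_not] at hcon
  have h1 : 2 < ((s.erase 0).erase 1).card := by
    have := Finset.pred_card_le_card_erase (s := s) (a := (0 : K))
    have := Finset.pred_card_le_card_erase (s := s.erase 0) (a := (1 : K))
    omega
  obtain ⟨a, b, c, ha, hb, hc, hab, hac, hbc⟩ := Finset.two_lt_card_iff.1 h1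
  have hq : ∀ z ∈ (s.erase 0).erase 1, z * z - z + 1 = 0 := fun z hz =>
    hcon z (Finset.ne_of_mem_erase (Finset.mem_of_mem_erase hz)) (Finset.ne_of_mem_erase hz)
  have eb : (a - b) * (a + b - 1) = 0 := by linear_combination hq a ha - hq b hb
  have ec : (a - c) * (a + c - 1) = 0 := by linear_combination hq a ha - hq c hc
  have hb' := (mul_eq_zero.1 eb).resolve_left (sub_ne_zero.2 hab)
  have hc' := (mul_eq_zero.1 ec).resolve_left (sub_ne_zero.2 hac)
  exact hbc (by linear_combination hb' - hc')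

variable {x : ℕ → K → G} {hW : GoodWeyl D} {θ : G →* GL D.Idx K} {π : E →* G}

theorem exists_scales_dot (C : RootCtx hW x θ) (e : ℕ → ℤ) {c : K} (hc : c ≠ 0) :
    ∃ τ χ, Scales x τ χ ∧ ∀ r : Root D, χ r = c ^ wtDot D e r := by
  obtain ⟨τ, hτ⟩ := C.exists_scales (fun i => e i) hc
  refine ⟨τ, _, hτ, fun r => ?_⟩
  show c ^ _ = c ^ _
  rw [wtDot, ← List.sum_toFinset _ List.nodup_range, List.toFinset_range,
    ← Fin.sum_univ_eq_sum_range]

theorem exists_sep_pair (C : RootCtx hW x θ) (hK : ∃ s : Finset K, 4 < s.card) {m k : Root D}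
    (h : pairOK D m k = true) : ∃ τ χ, Scales x τ χ ∧ χ m = 1 ∧ χ k ≠ 1 := by
  obtain ⟨c, hc, hck⟩ := exists_not_root hK
  simp only [pairOK, Bool.and_eq_true, decide_eq_true_eq] at h
  obtain ⟨τ, χ, hτ, hχ⟩ := exists_scales_dot C (wtE D m k) hc
  exact ⟨τ, χ, hτ, by rw [hχ, h.1.1, zpow_zero], by rw [hχ]; exact hck _ h.1.2 h.2⟩

/-- Every central extension has root elements with (R1), (R2) over the given ones. -/
theorem exists_lift (C : RootCtx hW x θ) (hπ : Function.Surjective π)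
    (hc : π.ker ≤ Subgroup.center E) {cs : List (ℕ × ℕ × ℕ × ℕ)} (hsep : sepChk D cs = true)
    (hK : ∃ s : Finset K, 4 < s.card) :
    ∃ y : ℕ → K → E, StRels D y ∧ (∀ r, ¬ r < D.nroots → ∀ t, y r t = 1) ∧
      ∀ r, r < D.nroots → ∀ t, π (y r t) = x r t := by
  obtain ⟨c, hc0, hck⟩ := exists_not_root hK
  simp only [sepChk, Bool.and_eq_true, List.all_eq_true, List.mem_range, List.any_eq_true,
    decide_eq_true_eq, Bool.or_eq_true, Bool.not_eq_true', decide_eq_false_iff_not,
    beq_iff_eq] at hsep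
  obtain ⟨hcs, hroot⟩ := hsep
  have hgam : ∀ r : Root D, ∃ p : G × K, p.2 ≠ 1 ∧ ∃ χ, Scales x p.1 χ ∧ χ r = p.2 := by
    intro r
    obtain ⟨i, hi, h1, h2⟩ := (hroot r r.isLt).1
    exact ⟨(_, _), hck _ h1 h2, _, C.scales_hEl ⟨i, hi⟩ hc0, rfl⟩
  choose γ hγ using hgam
  have L : LiftCtx hW x θ π γ := ⟨C, hπ, hc, hγ⟩
  have hself : ∀ r : Root D, half D ≤ r → LiftComm x π r r := by
    intro r hr
    rcases ((hroot r r.isLt).2.resolve_left (not_not.2 hr)).1 with hu | ⟨q, hq, hqr⟩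
    · simp only [unitOK, List.any_eq_true, List.mem_range, decide_eq_true_eq] at hu
      obtain ⟨i, hi, j, hj, a, -, b, -, hab⟩ := hu
      obtain ⟨c₀, h0, h1, h2⟩ := exists_quad hK
      refine liftComm_self_quad C hπ hc (fun d hd => ?_) h0 h1 h2
      refine ⟨_, _, (C.scales_hEl ⟨i, hi⟩ (zpow_ne_zero a hd)).mul
        (C.scales_hEl ⟨j, hj⟩ (zpow_ne_zero b hd)), ?_⟩
      simp only [Pi.mul_apply]
      rw [← zpow_mul, ← zpow_mul, ← zpow_add₀ hd, hab, zpow_one]
    · obtain ⟨rr, a, b, k⟩ := q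
      have hq' := hcs _ hq
      simp only [selfOK, Bool.and_eq_true, decide_eq_true_eq] at hq'
      obtain ⟨⟨⟨ha, hb, hk, hba, hbna, har, hanr, hbr, hbnr, hkr, hknr, hta, htb, htk⟩, hpk⟩, hm⟩ := hq'
      simp only at hqr
      subst hqr
      split at hm
      · next k' C₁ r' C₂ hterms =>
        simp only [decide_eq_true_eq] at hm
        obtain ⟨rfl, rfl, hC⟩ := hm
        have hrk : LiftComm x π r ⟨k', hk⟩ := by
          obtain ⟨τ, χ, hτ, h1, h2⟩ := exists_sep_pair C hK (m := r) (k := ⟨k', hk⟩) hpk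
          exact liftComm_of_scales C hπ hc (r := r) (s := ⟨k', hk⟩)
            (commute_of_terms C.rels (r := r) (s := ⟨k', hk⟩) hkr hknr htk) hτ h1 h2
        exact liftComm_self_terms C hπ hc (r := r) (a := ⟨a, ha⟩) (b := ⟨b, hb⟩) (k := ⟨k', hk⟩)
          (fun e => hba (congrArg Fin.val e))
          (fun e => hbna ((congrArg Fin.val e).trans (hW.good.neg_fin ⟨a, ha⟩).symm)) hterms hC
          (commute_of_terms C.rels (r := r) (s := ⟨a, ha⟩) har hanr hta)
          (commute_of_terms C.rels (r := r) (s := ⟨b, hb⟩) hbr hbnr htb) hrk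
      · simp at hm
  have hpair : ∀ m k : Root D, half D ≤ m → (m : ℕ) < k → LiftComm x π m k ∨
      ∃ τ χ, Scales x τ χ ∧ χ m = 1 ∧ χ k ≠ 1 := fun m k hm hmk =>
    Or.inr (exists_sep_pair C hK
      ((((hroot m m.isLt).2.resolve_left (not_not.2 hm)).2 k k.isLt).resolve_left (not_not.2 hmk)))
  exact ⟨_, L.stRels_y hself hpair, fun r hr t => by simp [yEl, hr],
    fun r hr t => L.map_y ⟨r, hr⟩ t⟩

end CfsgLib.ChevCollect
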