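import Cfsg.Agent.ChevCollect.SepChk

/-!
# The separation checks for E7
-/

set_option autoImplicit false

namespace CfsgLib.ChevCollect

open Cfsg.Lie

theorem wtChk_E7 : wtChk chevE7 = true := by decide +kernel
theorem sepChk_E7 : sepChk chevE7 [] = true := by decide +kernel

end CfsgLib.ChevCollect
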