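import Cfsg.Agent.ChevCollect.CentralData
import Cfsg.Agent.ChevCollect.LiftLarge
import Cfsg.Agent.ChevCollect.SepChkE7
import Cfsg.Agent.ChevCollect.SepChkE8

/-!
# The presented group has no central extensions over a field with at least five elements
-/

set_option autoImplicit false

namespace CfsgLib.ChevCollect

open Cfsg.Lie CfsgLib.Chevalley
open scoped MatrixGroups

/-- The checks for one of the seven data. -/
theorem exists_checks {D : ChevalleyDatum}
    (hD : D ∈ [chevG2, chevB2, chevD4, chevF4, chevE6, chevE7, chevE8]) :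
    nChk D = true ∧ wtChk D = true ∧ (∃ W, wXAll D W = true) ∧
      (∃ (C : Weyl.Cert D.rank) (M : CoxeterMatrix (Fin D.rank)) (T : Weyl.RootTable),
        Weyl.RootGood C M T) ∧ ∃ cs, sepChk D cs = true := by
  simp only [List.mem_cons, List.not_mem_nil, or_false] at hD
  rcases hD with rfl | rfl | rfl | rfl | rfl | rfl | rfl
  exacts [⟨nChk_G2, wtChk_G2, ⟨_, wXAll_G2⟩, ⟨_, _, _, Weyl.rootG2_good⟩, _, sepChk_G2⟩,
    ⟨nChk_B2, wtChk_B2, ⟨_, wXAll_B2⟩, ⟨_, _, _, Weyl.rootB2_good⟩, _, sepChk_B2⟩,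
    ⟨nChk_D4, wtChk_D4, ⟨_, wXAll_D4⟩, ⟨_, _, _, Weyl.rootD4_good⟩, _, sepChk_D4⟩,
    ⟨nChk_F4, wtChk_F4, ⟨_, wXAll_F4⟩, ⟨_, _, _, Weyl.rootF4_good⟩, _, sepChk_F4⟩,
    ⟨nChk_E6, wtChk_E6, ⟨_, wXAll_E6⟩, ⟨_, _, _, Weyl.rootE6_good⟩, _, sepChk_E6⟩,
    ⟨nChk_E7, wtChk_E7, ⟨_, wXAll_E7⟩, ⟨_, _, _, Weyl.rootE7_good⟩, _, sepChk_E7⟩,
    ⟨nChk_E8, wtChk_E8, ⟨_, wXAll_E8⟩, ⟨_, _, _, Weyl.rootE8_good⟩, _, sepChk_E8⟩]

variable {K : Type*} [Field K] {D : ChevalleyDatum}

/-- The generators of the presented group form root elements over the Chevalley group. -/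
theorem exists_rootCtx_cover (hW : GoodWeyl D)
    (hc : nChk D = true ∧ wtChk D = true ∧ (∃ W, wXAll D W = true) ∧
      (∃ (C : Weyl.Cert D.rank) (M : CoxeterMatrix (Fin D.rank)) (T : Weyl.RootTable),
        Weyl.RootGood C M T) ∧ ∃ cs, sepChk D cs = true)
    (hperf : commutator (D.SteinbergCover K) = ⊤) :
    ∃ θ, RootCtx hW (D.scGen K) θ := by
  obtain ⟨θ, hθ⟩ := exists_hom_cover D (stRels_xGrp K D hW.toGoodComm)
    fun r hr t => by simp [xGrp, hr]
  refine ⟨(D.group K).subtype.comp θ, stRels_scGen D, fun r t => ?_, hc.1, hc.2.1, hc.2.2.1,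
    hc.2.2.2.1, ?_, hperf⟩
  · rw [MonoidHom.comp_apply, hθ, Subgroup.subtype_apply, coe_xGrp]
  · rw [eq_top_iff, ← closure_scGen D, Subgroup.closure_le]
    rintro _ ⟨r, hr, t, rfl⟩
    exact Subgroup.subset_closure ⟨⟨r, hr⟩, t, rfl⟩

/-- The pullback of a central extension along a map out of `SteinbergCover`. -/
def coverPull {G₁ E : Type*} [Group G₁] [Group E] (π₁ : E →* G₁) (σ : D.SteinbergCover K →* G₁) :
    Subgroup (E × D.SteinbergCover K) :=
  MonoidHom.eqLocus (π₁.comp (MonoidHom.fst E (D.SteinbergCover K)))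
    (σ.comp (MonoidHom.snd E (D.SteinbergCover K)))

/-- If root elements lift to every pullback, homomorphisms out of `SteinbergCover` lift uniquely. -/
theorem existsUnique_of_exists (hperf : commutator (D.SteinbergCover K) = ⊤)
    {G₁ E : Type*} [Group G₁] [Group E] (π₁ : E →* G₁) (hπ : Function.Surjective π₁)
    (hc : π₁.ker ≤ Subgroup.center E) (σ : D.SteinbergCover K →* G₁)
    (hex : ∀ p : coverPull π₁ σ →* D.SteinbergCover K, Function.Surjective p →
      p.ker ≤ Subgroup.center _ → (∀ z, p z = (z : E × D.SteinbergCover K).2) → ∃ y : ℕ → K → coverPull π₁ σ, StRels D y ∧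
        (∀ r, ¬ r < D.nroots → ∀ t, y r t = 1) ∧
          ∀ r, r < D.nroots → ∀ t, p (y r t) = D.scGen K r t) :
    ∃! τ : D.SteinbergCover K →* E, π₁.comp τ = σ := by
  set P := coverPull π₁ σ with hP
  let p : P →* D.SteinbergCover K := (MonoidHom.snd E (D.SteinbergCover K)).comp P.subtype
  have hps : Function.Surjective p := fun g => by
    obtain ⟨e, he⟩ := hπ (σ g)
    exact ⟨⟨(e, g), he⟩, rfl⟩
  have hpc : p.ker ≤ Subgroup.center P := by
    rintro ⟨⟨e, g⟩, hm⟩ hk
    have hg : g = 1 := hk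
    subst hg
    have he : e ∈ Subgroup.center E := hc (by
      rw [MonoidHom.mem_ker]
      exact (show π₁ e = σ 1 from hm).trans (map_one σ))
    rw [Subgroup.mem_center_iff]
    rintro ⟨⟨a, b⟩, hab⟩
    refine Subtype.ext (Prod.ext ?_ ?_)
    · exact Subgroup.mem_center_iff.1 he a
    · show b * 1 = 1 * b
      rw [mul_one, one_mul]
  obtain ⟨y, hy, hout, hmap⟩ := hex p hps hpc (fun _ => rfl)
  obtain ⟨φ, hφ⟩ := exists_hom_cover D hy hout
  refine ⟨((MonoidHom.fst E (D.SteinbergCover K)).comp P.subtype).comp φ, ?_, fun τ hτ => ?_⟩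
  · refine MonoidHom.ext fun g => ?_
    have hm : π₁ (φ g : E × D.SteinbergCover K).1 = σ (φ g : E × D.SteinbergCover K).2 := (φ g).2
    have hid : p.comp φ = MonoidHom.id _ := PresentedGroup.ext fun q => by
      have e : D.scGen K (q.1 : ℕ) q.2 = PresentedGroup.of q := by
        simp [ChevalleyDatum.scGen, stX_fin, PresentedGroup.of]
      rw [MonoidHom.comp_apply, MonoidHom.id_apply, ← e, hφ, hmap q.1 q.1.isLt]
    show π₁ (φ g : E × D.SteinbergCover K).1 = σ g
    rw [hm]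
    exact congrArg σ (DFunLike.congr_fun hid g)
  · refine MonoidHom.ext fun g => ?_
    refine SchurTheory.eqOn_commutator π₁ hc _ _ ?_ (hperf ▸ Subgroup.mem_top g)
    rw [hτ]
    refine MonoidHom.ext fun g => ?_
    have hid : p.comp φ = MonoidHom.id _ := PresentedGroup.ext fun q => by
      have e : D.scGen K (q.1 : ℕ) q.2 = PresentedGroup.of q := by
        simp [ChevalleyDatum.scGen, stX_fin, PresentedGroup.of]
      rw [MonoidHom.comp_apply, MonoidHom.id_apply, ← e, hφ, hmap q.1 q.1.isLt]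
    show σ g = π₁ (φ g : E × D.SteinbergCover K).1
    rw [show π₁ (φ g : E × D.SteinbergCover K).1 = σ (φ g : E × D.SteinbergCover K).2 from (φ g).2]
    exact congrArg σ (DFunLike.congr_fun hid g).symm

/-- Homomorphisms out of `SteinbergCover` lift uniquely to central extensions. -/
theorem existsUnique_lift (hD : D ∈ [chevG2, chevB2, chevD4, chevF4, chevE6, chevE7, chevE8])
    (hK : ∃ s : Finset K, 4 < s.card) (hperf : commutator (D.SteinbergCover K) = ⊤)
    {G₁ E : Type*} [Group G₁] [Group E] (π₁ : E →* G₁) (hπ : Function.Surjective π₁)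
    (hc : π₁.ker ≤ Subgroup.center E) (σ : D.SteinbergCover K →* G₁) :
    ∃! τ : D.SteinbergCover K →* E, π₁.comp τ = σ := by
  have hchk := exists_checks hD
  obtain ⟨θ, C⟩ := exists_rootCtx_cover (goodWeyl_of_mem hD) hchk hperf
  obtain ⟨cs, hsep⟩ := hchk.2.2.2.2
  exact existsUnique_of_exists hperf π₁ hπ hc σ fun p hps hpc _ => exists_lift C hps hpc hsep hK

end CfsgLib.ChevCollect
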