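import Cfsg.Agent.ChevCollect.TwoChk
import Cfsg.Prelude.Def_ChevE6

/-!
# Certificates for lifts over the field with two elements, type E6 (generated)
-/

set_option autoImplicit false

namespace CfsgLib.ChevCollect

open Cfsg.Lie

theorem slChk_E6 : slChk chevE6 = true := by decide +kernel

theorem rootChk2_E6_0 : rootChk2 chevE6 (chevE6.simple 0)
    [(1, 25), (0, 46), (0, 47), (0, 48), (0, 49), (0, 0), (0, 0), (0, 0), (0, 0), (0, 0),
      (0, 0), (0, 0), (0, 0), (0, 0), (0, 0), (0, 0), (0, 61), (0, 62), (0, 63), (0, 64),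
      (0, 65), (0, 66), (0, 67), (0, 68), (0, 69), (0, 70), (1, 64), (1, 65), (1, 66), (2, 66),
      (1, 67), (1, 68), (1, 69), (2, 67), (2, 68), (3, 67), (4, 68), (3, 69), (4, 69), (2, 70),
      (3, 70), (4, 70), (0, 0), (0, 0), (0, 0), (0, 0), (1, 71), (2, 71), (3, 71), (4, 71),
      (0, 0), (0, 0), (0, 0), (0, 0), (0, 0), (0, 0), (0, 0), (16, 69), (16, 70), (17, 70),
      (18, 70), (16, 71), (17, 71), (18, 71), (19, 71), (20, 71), (21, 71), (22, 71), (23, 71), (24, 71),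
      (25, 71), (46, 70)]
    (16, 66)
    [(16, 66, 37, 65, 17), (16, 66, 38, 64, 18), (16, 66, 40, 63, 19), (16, 66, 41, 62, 20), (16, 66, 48, 60, 26),
      (16, 66, 49, 59, 27), (16, 66, 69, 29, 57), (16, 66, 70, 28, 58), (16, 66, 71, 21, 61)] = true := by
  decide +kernel

theorem rootChk2_E6_1 : rootChk2 chevE6 (chevE6.simple 1)
    [(0, 0), (2, 32), (3, 34), (2, 37), (2, 38), (2, 42), (3, 42), (4, 42), (0, 0), (0, 0),
      (0, 0), (1, 53), (1, 54), (1, 55), (2, 55), (5, 55), (2, 57), (3, 57), (4, 57), (0, 0),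
      (0, 0), (0, 0), (0, 0), (0, 0), (0, 0), (0, 0), (1, 64), (1, 65), (1, 66), (2, 66),
      (1, 67), (1, 68), (1, 69), (2, 67), (2, 68), (3, 67), (4, 68), (3, 69), (4, 69), (0, 0),
      (0, 0), (0, 0), (5, 69), (0, 0), (0, 0), (0, 0), (0, 0), (2, 71), (3, 71), (4, 71),
      (5, 71), (6, 71), (7, 71), (14, 67), (14, 68), (14, 69), (16, 66), (16, 69), (0, 0), (0, 0),
      (0, 0), (16, 71), (17, 71), (18, 71), (29, 67), (29, 68), (29, 69), (33, 69), (34, 69), (37, 68),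
      (0, 0), (47, 69)]
    (1, 71)
    [(1, 71, 53, 63, 11), (1, 71, 54, 62, 12), (1, 71, 55, 61, 13), (1, 71, 64, 52, 26), (1, 71, 65, 51, 27),
      (1, 71, 66, 50, 28), (1, 71, 67, 49, 30), (1, 71, 68, 48, 31), (1, 71, 69, 47, 32)] = true := by
  decide +kernel

theorem rootChk2_E6_2 : rootChk2 chevE6 (chevE6.simple 2)
    [(1, 25), (0, 46), (0, 0), (0, 0), (0, 0), (0, 50), (0, 51), (0, 52), (0, 53), (0, 54),
      (0, 55), (1, 53), (1, 54), (1, 55), (0, 0), (5, 55), (0, 61), (0, 62), (0, 63), (0, 0),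
      (0, 0), (0, 0), (0, 67), (0, 68), (0, 69), (0, 70), (0, 0), (0, 0), (0, 0), (0, 0),
      (1, 67), (1, 68), (1, 69), (8, 61), (9, 61), (8, 62), (9, 63), (10, 62), (10, 63), (0, 0),
      (0, 0), (0, 0), (0, 0), (5, 70), (6, 70), (7, 70), (1, 71), (0, 0), (0, 0), (0, 0),
      (5, 71), (6, 71), (7, 71), (8, 71), (9, 71), (10, 71), (0, 0), (16, 69), (16, 70), (17, 70),
      (18, 70), (16, 71), (17, 71), (18, 71), (0, 0), (0, 0), (0, 0), (22, 71), (23, 71), (24, 71),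
      (25, 71), (46, 70)]
    (5, 69)
    [(5, 69, 37, 68, 6), (5, 69, 38, 67, 7), (5, 69, 55, 57, 15), (5, 69, 59, 52, 22), (5, 69, 60, 51, 23),
      (5, 69, 62, 45, 30), (5, 69, 63, 44, 31), (5, 69, 70, 32, 43), (5, 69, 71, 24, 50)] = true := by
  decide +kernel

theorem rootChk2_E6_3 : rootChk2 chevE6 (chevE6.simple 3)
    [(3, 23), (0, 0), (0, 47), (0, 48), (0, 49), (0, 50), (0, 0), (0, 0), (0, 53), (0, 54),
      (0, 55), (3, 50), (4, 50), (0, 0), (2, 55), (5, 55), (0, 61), (0, 0), (0, 0), (0, 64),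
      (0, 65), (0, 66), (0, 67), (0, 68), (0, 0), (0, 70), (3, 61), (4, 61), (0, 0), (2, 66),
      (0, 0), (0, 0), (0, 0), (2, 67), (2, 68), (3, 67), (4, 68), (0, 0), (0, 0), (0, 0),
      (3, 70), (4, 70), (0, 0), (5, 70), (10, 67), (10, 68), (0, 0), (2, 71), (3, 71), (4, 71),
      (5, 71), (0, 0), (0, 0), (8, 71), (9, 71), (10, 71), (16, 66), (0, 0), (16, 70), (21, 67),
      (21, 68), (16, 71), (0, 0), (0, 0), (19, 71), (20, 71), (21, 71), (22, 71), (23, 71), (0, 0),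
      (25, 71), (48, 68)]
    (2, 70)
    [(2, 70, 44, 65, 8), (2, 70, 45, 64, 9), (2, 70, 55, 58, 14), (2, 70, 59, 54, 19), (2, 70, 60, 53, 20),
      (2, 70, 66, 43, 29), (2, 70, 67, 41, 33), (2, 70, 68, 40, 34), (2, 70, 71, 25, 47)] = true := by
  decide +kernel

theorem rootChk2_E6_4 : rootChk2 chevE6 (chevE6.simple 4)
    [(1, 25), (0, 46), (0, 0), (0, 48), (0, 49), (0, 0), (0, 51), (0, 52), (0, 53), (0, 0),
      (0, 55), (1, 53), (0, 0), (1, 55), (4, 53), (7, 53), (0, 0), (0, 62), (0, 63), (0, 64),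
      (0, 0), (0, 66), (0, 67), (0, 0), (0, 69), (0, 70), (1, 64), (0, 0), (1, 66), (4, 64),
      (1, 67), (0, 0), (1, 69), (0, 0), (0, 0), (3, 67), (0, 0), (0, 0), (4, 69), (0, 0),
      (3, 70), (4, 70), (7, 67), (0, 0), (6, 70), (7, 70), (1, 71), (0, 0), (3, 71), (4, 71),
      (0, 0), (6, 71), (7, 71), (8, 71), (0, 0), (10, 71), (18, 64), (18, 67), (0, 0), (17, 70),
      (18, 70), (0, 0), (17, 71), (18, 71), (19, 71), (0, 0), (21, 71), (22, 71), (0, 0), (24, 71),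
      (25, 71), (46, 70)]
    (3, 69)
    [(3, 69, 42, 66, 6), (3, 69, 45, 62, 10), (3, 69, 52, 59, 13), (3, 69, 57, 55, 17), (3, 69, 60, 51, 21),
      (3, 69, 63, 44, 28), (3, 69, 67, 38, 35), (3, 69, 70, 32, 40), (3, 69, 71, 24, 48)] = true := by
  decide +kernel

theorem rootChk2_E6_5 : rootChk2 chevE6 (chevE6.simple 5)
    [(1, 25), (0, 46), (0, 47), (0, 0), (0, 49), (0, 50), (0, 0), (0, 52), (0, 0), (0, 54),
      (0, 55), (0, 0), (1, 54), (1, 55), (2, 55), (5, 55), (0, 61), (0, 0), (0, 63), (0, 0),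
      (0, 65), (0, 66), (0, 0), (0, 68), (0, 69), (0, 70), (0, 0), (1, 65), (1, 66), (2, 66),
      (0, 0), (1, 68), (1, 69), (0, 0), (2, 68), (0, 0), (0, 0), (0, 0), (4, 69), (2, 70),
      (0, 0), (4, 70), (5, 69), (5, 70), (0, 0), (7, 70), (1, 71), (2, 71), (0, 0), (4, 71),
      (5, 71), (0, 0), (7, 71), (0, 0), (9, 71), (10, 71), (16, 66), (16, 69), (16, 70), (0, 0),
      (18, 70), (16, 71), (0, 0), (18, 71), (0, 0), (20, 71), (21, 71), (0, 0), (23, 71), (24, 71),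
      (25, 71), (46, 70)]
    (4, 68)
    [(4, 68, 42, 65, 7), (4, 68, 43, 63, 9), (4, 68, 50, 60, 12), (4, 68, 57, 54, 18), (4, 68, 58, 52, 20),
      (4, 68, 61, 45, 27), (4, 68, 69, 34, 38), (4, 68, 70, 31, 41), (4, 68, 71, 23, 49)] = true := by
  decide +kernel

end CfsgLib.ChevCollect
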