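import Cfsg.Agent.ChevCollect.TwoChk
import Cfsg.Prelude.Def_ChevE7

/-!
# Certificates for lifts over the field with two elements, type E7 (generated)
-/

set_option autoImplicit false

namespace CfsgLib.ChevCollect

open Cfsg.Lie

theorem slChk_E7 : slChk chevE7 = true := by decide +kernel

theorem rootChk2_E7_0 : rootChk2 chevE7 (chevE7.simple 0)
    [(0, 0), (2, 52), (3, 56), (2, 69), (2, 70), (2, 71), (2, 72), (2, 79), (2, 80), (2, 81),
      (2, 82), (3, 80), (3, 81), (3, 82), (4, 81), (4, 82), (5, 82), (0, 0), (0, 0), (0, 0),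
      (0, 0), (0, 0), (0, 0), (0, 0), (0, 0), (0, 0), (0, 0), (0, 0), (0, 0), (0, 0),
      (0, 0), (0, 0), (0, 0), (1, 109), (1, 110), (1, 111), (1, 112), (1, 113), (1, 114), (1, 115),
      (1, 116), (1, 117), (1, 118), (2, 115), (2, 116), (2, 117), (2, 118), (3, 118), (1, 119), (1, 120),
      (1, 121), (1, 122), (1, 123), (2, 119), (2, 120), (2, 121), (2, 122), (3, 119), (3, 120), (3, 121),
      (4, 119), (4, 120), (5, 119), (6, 120), (5, 121), (6, 121), (4, 122), (5, 122), (6, 122), (3, 123),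
      (4, 123), (5, 123), (6, 123), (0, 0), (0, 0), (0, 0), (0, 0), (0, 0), (7, 122), (7, 123),
      (8, 123), (9, 123), (10, 123), (0, 0), (0, 0), (0, 0), (0, 0), (0, 0), (0, 0), (0, 0),
      (0, 0), (0, 0), (0, 0), (0, 0), (2, 125), (3, 125), (4, 125), (5, 125), (6, 125), (7, 125),
      (8, 125), (9, 125), (10, 125), (11, 125), (12, 125), (13, 125), (14, 125), (15, 125), (16, 125), (43, 120),
      (43, 121), (44, 121), (43, 122), (44, 122), (45, 122), (43, 123), (44, 123), (45, 123), (46, 123), (53, 123),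
      (54, 123), (55, 123), (56, 123), (69, 122), (0, 0), (94, 123)]
    (1, 125)
    [(1, 125, 109, 108, 33), (1, 125, 110, 107, 34), (1, 125, 111, 106, 35), (1, 125, 112, 105, 36), (1, 125, 113, 104, 37),
      (1, 125, 114, 103, 38), (1, 125, 115, 102, 39), (1, 125, 116, 101, 40), (1, 125, 117, 100, 41), (1, 125, 118, 99, 42),
      (1, 125, 119, 98, 48), (1, 125, 120, 97, 49), (1, 125, 121, 96, 50), (1, 125, 122, 95, 51), (1, 125, 123, 94, 52)] = true := by
  decide +kernel

theorem rootChk2_E7_1 : rootChk2 chevE7 (chevE7.simple 1)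
    [(1, 32), (0, 93), (0, 94), (0, 0), (0, 0), (0, 0), (0, 0), (0, 99), (0, 100), (0, 101),
      (0, 102), (0, 103), (0, 104), (0, 105), (0, 106), (0, 107), (0, 108), (0, 109), (0, 110), (0, 111),
      (0, 112), (0, 113), (0, 114), (0, 0), (0, 0), (0, 0), (0, 0), (0, 119), (0, 120), (0, 121),
      (0, 122), (0, 123), (0, 124), (1, 109), (1, 110), (1, 111), (1, 112), (1, 113), (1, 114), (0, 0),
      (0, 0), (0, 0), (0, 0), (0, 0), (0, 0), (0, 0), (0, 0), (0, 0), (1, 119), (1, 120),
      (1, 121), (1, 122), (1, 123), (2, 119), (2, 120), (2, 121), (2, 122), (11, 110), (11, 111), (12, 111),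
      (11, 112), (11, 113), (12, 112), (13, 113), (12, 114), (13, 114), (14, 113), (14, 114), (15, 114), (0, 0),
      (0, 0), (0, 0), (0, 0), (2, 124), (0, 0), (0, 0), (0, 0), (0, 0), (0, 0), (7, 123),
      (8, 123), (9, 123), (10, 123), (7, 124), (8, 124), (9, 124), (10, 124), (11, 124), (12, 124), (13, 124),
      (14, 124), (15, 124), (16, 124), (1, 125), (2, 125), (0, 0), (0, 0), (0, 0), (0, 0), (7, 125),
      (8, 125), (9, 125), (10, 125), (11, 125), (12, 125), (13, 125), (14, 125), (15, 125), (16, 125), (17, 125),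
      (18, 125), (19, 125), (20, 125), (21, 125), (22, 125), (0, 0), (0, 0), (0, 0), (0, 0), (27, 125),
      (28, 125), (29, 125), (30, 125), (31, 125), (32, 125), (93, 124)]
    (7, 122)
    [(7, 122, 66, 121, 8), (7, 122, 67, 120, 9), (7, 122, 68, 119, 10), (7, 122, 90, 102, 27), (7, 122, 91, 101, 28),
      (7, 122, 92, 100, 29), (7, 122, 106, 86, 48), (7, 122, 107, 85, 49), (7, 122, 108, 84, 50), (7, 122, 112, 82, 53),
      (7, 122, 113, 81, 54), (7, 122, 114, 80, 55), (7, 122, 123, 56, 79), (7, 122, 124, 51, 83), (7, 122, 125, 30, 99)] = true := by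
  decide +kernel

theorem rootChk2_E7_2 : rootChk2 chevE7 (chevE7.simple 2)
    [(3, 30), (0, 0), (0, 94), (0, 95), (0, 96), (0, 97), (0, 98), (0, 99), (0, 100), (0, 101),
      (0, 102), (0, 0), (0, 0), (0, 0), (0, 0), (0, 0), (0, 0), (0, 109), (0, 110), (0, 111),
      (0, 112), (0, 113), (0, 114), (0, 115), (0, 116), (0, 117), (0, 118), (0, 119), (0, 120), (0, 121),
      (0, 122), (0, 0), (0, 124), (3, 100), (3, 101), (3, 102), (4, 101), (4, 102), (5, 102), (0, 0),
      (0, 0), (0, 0), (0, 0), (2, 115), (2, 116), (2, 117), (2, 118), (3, 118), (0, 0), (0, 0),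
      (0, 0), (0, 0), (0, 0), (2, 119), (2, 120), (2, 121), (2, 122), (3, 119), (3, 120), (3, 121),
      (4, 119), (4, 120), (5, 119), (6, 120), (5, 121), (6, 121), (4, 122), (5, 122), (6, 122), (0, 0),
      (0, 0), (0, 0), (0, 0), (0, 0), (3, 124), (4, 124), (5, 124), (6, 124), (7, 122), (0, 0),
      (0, 0), (0, 0), (0, 0), (7, 124), (8, 124), (9, 124), (10, 124), (23, 120), (23, 121), (24, 121),
      (23, 122), (24, 122), (25, 122), (0, 0), (2, 125), (3, 125), (4, 125), (5, 125), (6, 125), (7, 125),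
      (8, 125), (9, 125), (10, 125), (0, 0), (0, 0), (0, 0), (0, 0), (0, 0), (0, 0), (17, 125),
      (18, 125), (19, 125), (20, 125), (21, 125), (22, 125), (23, 125), (24, 125), (25, 125), (26, 125), (27, 125),
      (28, 125), (29, 125), (30, 125), (0, 0), (32, 125), (95, 122)]
    (2, 124)
    [(2, 124, 87, 114, 17), (2, 124, 88, 113, 18), (2, 124, 89, 112, 19), (2, 124, 90, 111, 20), (2, 124, 91, 110, 21),
      (2, 124, 92, 109, 22), (2, 124, 115, 86, 43), (2, 124, 116, 85, 44), (2, 124, 117, 84, 45), (2, 124, 118, 83, 46),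
      (2, 124, 119, 77, 53), (2, 124, 120, 76, 54), (2, 124, 121, 75, 55), (2, 124, 122, 74, 56), (2, 124, 125, 32, 94)] = true := by
  decide +kernel

theorem rootChk2_E7_3 : rootChk2 chevE7 (chevE7.simple 3)
    [(1, 32), (0, 93), (0, 0), (0, 95), (0, 96), (0, 97), (0, 98), (0, 99), (0, 0), (0, 0),
      (0, 0), (0, 103), (0, 104), (0, 105), (0, 106), (0, 107), (0, 108), (0, 109), (0, 110), (0, 111),
      (0, 0), (0, 0), (0, 0), (0, 115), (0, 116), (0, 117), (0, 118), (0, 119), (0, 120), (0, 121),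
      (0, 0), (0, 123), (0, 124), (1, 109), (1, 110), (1, 111), (0, 0), (0, 0), (0, 0), (1, 115),
      (1, 116), (1, 117), (1, 118), (4, 110), (4, 111), (5, 111), (0, 0), (3, 118), (1, 119), (1, 120),
      (1, 121), (0, 0), (1, 123), (0, 0), (0, 0), (0, 0), (0, 0), (3, 119), (3, 120), (3, 121),
      (4, 119), (4, 120), (5, 119), (6, 120), (5, 121), (6, 121), (0, 0), (0, 0), (0, 0), (0, 0),
      (4, 123), (5, 123), (6, 123), (0, 0), (3, 124), (4, 124), (5, 124), (6, 124), (0, 0), (7, 123),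
      (14, 120), (14, 121), (15, 121), (7, 124), (0, 0), (0, 0), (0, 0), (11, 124), (12, 124), (13, 124),
      (14, 124), (15, 124), (16, 124), (1, 125), (0, 0), (3, 125), (4, 125), (5, 125), (6, 125), (7, 125),
      (0, 0), (0, 0), (0, 0), (11, 125), (12, 125), (13, 125), (14, 125), (15, 125), (16, 125), (17, 125),
      (18, 125), (19, 125), (0, 0), (0, 0), (0, 0), (23, 125), (24, 125), (25, 125), (26, 125), (27, 125),
      (28, 125), (29, 125), (0, 0), (31, 125), (32, 125), (93, 124)]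
    (3, 123)
    [(3, 123, 80, 117, 11), (3, 123, 81, 116, 12), (3, 123, 82, 115, 13), (3, 123, 90, 105, 23), (3, 123, 91, 104, 24),
      (3, 123, 92, 103, 25), (3, 123, 106, 89, 39), (3, 123, 107, 88, 40), (3, 123, 108, 87, 41), (3, 123, 118, 79, 47),
      (3, 123, 119, 72, 57), (3, 123, 120, 71, 58), (3, 123, 121, 70, 59), (3, 123, 124, 52, 74), (3, 123, 125, 31, 95)] = true := by
  decide +kernel

theorem rootChk2_E7_4 : rootChk2 chevE7 (chevE7.simple 4)
    [(1, 32), (0, 93), (0, 94), (0, 0), (0, 96), (0, 97), (0, 98), (0, 0), (0, 100), (0, 101),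
      (0, 102), (0, 103), (0, 0), (0, 0), (0, 106), (0, 107), (0, 108), (0, 109), (0, 0), (0, 0),
      (0, 112), (0, 113), (0, 114), (0, 115), (0, 116), (0, 0), (0, 118), (0, 119), (0, 120), (0, 0),
      (0, 122), (0, 123), (0, 124), (1, 109), (0, 0), (0, 0), (1, 112), (1, 113), (1, 114), (1, 115),
      (1, 116), (0, 0), (1, 118), (2, 115), (2, 116), (0, 0), (2, 118), (5, 116), (1, 119), (1, 120),
      (0, 0), (1, 122), (1, 123), (2, 119), (2, 120), (0, 0), (2, 122), (0, 0), (0, 0), (0, 0),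
      (4, 119), (4, 120), (5, 119), (6, 120), (0, 0), (0, 0), (0, 0), (5, 122), (6, 122), (0, 0),
      (4, 123), (5, 123), (6, 123), (2, 124), (0, 0), (4, 124), (5, 124), (6, 124), (9, 120), (0, 0),
      (8, 123), (9, 123), (10, 123), (0, 0), (8, 124), (9, 124), (10, 124), (11, 124), (0, 0), (0, 0),
      (14, 124), (15, 124), (16, 124), (1, 125), (2, 125), (0, 0), (4, 125), (5, 125), (6, 125), (0, 0),
      (8, 125), (9, 125), (10, 125), (11, 125), (0, 0), (0, 0), (14, 125), (15, 125), (16, 125), (17, 125),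
      (0, 0), (0, 0), (20, 125), (21, 125), (22, 125), (23, 125), (24, 125), (0, 0), (26, 125), (27, 125),
      (28, 125), (0, 0), (30, 125), (31, 125), (32, 125), (93, 124)]
    (4, 122)
    [(4, 122, 78, 118, 8), (4, 122, 81, 113, 14), (4, 122, 82, 112, 15), (4, 122, 85, 107, 20), (4, 122, 86, 106, 21),
      (4, 122, 92, 100, 26), (4, 122, 101, 91, 36), (4, 122, 102, 90, 37), (4, 122, 108, 84, 42), (4, 122, 114, 80, 46),
      (4, 122, 119, 68, 60), (4, 122, 120, 67, 61), (4, 122, 123, 56, 70), (4, 122, 124, 51, 75), (4, 122, 125, 30, 96)] = true := by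
  decide +kernel

theorem rootChk2_E7_5 : rootChk2 chevE7 (chevE7.simple 5)
    [(1, 32), (0, 93), (0, 94), (0, 95), (0, 0), (0, 97), (0, 98), (0, 99), (0, 0), (0, 101),
      (0, 102), (0, 0), (0, 104), (0, 105), (0, 106), (0, 0), (0, 108), (0, 0), (0, 110), (0, 111),
      (0, 112), (0, 0), (0, 114), (0, 115), (0, 0), (0, 117), (0, 118), (0, 119), (0, 0), (0, 121),
      (0, 122), (0, 123), (0, 124), (0, 0), (1, 110), (1, 111), (1, 112), (0, 0), (1, 114), (1, 115),
      (0, 0), (1, 117), (1, 118), (2, 115), (0, 0), (2, 117), (2, 118), (3, 118), (1, 119), (0, 0),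
      (1, 121), (1, 122), (1, 123), (2, 119), (0, 0), (2, 121), (2, 122), (3, 119), (0, 0), (3, 121),
      (0, 0), (0, 0), (5, 119), (0, 0), (0, 0), (6, 121), (0, 0), (5, 122), (6, 122), (3, 123),
      (0, 0), (5, 123), (6, 123), (2, 124), (3, 124), (0, 0), (5, 124), (6, 124), (7, 122), (7, 123),
      (0, 0), (9, 123), (10, 123), (7, 124), (0, 0), (9, 124), (10, 124), (0, 0), (12, 124), (13, 124),
      (14, 124), (0, 0), (16, 124), (1, 125), (2, 125), (3, 125), (0, 0), (5, 125), (6, 125), (7, 125),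
      (0, 0), (9, 125), (10, 125), (0, 0), (12, 125), (13, 125), (14, 125), (0, 0), (16, 125), (0, 0),
      (18, 125), (19, 125), (20, 125), (0, 0), (22, 125), (23, 125), (0, 0), (25, 125), (26, 125), (27, 125),
      (0, 0), (29, 125), (30, 125), (31, 125), (32, 125), (93, 124)]
    (5, 121)
    [(5, 121, 78, 117, 9), (5, 121, 79, 114, 12), (5, 121, 82, 110, 16), (5, 121, 83, 108, 18), (5, 121, 86, 104, 22),
      (5, 121, 89, 101, 25), (5, 121, 99, 92, 34), (5, 121, 102, 88, 38), (5, 121, 105, 85, 41), (5, 121, 111, 81, 45),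
      (5, 121, 119, 65, 62), (5, 121, 122, 59, 67), (5, 121, 123, 55, 71), (5, 121, 124, 50, 76), (5, 121, 125, 29, 97)] = true := by
  decide +kernel

theorem rootChk2_E7_6 : rootChk2 chevE7 (chevE7.simple 6)
    [(1, 32), (0, 93), (0, 94), (0, 95), (0, 96), (0, 0), (0, 98), (0, 99), (0, 100), (0, 0),
      (0, 102), (0, 103), (0, 0), (0, 105), (0, 0), (0, 107), (0, 108), (0, 109), (0, 0), (0, 111),
      (0, 0), (0, 113), (0, 114), (0, 0), (0, 116), (0, 117), (0, 118), (0, 0), (0, 120), (0, 121),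
      (0, 122), (0, 123), (0, 124), (1, 109), (0, 0), (1, 111), (0, 0), (1, 113), (1, 114), (0, 0),
      (1, 116), (1, 117), (1, 118), (0, 0), (2, 116), (2, 117), (2, 118), (3, 118), (0, 0), (1, 120),
      (1, 121), (1, 122), (1, 123), (0, 0), (2, 120), (2, 121), (2, 122), (0, 0), (3, 120), (3, 121),
      (0, 0), (4, 120), (0, 0), (0, 0), (0, 0), (6, 121), (4, 122), (0, 0), (6, 122), (3, 123),
      (4, 123), (0, 0), (6, 123), (2, 124), (3, 124), (4, 124), (0, 0), (6, 124), (7, 122), (7, 123),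
      (8, 123), (0, 0), (10, 123), (7, 124), (8, 124), (0, 0), (10, 124), (11, 124), (0, 0), (13, 124),
      (0, 0), (15, 124), (16, 124), (1, 125), (2, 125), (3, 125), (4, 125), (0, 0), (6, 125), (7, 125),
      (8, 125), (0, 0), (10, 125), (11, 125), (0, 0), (13, 125), (0, 0), (15, 125), (16, 125), (17, 125),
      (0, 0), (19, 125), (0, 0), (21, 125), (22, 125), (0, 0), (24, 125), (25, 125), (26, 125), (0, 0),
      (28, 125), (29, 125), (30, 125), (31, 125), (32, 125), (93, 124)]
    (6, 120)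
    [(6, 120, 78, 116, 10), (6, 120, 79, 113, 13), (6, 120, 80, 111, 15), (6, 120, 83, 107, 19), (6, 120, 84, 105, 21),
      (6, 120, 87, 102, 24), (6, 120, 99, 91, 35), (6, 120, 100, 89, 37), (6, 120, 103, 86, 40), (6, 120, 109, 82, 44),
      (6, 120, 121, 61, 65), (6, 120, 122, 58, 68), (6, 120, 123, 54, 72), (6, 120, 124, 49, 77), (6, 120, 125, 28, 98)] = true := by
  decide +kernel

end CfsgLib.ChevCollect
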