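import Cfsg.Agent.ChevCollect.TwoChk
import Cfsg.Prelude.Def_ChevE8

/-!
# Certificates for lifts over the field with two elements, type E8 (generated)
-/

set_option autoImplicit false

namespace CfsgLib.ChevCollect

open Cfsg.Lie

theorem slChk_E8 : slChk chevE8 = true := by decide +kernel

theorem rootChk2_E8_0 : rootChk2 chevE8 (chevE8.simple 0)
    [(1, 119), (0, 120), (0, 122), (0, 125), (0, 129), (0, 134), (0, 0), (0, 146), (0, 0), (0, 0),
      (0, 0), (0, 0), (0, 0), (0, 0), (0, 168), (0, 173), (0, 177), (0, 180), (0, 182), (0, 183),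
      (1, 183), (0, 187), (0, 190), (0, 192), (0, 193), (1, 193), (0, 196), (0, 198), (0, 199), (1, 199),
      (0, 201), (0, 202), (1, 202), (0, 203), (1, 203), (2, 203), (0, 206), (0, 208), (0, 209), (1, 209),
      (0, 211), (0, 212), (1, 212), (0, 213), (1, 213), (2, 213), (0, 215), (0, 216), (1, 216), (0, 217),
      (1, 217), (2, 217), (0, 218), (1, 218), (2, 218), (3, 218), (0, 0), (0, 0), (0, 0), (0, 0),
      (0, 0), (0, 0), (0, 0), (0, 0), (0, 0), (0, 0), (0, 0), (0, 0), (0, 0), (0, 0),
      (0, 0), (0, 0), (0, 0), (0, 0), (0, 0), (0, 0), (0, 0), (0, 0), (0, 227), (0, 228),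
      (1, 228), (0, 229), (1, 229), (2, 229), (0, 230), (1, 230), (2, 230), (3, 230), (0, 231), (1, 231),
      (2, 231), (3, 231), (4, 231), (0, 232), (1, 232), (2, 232), (3, 232), (4, 232), (5, 232), (0, 233),
      (1, 233), (2, 233), (3, 233), (4, 233), (5, 233), (0, 234), (1, 234), (2, 234), (3, 234), (4, 234),
      (0, 235), (1, 235), (2, 235), (3, 235), (0, 236), (1, 236), (2, 236), (0, 237), (1, 237), (0, 238),
      (1, 239), (2, 238), (2, 239), (3, 237), (3, 238), (3, 239), (4, 236), (4, 237), (4, 238), (4, 239),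
      (5, 235), (5, 236), (5, 237), (5, 238), (5, 239), (0, 0), (0, 0), (0, 0), (0, 0), (0, 0),
      (0, 0), (7, 234), (7, 235), (7, 236), (7, 237), (7, 238), (7, 239), (0, 0), (0, 0), (0, 0),
      (0, 0), (0, 0), (0, 0), (0, 0), (0, 0), (0, 0), (0, 0), (0, 0), (0, 0), (0, 0),
      (0, 0), (0, 0), (0, 0), (14, 234), (14, 235), (14, 236), (14, 237), (14, 238), (14, 239), (15, 235),
      (15, 236), (15, 237), (15, 238), (15, 239), (16, 236), (16, 237), (16, 238), (16, 239), (17, 237), (17, 238),
      (17, 239), (18, 238), (18, 239), (19, 239), (21, 236), (21, 237), (21, 238), (21, 239), (22, 237), (22, 238),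
      (22, 239), (23, 238), (23, 239), (24, 239), (26, 237), (26, 238), (26, 239), (27, 238), (27, 239), (28, 239),
      (30, 238), (30, 239), (31, 239), (33, 239), (36, 237), (36, 238), (36, 239), (37, 238), (37, 239), (38, 239),
      (40, 238), (40, 239), (41, 239), (43, 239), (46, 238), (46, 239), (47, 239), (49, 239), (52, 239), (0, 0),
      (0, 0), (0, 0), (0, 0), (0, 0), (0, 0), (0, 0), (78, 238), (78, 239), (79, 239), (81, 239),
      (84, 239), (88, 239), (93, 239), (99, 239), (105, 239), (110, 239), (114, 239), (117, 239), (119, 239), (120, 238)]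
    (14, 233)
    [(14, 233, 141, 231, 15), (14, 233, 142, 230, 16), (14, 233, 143, 229, 17), (14, 233, 144, 228, 18), (14, 233, 145, 227, 19),
      (14, 233, 146, 226, 20), (14, 233, 204, 183, 78), (14, 233, 205, 182, 79), (14, 233, 206, 181, 80), (14, 233, 207, 180, 81),
      (14, 233, 208, 179, 82), (14, 233, 209, 178, 83), (14, 233, 210, 177, 84), (14, 233, 211, 176, 85), (14, 233, 212, 175, 86),
      (14, 233, 213, 174, 87), (14, 233, 214, 173, 88), (14, 233, 215, 172, 89), (14, 233, 216, 171, 90), (14, 233, 217, 170, 91),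
      (14, 233, 218, 169, 92), (14, 233, 234, 104, 163), (14, 233, 235, 103, 164), (14, 233, 236, 102, 165), (14, 233, 237, 101, 166),
      (14, 233, 238, 100, 167), (14, 233, 239, 99, 168)] = true := by
  decide +kernel

theorem rootChk2_E8_1 : rootChk2 chevE8 (chevE8.simple 1)
    [(1, 119), (0, 120), (0, 122), (0, 125), (0, 129), (0, 0), (0, 0), (0, 146), (0, 151), (0, 155),
      (0, 158), (0, 160), (0, 161), (1, 161), (0, 0), (0, 173), (0, 177), (0, 180), (0, 182), (0, 183),
      (1, 183), (0, 187), (0, 190), (0, 192), (0, 193), (1, 193), (0, 0), (0, 0), (0, 0), (0, 0),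
      (0, 0), (0, 0), (0, 0), (0, 0), (0, 0), (0, 0), (0, 206), (0, 208), (0, 209), (1, 209),
      (0, 211), (0, 212), (1, 212), (0, 213), (1, 213), (2, 213), (0, 215), (0, 216), (1, 216), (0, 217),
      (1, 217), (2, 217), (0, 218), (1, 218), (2, 218), (3, 218), (0, 220), (0, 221), (1, 221), (0, 222),
      (1, 222), (2, 222), (0, 223), (1, 223), (2, 223), (3, 223), (0, 0), (0, 0), (0, 0), (0, 0),
      (0, 0), (0, 225), (1, 225), (2, 225), (3, 225), (4, 225), (9, 218), (9, 223), (0, 227), (0, 228),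
      (1, 228), (0, 229), (1, 229), (2, 229), (0, 230), (1, 230), (2, 230), (3, 230), (0, 0), (0, 0),
      (0, 0), (0, 0), (0, 0), (0, 0), (0, 0), (0, 0), (0, 0), (0, 0), (0, 0), (0, 233),
      (1, 233), (2, 233), (3, 233), (4, 233), (16, 218), (0, 234), (1, 234), (2, 234), (3, 234), (4, 234),
      (0, 235), (1, 235), (2, 235), (3, 235), (0, 236), (1, 236), (2, 236), (0, 237), (1, 237), (0, 238),
      (1, 239), (2, 238), (2, 239), (3, 237), (3, 238), (3, 239), (4, 236), (4, 237), (4, 238), (4, 239),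
      (0, 0), (0, 0), (0, 0), (0, 0), (0, 0), (21, 223), (0, 0), (0, 0), (0, 0), (0, 0),
      (0, 0), (0, 0), (7, 235), (7, 236), (7, 237), (7, 238), (7, 239), (8, 235), (8, 236), (8, 237),
      (8, 238), (8, 239), (9, 236), (9, 237), (9, 238), (9, 239), (10, 237), (10, 238), (10, 239), (11, 238),
      (11, 239), (12, 239), (16, 230), (21, 230), (0, 0), (0, 0), (0, 0), (0, 0), (0, 0), (15, 235),
      (15, 236), (15, 237), (15, 238), (15, 239), (16, 236), (16, 237), (16, 238), (16, 239), (17, 237), (17, 238),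
      (17, 239), (18, 238), (18, 239), (19, 239), (21, 236), (21, 237), (21, 238), (21, 239), (22, 237), (22, 238),
      (22, 239), (23, 238), (23, 239), (24, 239), (0, 0), (0, 0), (0, 0), (0, 0), (0, 0), (0, 0),
      (0, 0), (0, 0), (0, 0), (0, 0), (36, 237), (36, 238), (36, 239), (37, 238), (37, 239), (38, 239),
      (40, 238), (40, 239), (41, 239), (43, 239), (46, 238), (46, 239), (47, 239), (49, 239), (52, 239), (56, 238),
      (56, 239), (57, 239), (59, 239), (62, 239), (0, 0), (71, 239), (78, 238), (78, 239), (79, 239), (81, 239),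
      (84, 239), (0, 0), (0, 0), (99, 239), (105, 239), (110, 239), (114, 239), (117, 239), (119, 239), (120, 238)]
    (7, 234)
    [(7, 234, 135, 233, 8), (7, 234, 163, 225, 15), (7, 234, 184, 213, 36), (7, 234, 185, 212, 37), (7, 234, 186, 211, 38),
      (7, 234, 187, 210, 39), (7, 234, 188, 209, 40), (7, 234, 189, 208, 41), (7, 234, 190, 207, 42), (7, 234, 191, 206, 43),
      (7, 234, 192, 205, 44), (7, 234, 193, 204, 45), (7, 234, 219, 173, 71), (7, 234, 220, 172, 72), (7, 234, 221, 171, 73),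
      (7, 234, 222, 170, 74), (7, 234, 223, 169, 75), (7, 234, 226, 151, 99), (7, 234, 227, 150, 100), (7, 234, 228, 149, 101),
      (7, 234, 229, 148, 102), (7, 234, 230, 147, 103), (7, 234, 235, 109, 142), (7, 234, 236, 108, 143), (7, 234, 237, 107, 144),
      (7, 234, 238, 106, 145), (7, 234, 239, 105, 146)] = true := by
  decide +kernel

theorem rootChk2_E8_2 : rootChk2 chevE8 (chevE8.simple 2)
    [(1, 119), (0, 120), (0, 122), (0, 125), (0, 129), (0, 0), (0, 140), (0, 0), (0, 151), (0, 155),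
      (0, 158), (0, 160), (0, 161), (1, 161), (0, 168), (0, 173), (0, 0), (0, 0), (0, 0), (0, 0),
      (0, 0), (0, 187), (0, 190), (0, 192), (0, 193), (1, 193), (0, 196), (0, 198), (0, 199), (1, 199),
      (0, 201), (0, 202), (1, 202), (0, 203), (1, 203), (2, 203), (0, 206), (0, 208), (0, 209), (1, 209),
      (0, 211), (0, 212), (1, 212), (0, 213), (1, 213), (2, 213), (0, 0), (0, 0), (0, 0), (0, 0),
      (0, 0), (0, 0), (0, 0), (0, 0), (0, 0), (0, 0), (0, 220), (0, 221), (1, 221), (0, 222),
      (1, 222), (2, 222), (0, 223), (1, 223), (2, 223), (3, 223), (0, 224), (1, 224), (2, 224), (3, 224),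
      (4, 224), (0, 225), (1, 225), (2, 225), (3, 225), (4, 225), (0, 0), (6, 225), (0, 227), (0, 228),
      (1, 228), (0, 229), (1, 229), (2, 229), (0, 230), (1, 230), (2, 230), (3, 230), (0, 0), (0, 0),
      (0, 0), (0, 0), (0, 0), (0, 232), (1, 232), (2, 232), (3, 232), (4, 232), (14, 224), (0, 0),
      (0, 0), (0, 0), (0, 0), (0, 0), (0, 0), (0, 234), (1, 234), (2, 234), (3, 234), (4, 234),
      (0, 235), (1, 235), (2, 235), (3, 235), (0, 236), (1, 236), (2, 236), (0, 237), (1, 237), (0, 238),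
      (1, 239), (2, 238), (2, 239), (3, 237), (3, 238), (3, 239), (4, 236), (4, 237), (4, 238), (4, 239),
      (0, 0), (0, 0), (0, 0), (0, 0), (0, 0), (0, 0), (6, 235), (6, 236), (6, 237), (6, 238),
      (6, 239), (15, 225), (0, 0), (0, 0), (0, 0), (0, 0), (0, 0), (8, 235), (8, 236), (8, 237),
      (8, 238), (8, 239), (9, 236), (9, 237), (9, 238), (9, 239), (10, 237), (10, 238), (10, 239), (11, 238),
      (11, 239), (12, 239), (0, 0), (14, 234), (14, 235), (14, 236), (14, 237), (14, 238), (14, 239), (15, 235),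
      (15, 236), (15, 237), (15, 238), (15, 239), (0, 0), (0, 0), (0, 0), (0, 0), (0, 0), (0, 0),
      (0, 0), (0, 0), (0, 0), (0, 0), (21, 236), (21, 237), (21, 238), (21, 239), (22, 237), (22, 238),
      (22, 239), (23, 238), (23, 239), (24, 239), (26, 237), (26, 238), (26, 239), (27, 238), (27, 239), (28, 239),
      (30, 238), (30, 239), (31, 239), (33, 239), (36, 237), (36, 238), (36, 239), (37, 238), (37, 239), (38, 239),
      (40, 238), (40, 239), (41, 239), (43, 239), (0, 0), (0, 0), (0, 0), (0, 0), (0, 0), (56, 238),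
      (56, 239), (57, 239), (59, 239), (62, 239), (66, 239), (71, 239), (78, 238), (78, 239), (79, 239), (81, 239),
      (84, 239), (0, 0), (93, 239), (0, 0), (105, 239), (110, 239), (114, 239), (117, 239), (119, 239), (120, 238)]
    (6, 234)
    [(6, 234, 141, 232, 8), (6, 234, 169, 223, 21), (6, 234, 170, 222, 22), (6, 234, 171, 221, 23), (6, 234, 172, 220, 24),
      (6, 234, 173, 219, 25), (6, 234, 204, 193, 56), (6, 234, 205, 192, 57), (6, 234, 206, 191, 58), (6, 234, 207, 190, 59),
      (6, 234, 208, 189, 60), (6, 234, 209, 188, 61), (6, 234, 210, 187, 62), (6, 234, 211, 186, 63), (6, 234, 212, 185, 64),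
      (6, 234, 213, 184, 65), (6, 234, 225, 163, 77), (6, 234, 226, 151, 93), (6, 234, 227, 150, 94), (6, 234, 228, 149, 95),
      (6, 234, 229, 148, 96), (6, 234, 230, 147, 97), (6, 234, 235, 109, 136), (6, 234, 236, 108, 137), (6, 234, 237, 107, 138),
      (6, 234, 238, 106, 139), (6, 234, 239, 105, 140)] = true := by
  decide +kernel

theorem rootChk2_E8_3 : rootChk2 chevE8 (chevE8.simple 3)
    [(1, 119), (0, 120), (0, 122), (0, 125), (0, 0), (0, 134), (0, 140), (0, 146), (0, 0), (0, 155),
      (0, 158), (0, 160), (0, 161), (1, 161), (0, 168), (0, 0), (0, 177), (0, 180), (0, 182), (0, 183),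
      (1, 183), (0, 187), (0, 0), (0, 0), (0, 0), (0, 0), (0, 196), (0, 198), (0, 199), (1, 199),
      (0, 201), (0, 202), (1, 202), (0, 203), (1, 203), (2, 203), (0, 206), (0, 208), (0, 209), (1, 209),
      (0, 0), (0, 0), (0, 0), (0, 0), (0, 0), (0, 0), (0, 215), (0, 216), (1, 216), (0, 217),
      (1, 217), (2, 217), (0, 218), (1, 218), (2, 218), (3, 218), (0, 220), (0, 221), (1, 221), (0, 222),
      (1, 222), (2, 222), (0, 0), (0, 0), (0, 0), (0, 0), (0, 224), (1, 224), (2, 224), (3, 224),
      (6, 218), (0, 225), (1, 225), (2, 225), (3, 225), (0, 0), (5, 225), (6, 225), (0, 227), (0, 228),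
      (1, 228), (0, 229), (1, 229), (2, 229), (0, 0), (0, 0), (0, 0), (0, 0), (0, 231), (1, 231),
      (2, 231), (3, 231), (14, 218), (0, 232), (1, 232), (2, 232), (3, 232), (0, 0), (5, 232), (0, 233),
      (1, 233), (2, 233), (3, 233), (0, 0), (5, 233), (0, 0), (0, 0), (0, 0), (0, 0), (0, 0),
      (0, 235), (1, 235), (2, 235), (3, 235), (0, 236), (1, 236), (2, 236), (0, 237), (1, 237), (0, 238),
      (1, 239), (2, 238), (2, 239), (3, 237), (3, 238), (3, 239), (0, 0), (0, 0), (0, 0), (0, 0),
      (0, 0), (5, 236), (5, 237), (5, 238), (5, 239), (0, 0), (6, 235), (6, 236), (6, 237), (6, 238),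
      (6, 239), (0, 0), (7, 235), (7, 236), (7, 237), (7, 238), (7, 239), (21, 225), (0, 0), (0, 0),
      (0, 0), (0, 0), (9, 236), (9, 237), (9, 238), (9, 239), (10, 237), (10, 238), (10, 239), (11, 238),
      (11, 239), (12, 239), (14, 233), (0, 0), (14, 235), (14, 236), (14, 237), (14, 238), (14, 239), (21, 233),
      (0, 0), (0, 0), (0, 0), (0, 0), (16, 236), (16, 237), (16, 238), (16, 239), (17, 237), (17, 238),
      (17, 239), (18, 238), (18, 239), (19, 239), (21, 236), (21, 237), (21, 238), (21, 239), (0, 0), (0, 0),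
      (0, 0), (0, 0), (0, 0), (0, 0), (26, 237), (26, 238), (26, 239), (27, 238), (27, 239), (28, 239),
      (30, 238), (30, 239), (31, 239), (33, 239), (36, 237), (36, 238), (36, 239), (37, 238), (37, 239), (38, 239),
      (0, 0), (0, 0), (0, 0), (0, 0), (46, 238), (46, 239), (47, 239), (49, 239), (52, 239), (56, 238),
      (56, 239), (57, 239), (59, 239), (0, 0), (66, 239), (71, 239), (78, 238), (78, 239), (79, 239), (81, 239),
      (0, 0), (88, 239), (93, 239), (99, 239), (0, 0), (110, 239), (114, 239), (117, 239), (119, 239), (120, 238)]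
    (5, 235)
    [(5, 235, 147, 231, 9), (5, 235, 169, 224, 16), (5, 235, 184, 217, 26), (5, 235, 185, 216, 27), (5, 235, 186, 215, 28),
      (5, 235, 187, 214, 29), (5, 235, 204, 199, 46), (5, 235, 205, 198, 47), (5, 235, 206, 197, 48), (5, 235, 207, 196, 49),
      (5, 235, 208, 195, 50), (5, 235, 209, 194, 51), (5, 235, 219, 177, 66), (5, 235, 220, 176, 67), (5, 235, 221, 175, 68),
      (5, 235, 222, 174, 69), (5, 235, 225, 164, 76), (5, 235, 226, 155, 88), (5, 235, 227, 154, 89), (5, 235, 228, 153, 90),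
      (5, 235, 229, 152, 91), (5, 235, 232, 142, 98), (5, 235, 233, 136, 104), (5, 235, 236, 113, 131), (5, 235, 237, 112, 132),
      (5, 235, 238, 111, 133), (5, 235, 239, 110, 134)] = true := by
  decide +kernel

theorem rootChk2_E8_4 : rootChk2 chevE8 (chevE8.simple 4)
    [(1, 119), (0, 120), (0, 122), (0, 0), (0, 129), (0, 134), (0, 140), (0, 146), (0, 151), (0, 0),
      (0, 158), (0, 160), (0, 161), (1, 161), (0, 168), (0, 173), (0, 0), (0, 180), (0, 182), (0, 183),
      (1, 183), (0, 0), (0, 190), (0, 192), (0, 193), (1, 193), (0, 196), (0, 0), (0, 0), (0, 0),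
      (0, 201), (0, 202), (1, 202), (0, 203), (1, 203), (2, 203), (0, 206), (0, 0), (0, 0), (0, 0),
      (0, 211), (0, 212), (1, 212), (0, 213), (1, 213), (2, 213), (0, 215), (0, 216), (1, 216), (0, 0),
      (0, 0), (0, 0), (0, 218), (1, 218), (2, 218), (5, 213), (0, 220), (0, 221), (1, 221), (0, 0),
      (0, 0), (0, 0), (0, 223), (1, 223), (2, 223), (6, 213), (0, 224), (1, 224), (2, 224), (0, 0),
      (4, 224), (0, 225), (1, 225), (2, 225), (0, 0), (4, 225), (5, 225), (6, 225), (0, 227), (0, 228),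
      (1, 228), (0, 0), (0, 0), (0, 0), (0, 230), (1, 230), (2, 230), (14, 213), (0, 231), (1, 231),
      (2, 231), (0, 0), (4, 231), (0, 232), (1, 232), (2, 232), (0, 0), (4, 232), (5, 232), (0, 233),
      (1, 233), (2, 233), (0, 0), (4, 233), (5, 233), (0, 234), (1, 234), (2, 234), (0, 0), (4, 234),
      (0, 0), (0, 0), (0, 0), (0, 0), (0, 236), (1, 236), (2, 236), (0, 237), (1, 237), (0, 238),
      (1, 239), (2, 238), (2, 239), (0, 0), (0, 0), (0, 0), (0, 0), (4, 237), (4, 238), (4, 239),
      (0, 0), (5, 236), (5, 237), (5, 238), (5, 239), (6, 234), (0, 0), (6, 236), (6, 237), (6, 238),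
      (6, 239), (7, 234), (0, 0), (7, 236), (7, 237), (7, 238), (7, 239), (0, 0), (8, 236), (8, 237),
      (8, 238), (8, 239), (26, 225), (0, 0), (0, 0), (0, 0), (10, 237), (10, 238), (10, 239), (11, 238),
      (11, 239), (12, 239), (14, 233), (14, 234), (0, 0), (14, 236), (14, 237), (14, 238), (14, 239), (0, 0),
      (15, 236), (15, 237), (15, 238), (15, 239), (26, 233), (0, 0), (0, 0), (0, 0), (17, 237), (17, 238),
      (17, 239), (18, 238), (18, 239), (19, 239), (26, 234), (0, 0), (0, 0), (0, 0), (22, 237), (22, 238),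
      (22, 239), (23, 238), (23, 239), (24, 239), (26, 237), (26, 238), (26, 239), (0, 0), (0, 0), (0, 0),
      (30, 238), (30, 239), (31, 239), (33, 239), (36, 237), (36, 238), (36, 239), (0, 0), (0, 0), (0, 0),
      (40, 238), (40, 239), (41, 239), (43, 239), (46, 238), (46, 239), (47, 239), (0, 0), (52, 239), (56, 238),
      (56, 239), (57, 239), (0, 0), (62, 239), (66, 239), (71, 239), (78, 238), (78, 239), (79, 239), (0, 0),
      (84, 239), (88, 239), (93, 239), (99, 239), (105, 239), (0, 0), (114, 239), (117, 239), (119, 239), (120, 238)]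
    (4, 236)
    [(4, 236, 152, 230, 10), (4, 236, 174, 223, 17), (4, 236, 184, 218, 22), (4, 236, 194, 212, 30), (4, 236, 195, 211, 31),
      (4, 236, 196, 210, 32), (4, 236, 204, 202, 40), (4, 236, 205, 201, 41), (4, 236, 206, 200, 42), (4, 236, 214, 190, 52),
      (4, 236, 215, 189, 53), (4, 236, 216, 188, 54), (4, 236, 219, 180, 62), (4, 236, 220, 179, 63), (4, 236, 221, 178, 64),
      (4, 236, 224, 170, 70), (4, 236, 225, 165, 75), (4, 236, 226, 158, 84), (4, 236, 227, 157, 85), (4, 236, 228, 156, 86),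
      (4, 236, 231, 148, 92), (4, 236, 232, 143, 97), (4, 236, 233, 137, 103), (4, 236, 234, 131, 109), (4, 236, 237, 116, 127),
      (4, 236, 238, 115, 128), (4, 236, 239, 114, 129)] = true := by
  decide +kernel

theorem rootChk2_E8_5 : rootChk2 chevE8 (chevE8.simple 5)
    [(1, 119), (0, 120), (0, 0), (0, 125), (0, 129), (0, 134), (0, 140), (0, 146), (0, 151), (0, 155),
      (0, 0), (0, 160), (0, 161), (1, 161), (0, 168), (0, 173), (0, 177), (0, 0), (0, 182), (0, 183),
      (1, 183), (0, 187), (0, 0), (0, 192), (0, 193), (1, 193), (0, 0), (0, 198), (0, 199), (1, 199),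
      (0, 201), (0, 0), (0, 0), (0, 203), (1, 203), (4, 199), (0, 0), (0, 208), (0, 209), (1, 209),
      (0, 211), (0, 0), (0, 0), (0, 213), (1, 213), (4, 209), (0, 215), (0, 0), (0, 0), (0, 217),
      (1, 217), (5, 209), (0, 218), (1, 218), (0, 0), (3, 218), (0, 220), (0, 0), (0, 0), (0, 222),
      (1, 222), (6, 209), (0, 223), (1, 223), (0, 0), (3, 223), (0, 224), (1, 224), (0, 0), (3, 224),
      (4, 224), (0, 225), (1, 225), (0, 0), (3, 225), (4, 225), (5, 225), (6, 225), (0, 227), (0, 0),
      (0, 0), (0, 229), (1, 229), (14, 209), (0, 230), (1, 230), (0, 0), (3, 230), (0, 231), (1, 231),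
      (0, 0), (3, 231), (4, 231), (0, 232), (1, 232), (0, 0), (3, 232), (4, 232), (5, 232), (0, 233),
      (1, 233), (0, 0), (3, 233), (4, 233), (5, 233), (0, 234), (1, 234), (0, 0), (3, 234), (4, 234),
      (0, 235), (1, 235), (0, 0), (3, 235), (0, 0), (0, 0), (0, 0), (0, 237), (1, 237), (0, 238),
      (1, 239), (0, 0), (0, 0), (0, 0), (3, 238), (3, 239), (0, 0), (4, 237), (4, 238), (4, 239),
      (5, 235), (0, 0), (5, 237), (5, 238), (5, 239), (6, 234), (6, 235), (0, 0), (6, 237), (6, 238),
      (6, 239), (7, 234), (7, 235), (0, 0), (7, 237), (7, 238), (7, 239), (8, 235), (0, 0), (8, 237),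
      (8, 238), (8, 239), (0, 0), (9, 237), (9, 238), (9, 239), (30, 225), (0, 0), (0, 0), (11, 238),
      (11, 239), (12, 239), (14, 233), (14, 234), (14, 235), (0, 0), (14, 237), (14, 238), (14, 239), (15, 235),
      (0, 0), (15, 237), (15, 238), (15, 239), (0, 0), (16, 237), (16, 238), (16, 239), (30, 233), (0, 0),
      (0, 0), (18, 238), (18, 239), (19, 239), (0, 0), (21, 237), (21, 238), (21, 239), (30, 234), (0, 0),
      (0, 0), (23, 238), (23, 239), (24, 239), (30, 235), (0, 0), (0, 0), (27, 238), (27, 239), (28, 239),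
      (30, 238), (30, 239), (0, 0), (33, 239), (40, 235), (0, 0), (0, 0), (37, 238), (37, 239), (38, 239),
      (40, 238), (40, 239), (0, 0), (43, 239), (46, 238), (46, 239), (0, 0), (49, 239), (52, 239), (56, 238),
      (56, 239), (0, 0), (59, 239), (62, 239), (66, 239), (71, 239), (78, 238), (78, 239), (0, 0), (81, 239),
      (84, 239), (88, 239), (93, 239), (99, 239), (105, 239), (110, 239), (0, 0), (117, 239), (119, 239), (120, 238)]
    (3, 237)
    [(3, 237, 156, 229, 11), (3, 237, 178, 222, 18), (3, 237, 188, 217, 23), (3, 237, 194, 213, 27), (3, 237, 200, 208, 33),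
      (3, 237, 201, 207, 34), (3, 237, 204, 203, 37), (3, 237, 210, 198, 43), (3, 237, 211, 197, 44), (3, 237, 214, 192, 49),
      (3, 237, 215, 191, 50), (3, 237, 218, 185, 55), (3, 237, 219, 182, 59), (3, 237, 220, 181, 60), (3, 237, 223, 175, 65),
      (3, 237, 224, 171, 69), (3, 237, 225, 166, 74), (3, 237, 226, 160, 81), (3, 237, 227, 159, 82), (3, 237, 230, 153, 87),
      (3, 237, 231, 149, 91), (3, 237, 232, 144, 96), (3, 237, 233, 138, 102), (3, 237, 234, 132, 108), (3, 237, 235, 127, 113),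
      (3, 237, 238, 118, 124), (3, 237, 239, 117, 125)] = true := by
  decide +kernel

theorem rootChk2_E8_6 : rootChk2 chevE8 (chevE8.simple 6)
    [(3, 114), (0, 0), (0, 122), (0, 125), (0, 129), (0, 134), (0, 140), (0, 146), (0, 151), (0, 155),
      (0, 158), (0, 0), (0, 161), (3, 158), (0, 168), (0, 173), (0, 177), (0, 180), (0, 0), (0, 183),
      (3, 180), (0, 187), (0, 190), (0, 0), (0, 193), (3, 190), (0, 196), (0, 0), (0, 199), (3, 196),
      (0, 0), (0, 202), (4, 196), (0, 203), (0, 0), (2, 203), (0, 206), (0, 0), (0, 209), (3, 206),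
      (0, 0), (0, 212), (4, 206), (0, 213), (0, 0), (2, 213), (0, 0), (0, 216), (5, 206), (0, 217),
      (0, 0), (2, 217), (0, 218), (0, 0), (2, 218), (3, 218), (0, 0), (0, 221), (6, 206), (0, 222),
      (0, 0), (2, 222), (0, 223), (0, 0), (2, 223), (3, 223), (0, 224), (0, 0), (2, 224), (3, 224),
      (4, 224), (0, 225), (0, 0), (2, 225), (3, 225), (4, 225), (5, 225), (6, 225), (0, 0), (0, 228),
      (14, 206), (0, 229), (0, 0), (2, 229), (0, 230), (0, 0), (2, 230), (3, 230), (0, 231), (0, 0),
      (2, 231), (3, 231), (4, 231), (0, 232), (0, 0), (2, 232), (3, 232), (4, 232), (5, 232), (0, 233),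
      (0, 0), (2, 233), (3, 233), (4, 233), (5, 233), (0, 234), (0, 0), (2, 234), (3, 234), (4, 234),
      (0, 235), (0, 0), (2, 235), (3, 235), (0, 236), (0, 0), (2, 236), (0, 0), (0, 0), (0, 238),
      (0, 0), (0, 0), (2, 239), (0, 0), (3, 238), (3, 239), (4, 236), (0, 0), (4, 238), (4, 239),
      (5, 235), (5, 236), (0, 0), (5, 238), (5, 239), (6, 234), (6, 235), (6, 236), (0, 0), (6, 238),
      (6, 239), (7, 234), (7, 235), (7, 236), (0, 0), (7, 238), (7, 239), (8, 235), (8, 236), (0, 0),
      (8, 238), (8, 239), (9, 236), (0, 0), (9, 238), (9, 239), (0, 0), (10, 238), (10, 239), (33, 225),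
      (0, 0), (12, 239), (14, 233), (14, 234), (14, 235), (14, 236), (0, 0), (14, 238), (14, 239), (15, 235),
      (15, 236), (0, 0), (15, 238), (15, 239), (16, 236), (0, 0), (16, 238), (16, 239), (0, 0), (17, 238),
      (17, 239), (33, 233), (0, 0), (19, 239), (21, 236), (0, 0), (21, 238), (21, 239), (0, 0), (22, 238),
      (22, 239), (33, 234), (0, 0), (24, 239), (0, 0), (26, 238), (26, 239), (33, 235), (0, 0), (28, 239),
      (33, 236), (0, 0), (31, 239), (33, 239), (0, 0), (36, 238), (36, 239), (43, 235), (0, 0), (38, 239),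
      (43, 236), (0, 0), (41, 239), (43, 239), (49, 236), (0, 0), (47, 239), (49, 239), (52, 239), (59, 236),
      (0, 0), (57, 239), (59, 239), (62, 239), (66, 239), (71, 239), (81, 236), (0, 0), (79, 239), (81, 239),
      (84, 239), (88, 239), (93, 239), (99, 239), (105, 239), (110, 239), (114, 239), (0, 0), (119, 239), (125, 236)]
    (2, 238)
    [(2, 238, 159, 228, 12), (2, 238, 181, 221, 19), (2, 238, 191, 216, 24), (2, 238, 197, 212, 28), (2, 238, 200, 209, 31),
      (2, 238, 203, 205, 35), (2, 238, 207, 202, 38), (2, 238, 210, 199, 41), (2, 238, 213, 195, 45), (2, 238, 214, 193, 47),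
      (2, 238, 217, 189, 51), (2, 238, 218, 186, 54), (2, 238, 219, 183, 57), (2, 238, 222, 179, 61), (2, 238, 223, 176, 64),
      (2, 238, 224, 172, 68), (2, 238, 225, 167, 73), (2, 238, 226, 161, 79), (2, 238, 229, 157, 83), (2, 238, 230, 154, 86),
      (2, 238, 231, 150, 90), (2, 238, 232, 145, 95), (2, 238, 233, 139, 101), (2, 238, 234, 133, 107), (2, 238, 235, 128, 112),
      (2, 238, 236, 124, 116), (2, 238, 239, 119, 122)] = true := by
  decide +kernel

theorem rootChk2_E8_7 : rootChk2 chevE8 (chevE8.simple 7)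
    [(0, 0), (2, 118), (3, 116), (2, 123), (2, 127), (2, 132), (2, 138), (2, 144), (2, 149), (2, 153),
      (2, 156), (3, 156), (0, 0), (1, 161), (2, 166), (2, 171), (2, 175), (2, 178), (3, 178), (0, 0),
      (1, 183), (2, 185), (2, 188), (3, 188), (0, 0), (1, 193), (2, 194), (3, 194), (0, 0), (1, 199),
      (4, 194), (0, 0), (1, 202), (0, 0), (1, 203), (2, 203), (2, 204), (3, 204), (0, 0), (1, 209),
      (4, 204), (0, 0), (1, 212), (0, 0), (1, 213), (2, 213), (5, 204), (0, 0), (1, 216), (0, 0),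
      (1, 217), (2, 217), (0, 0), (1, 218), (2, 218), (3, 218), (6, 204), (0, 0), (1, 221), (0, 0),
      (1, 222), (2, 222), (0, 0), (1, 223), (2, 223), (3, 223), (0, 0), (1, 224), (2, 224), (3, 224),
      (4, 224), (0, 0), (1, 225), (2, 225), (3, 225), (4, 225), (5, 225), (6, 225), (14, 204), (0, 0),
      (1, 228), (0, 0), (1, 229), (2, 229), (0, 0), (1, 230), (2, 230), (3, 230), (0, 0), (1, 231),
      (2, 231), (3, 231), (4, 231), (0, 0), (1, 232), (2, 232), (3, 232), (4, 232), (5, 232), (0, 0),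
      (1, 233), (2, 233), (3, 233), (4, 233), (5, 233), (0, 0), (1, 234), (2, 234), (3, 234), (4, 234),
      (0, 0), (1, 235), (2, 235), (3, 235), (0, 0), (1, 236), (2, 236), (0, 0), (1, 237), (0, 0),
      (0, 0), (0, 0), (2, 239), (3, 237), (0, 0), (3, 239), (4, 236), (4, 237), (0, 0), (4, 239),
      (5, 235), (5, 236), (5, 237), (0, 0), (5, 239), (6, 234), (6, 235), (6, 236), (6, 237), (0, 0),
      (6, 239), (7, 234), (7, 235), (7, 236), (7, 237), (0, 0), (7, 239), (8, 235), (8, 236), (8, 237),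
      (0, 0), (8, 239), (9, 236), (9, 237), (0, 0), (9, 239), (10, 237), (0, 0), (10, 239), (0, 0),
      (11, 239), (35, 225), (14, 233), (14, 234), (14, 235), (14, 236), (14, 237), (0, 0), (14, 239), (15, 235),
      (15, 236), (15, 237), (0, 0), (15, 239), (16, 236), (16, 237), (0, 0), (16, 239), (17, 237), (0, 0),
      (17, 239), (0, 0), (18, 239), (35, 233), (21, 236), (21, 237), (0, 0), (21, 239), (22, 237), (0, 0),
      (22, 239), (0, 0), (23, 239), (35, 234), (26, 237), (0, 0), (26, 239), (0, 0), (27, 239), (35, 235),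
      (0, 0), (30, 239), (35, 236), (35, 237), (36, 237), (0, 0), (36, 239), (0, 0), (37, 239), (45, 235),
      (0, 0), (40, 239), (45, 236), (45, 237), (0, 0), (46, 239), (51, 236), (51, 237), (54, 237), (0, 0),
      (56, 239), (61, 236), (61, 237), (64, 237), (68, 237), (73, 237), (0, 0), (78, 239), (83, 236), (83, 237),
      (86, 237), (90, 237), (95, 237), (101, 237), (107, 237), (112, 237), (116, 237), (123, 236), (0, 0), (122, 237)]
    (1, 239)
    [(1, 239, 161, 227, 13), (1, 239, 183, 220, 20), (1, 239, 193, 215, 25), (1, 239, 199, 211, 29), (1, 239, 202, 208, 32),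
      (1, 239, 203, 206, 34), (1, 239, 209, 201, 39), (1, 239, 212, 198, 42), (1, 239, 213, 196, 44), (1, 239, 216, 192, 48),
      (1, 239, 217, 190, 50), (1, 239, 218, 187, 53), (1, 239, 221, 182, 58), (1, 239, 222, 180, 60), (1, 239, 223, 177, 63),
      (1, 239, 224, 173, 67), (1, 239, 225, 168, 72), (1, 239, 228, 160, 80), (1, 239, 229, 158, 82), (1, 239, 230, 155, 85),
      (1, 239, 231, 151, 89), (1, 239, 232, 146, 94), (1, 239, 233, 140, 100), (1, 239, 234, 134, 106), (1, 239, 235, 129, 111),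
      (1, 239, 236, 125, 115), (1, 239, 237, 122, 118)] = true := by
  decide +kernel

end CfsgLib.ChevCollect
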