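import Cfsg.Agent.ChevCollect.LiftData
import Cfsg.Agent.ChevCollect.TwoDataE6
import Cfsg.Agent.ChevCollect.TwoDataE7
import Cfsg.Agent.ChevCollect.TwoDataE8

/-!
# Universality of the presented group of type E over the field with two elements
-/

set_option autoImplicit false

namespace CfsgLib.ChevCollect

open Cfsg.Lie CfsgLib.Chevalley
open scoped MatrixGroups

variable {K : Type*} [Field K]

theorem small_two [Finite K] (h : Nat.card K = 2) :
    (∀ t : K, t = 0 ∨ t = 1) ∧ (1 : K) + 1 = 0 := by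
  classical
  have := Fintype.ofFinite K
  rw [Nat.card_eq_fintype_card] at h
  have h2 : ((2 : ℕ) : K) = 0 := h ▸ FiniteField.cast_card_eq_zero K
  refine ⟨fun t => ?_, by push_cast at h2; linear_combination h2⟩
  by_contra hcon
  simp only [not_or] at hcon
  have := Finset.card_le_univ ({0, 1, t} : Finset K)
  rw [Finset.card_eq_three.2 ⟨0, 1, t, zero_ne_one, Ne.symm hcon.1, Ne.symm hcon.2, rfl⟩, h] at this
  omega

/-- The checks over the field with two elements. -/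
def TwoOK (D : ChevalleyDatum) : Prop :=
  slChk D = true ∧ ∀ i, i < D.rank → ∃ cms anch ms, rootChk2 D (D.simple i) cms anch ms = true

theorem twoOK_of_mem {D : ChevalleyDatum} (hD : D ∈ [chevE6, chevE7, chevE8]) : TwoOK D := by
  simp only [List.mem_cons, List.not_mem_nil, or_false] at hD
  rcases hD with rfl | rfl | rfl
  · refine ⟨slChk_E6, fun i hi => ?_⟩
    change i < 6 at hi
    interval_cases i
    exacts [⟨_, _, _, rootChk2_E6_0⟩, ⟨_, _, _, rootChk2_E6_1⟩, ⟨_, _, _, rootChk2_E6_2⟩,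
      ⟨_, _, _, rootChk2_E6_3⟩, ⟨_, _, _, rootChk2_E6_4⟩, ⟨_, _, _, rootChk2_E6_5⟩]
  · refine ⟨slChk_E7, fun i hi => ?_⟩
    change i < 7 at hi
    interval_cases i
    exacts [⟨_, _, _, rootChk2_E7_0⟩, ⟨_, _, _, rootChk2_E7_1⟩, ⟨_, _, _, rootChk2_E7_2⟩,
      ⟨_, _, _, rootChk2_E7_3⟩, ⟨_, _, _, rootChk2_E7_4⟩, ⟨_, _, _, rootChk2_E7_5⟩,
      ⟨_, _, _, rootChk2_E7_6⟩]
  · refine ⟨slChk_E8, fun i hi => ?_⟩
    change i < 8 at hi
    interval_cases i
    exacts [⟨_, _, _, rootChk2_E8_0⟩, ⟨_, _, _, rootChk2_E8_1⟩, ⟨_, _, _, rootChk2_E8_2⟩,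
      ⟨_, _, _, rootChk2_E8_3⟩, ⟨_, _, _, rootChk2_E8_4⟩, ⟨_, _, _, rootChk2_E8_5⟩,
      ⟨_, _, _, rootChk2_E8_6⟩, ⟨_, _, _, rootChk2_E8_7⟩]

theorem existsUnique_lift_two [Finite K] (hq : Nat.card K = 2) {D : ChevalleyDatum}
    (hD : D ∈ [chevE6, chevE7, chevE8]) (hperf : commutator (D.SteinbergCover K) = ⊤)
    {G₁ E : Type*} [Group G₁] [Group E] (π₁ : E →* G₁) (hπ : Function.Surjective π₁)
    (hc : π₁.ker ≤ Subgroup.center E) (σ : D.SteinbergCover K →* G₁) :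
    ∃! τ : D.SteinbergCover K →* E, π₁.comp τ = σ := by
  have hmem : D ∈ [chevG2, chevB2, chevD4, chevF4, chevE6, chevE7, chevE8] := by
    simp only [List.mem_cons, List.not_mem_nil, or_false] at hD ⊢
    tauto
  obtain ⟨θ, C⟩ := exists_rootCtx_cover (goodWeyl_of_mem hmem) (exists_checks hmem) hperf
  obtain ⟨h2, hchar⟩ := small_two hq
  obtain ⟨hsl, hroot⟩ := twoOK_of_mem hD
  refine existsUnique_of_exists hperf π₁ hπ hc σ fun p hps hpc _ => ?_
  have hsimp := fun i : Fin D.rank =>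
    let ⟨_, _, _, h⟩ := hroot i i.isLt
    commOK_of_chk C hps hpc h2 hchar hsl h
  have hcomm : ∀ r, CommOK (D.scGen K) p r := (goodWeyl_of_mem hmem).root_induction hsimp
    fun i r ih => by
      refine commOK_conj C hps hpc h2 hchar ih (n := nEl D (D.scGen K) (pRoot (goodWeyl_of_mem hmem) i) 1)
        ((goodWeyl_of_mem hmem).wPerm_rev i) fun k u => ?_
      obtain ⟨d, hd0, hd⟩ := C.monG_nEl i (one_ne_zero (α := K)) k
      rw [hd, (h2 d).resolve_left hd0, one_mul]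
  refine exists_lift_two C hps hpc h2 hchar hsimp (fun i => ?_) fun r s _ _ => ?_
  · obtain ⟨_, _, _, h⟩ := hroot i i.isLt
    exact decLift_of_chk C hps hpc h2 hchar hsl hcomm h
  · rcases commTerms_of_sl hsl r.isLt s.isLt with ⟨e, -⟩ | ⟨k, M, e, -, hk, hM⟩
    · exact Or.inl fun c hc => by simp [e] at hc
    · exact Or.inr ⟨⟨k, hk⟩, M, e, cast_odd C hps hpc h2 hchar hsl hM⟩

end CfsgLib.ChevCollect
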