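import Cfsg.Agent.ChevCollect.LiftSmall
import Cfsg.Agent.ChevCollect.LiftTwo

/-!
# Universality of the presented group over finite fields
-/

set_option autoImplicit false

namespace CfsgLib.ChevCollect

open Cfsg.Lie CfsgLib.Chevalley
open scoped MatrixGroups

/-- The pairs of a datum and a field order whose presented group is shown centrally closed. -/
def LiftOK (D : ChevalleyDatum) (q : ℕ) : Prop :=
  D ∈ [chevE6, chevE7, chevE8] ∨ (3 ≤ q ∧ D ∈ [chevF4, chevD4]) ∨ (4 ≤ q ∧ D = chevB2) ∨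
    (5 ≤ q ∧ D = chevG2)

theorem existsUnique_lift_finite {K : Type*} [Field K] [Finite K] {D : ChevalleyDatum}
    (hD : LiftOK D (Nat.card K)) (hperf : commutator (D.SteinbergCover K) = ⊤)
    {G₁ E : Type*} [Group G₁] [Group E] (π₁ : E →* G₁) (hπ : Function.Surjective π₁)
    (hc : π₁.ker ≤ Subgroup.center E) (σ : D.SteinbergCover K →* G₁) :
    ∃! τ : D.SteinbergCover K →* E, π₁.comp τ = σ := by
  have := Fintype.ofFinite K
  have hmem : D ∈ [chevG2, chevB2, chevD4, chevF4, chevE6, chevE7, chevE8] := by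
    rcases hD with h | ⟨-, h⟩ | ⟨-, h⟩ | ⟨-, h⟩ <;>
      simp only [List.mem_cons, List.not_mem_nil, or_false] at h ⊢ <;> tauto
  have h1 : 1 < Nat.card K := Finite.one_lt_card
  rcases (show Nat.card K = 2 ∨ Nat.card K = 3 ∨ Nat.card K = 4 ∨ 5 ≤ Nat.card K by omega) with
    hq | hq | hq | hq
  · refine existsUnique_lift_two hq ?_ hperf π₁ hπ hc σ
    rcases hD with h | ⟨h, -⟩ | ⟨h, -⟩ | ⟨h, -⟩
    · exact h
    all_goals omega
  · refine existsUnique_lift_small hq (Or.inl ⟨rfl, ?_⟩) hperf π₁ hπ hc σ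
    rcases hD with h | ⟨-, h⟩ | ⟨h, -⟩ | ⟨h, -⟩
    iterate 2 simp only [List.mem_cons, List.not_mem_nil, or_false] at h ⊢; tauto
    all_goals omega
  · refine existsUnique_lift_small hq (Or.inr ⟨rfl, ?_⟩) hperf π₁ hπ hc σ
    rcases hD with h | ⟨-, h⟩ | ⟨-, h⟩ | ⟨h, -⟩
    iterate 3 simp only [List.mem_cons, List.not_mem_nil, or_false] at h ⊢; tauto
    omega
  · refine existsUnique_lift hmem ⟨Finset.univ, ?_⟩ hperf π₁ hπ hc σ
    rw [Finset.card_univ, ← Nat.card_eq_fintype_card]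
    omega

end CfsgLib.ChevCollect
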