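import Cfsg.Agent.ChevCollect.SmallChk
import Cfsg.Prelude.Def_ChevB2
import Cfsg.Prelude.Def_ChevD4
import Cfsg.Prelude.Def_ChevF4
import Cfsg.Prelude.Def_ChevE6

/-!
# Certificates for lifts over the fields with 3 and 4 elements (generated)
-/

set_option autoImplicit false

namespace CfsgLib.ChevCollect

open Cfsg.Lie

theorem smallChk_B2_4 : smallChk chevB2 3 2 false
    []
    [
   (4, 4, 2, 7, 1), (5, 5, 1, 7, 0), (6, 6, 2, 7, 0), (7, 7, 5, 4, 1)] = true := by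
  decide +kernel

theorem smallChk_D4_3 : smallChk chevD4 2 3 true
    [(12, 13, [15, 16]), (12, 18, [15, 19]), (12, 23, [14, 21]), (13, 18, [16, 19]), (13, 23, [14, 20]), (14, 17, [12, 13]), (14, 20, [12, 18]), (14, 21, [13, 18]), (15, 16, [12, 13]), (15, 19, [12, 18]), (15, 22, [13, 18]), (16, 19, [13, 18]), (16, 22, [12, 18]), (17, 20, [13, 18]), (17, 21, [12, 18]), (18, 23, [14, 17]), (19, 22, [12, 13]), (20, 21, [12, 13])]
    [] = true := by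
  decide +kernel

theorem smallChk_D4_4 : smallChk chevD4 3 2 false
    []
    [
   (12, 12, 2, 22, 0), (13, 13, 3, 22, 0), (14, 14, 1, 23, 0), (15, 15, 2, 23, 0), (16, 16, 3, 23, 0), (17, 17, 4, 23, 0),
   (18, 18, 6, 22, 0), (19, 19, 6, 23, 0), (20, 20, 7, 23, 0), (21, 21, 8, 23, 0), (22, 22, 9, 23, 0), (23, 23, 14, 22, 0)] = true := by
  decide +kernel

theorem smallChk_F4_3 : smallChk chevF4 2 3 true
    []
    [
   (24, 32, 13, 45, 1), (24, 43, 20, 45, 1), (24, 45, 27, 43, 1), (25, 30, 11, 47, 1), (25, 41, 18, 47, 1), (25, 47, 29, 41, 1),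
   (26, 31, 12, 46, 1), (26, 42, 19, 46, 1), (26, 46, 28, 42, 1), (30, 41, 18, 47, 1), (30, 47, 29, 41, 1), (31, 42, 19, 46, 1),
   (31, 46, 28, 42, 1), (32, 43, 20, 45, 1), (32, 45, 27, 43, 1), (41, 47, 36, 30, 1), (42, 46, 35, 31, 1), (43, 45, 34, 32, 1)] = true := by
  decide +kernel

theorem smallChk_F4_4 : smallChk chevF4 3 2 false
    []
    [
   (24, 24, 1, 47, 0), (25, 25, 2, 46, 0), (26, 26, 2, 47, 0), (27, 27, 3, 45, 0), (28, 28, 3, 46, 0), (29, 29, 3, 47, 0),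
   (30, 30, 4, 46, 0), (31, 31, 4, 47, 0), (32, 32, 5, 47, 0), (33, 33, 7, 44, 0), (34, 34, 7, 45, 0), (35, 35, 7, 46, 0),
   (36, 36, 7, 47, 0), (37, 37, 8, 46, 0), (38, 38, 8, 47, 0), (39, 39, 9, 47, 0), (40, 40, 11, 47, 0), (41, 41, 15, 46, 0),
   (42, 42, 15, 47, 0), (43, 43, 16, 47, 0), (44, 44, 18, 47, 0), (45, 45, 21, 47, 0), (46, 46, 23, 47, 0), (47, 47, 24, 46, 0)] = true := by
  decide +kernel

theorem smallChk_E6_3 : smallChk chevE6 2 3 true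
    []
    [] = true := by
  decide +kernel

theorem smallChk_E6_4 : smallChk chevE6 3 2 false
    []
    [
   (36, 36, 4, 68, 0), (37, 37, 3, 69, 0), (38, 38, 4, 69, 0), (39, 39, 2, 70, 0), (40, 40, 3, 70, 0), (41, 41, 4, 70, 0),
   (42, 42, 5, 69, 0), (43, 43, 5, 70, 0), (44, 44, 6, 70, 0), (45, 45, 7, 70, 0), (46, 46, 1, 71, 0), (47, 47, 2, 71, 0),
   (48, 48, 3, 71, 0), (49, 49, 4, 71, 0), (50, 50, 5, 71, 0), (51, 51, 6, 71, 0), (52, 52, 7, 71, 0), (53, 53, 8, 71, 0),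
   (54, 54, 9, 71, 0), (55, 55, 10, 71, 0), (56, 56, 16, 66, 0), (57, 57, 16, 69, 0), (58, 58, 16, 70, 0), (59, 59, 17, 70, 0),
   (60, 60, 18, 70, 0), (61, 61, 16, 71, 0), (62, 62, 17, 71, 0), (63, 63, 18, 71, 0), (64, 64, 19, 71, 0), (65, 65, 20, 71, 0),
   (66, 66, 21, 71, 0), (67, 67, 22, 71, 0), (68, 68, 23, 71, 0), (69, 69, 24, 71, 0), (70, 70, 25, 71, 0), (71, 71, 46, 70, 0)] = true := by
  decide +kernel

end CfsgLib.ChevCollect
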