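import Cfsg.Agent.ChevCollect.SmallChk
import Cfsg.Prelude.Def_ChevE7

/-!
# Certificates for lifts over the fields with 3 and 4 elements (generated)
-/

set_option autoImplicit false

namespace CfsgLib.ChevCollect

open Cfsg.Lie

theorem smallChk_E7_3 : smallChk chevE7 2 3 true
    []
    [] = true := by
  decide +kernel

theorem smallChk_E7_4 : smallChk chevE7 3 2 false
    []
    [
   (63, 63, 6, 120, 0), (64, 64, 5, 121, 0), (65, 65, 6, 121, 0), (66, 66, 4, 122, 0), (67, 67, 5, 122, 0), (68, 68, 6, 122, 0),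
   (69, 69, 3, 123, 0), (70, 70, 4, 123, 0), (71, 71, 5, 123, 0), (72, 72, 6, 123, 0), (73, 73, 2, 124, 0), (74, 74, 3, 124, 0),
   (75, 75, 4, 124, 0), (76, 76, 5, 124, 0), (77, 77, 6, 124, 0), (78, 78, 7, 122, 0), (79, 79, 7, 123, 0), (80, 80, 8, 123, 0),
   (81, 81, 9, 123, 0), (82, 82, 10, 123, 0), (83, 83, 7, 124, 0), (84, 84, 8, 124, 0), (85, 85, 9, 124, 0), (86, 86, 10, 124, 0),
   (87, 87, 11, 124, 0), (88, 88, 12, 124, 0), (89, 89, 13, 124, 0), (90, 90, 14, 124, 0), (91, 91, 15, 124, 0), (92, 92, 16, 124, 0),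
   (93, 93, 1, 125, 0), (94, 94, 2, 125, 0), (95, 95, 3, 125, 0), (96, 96, 4, 125, 0), (97, 97, 5, 125, 0), (98, 98, 6, 125, 0),
   (99, 99, 7, 125, 0), (100, 100, 8, 125, 0), (101, 101, 9, 125, 0), (102, 102, 10, 125, 0), (103, 103, 11, 125, 0), (104, 104, 12, 125, 0),
   (105, 105, 13, 125, 0), (106, 106, 14, 125, 0), (107, 107, 15, 125, 0), (108, 108, 16, 125, 0), (109, 109, 17, 125, 0), (110, 110, 18, 125, 0),
   (111, 111, 19, 125, 0), (112, 112, 20, 125, 0), (113, 113, 21, 125, 0), (114, 114, 22, 125, 0), (115, 115, 23, 125, 0), (116, 116, 24, 125, 0),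
   (117, 117, 25, 125, 0), (118, 118, 26, 125, 0), (119, 119, 27, 125, 0), (120, 120, 28, 125, 0), (121, 121, 29, 125, 0), (122, 122, 30, 125, 0),
   (123, 123, 31, 125, 0), (124, 124, 32, 125, 0), (125, 125, 93, 124, 0)] = true := by
  decide +kernel

end CfsgLib.ChevCollect
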