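import Cfsg.Agent.ChevCollect.SmallChk
import Cfsg.Prelude.Def_ChevE8

/-!
# Certificates for lifts over the fields with 3 and 4 elements (generated)
-/

set_option autoImplicit false

namespace CfsgLib.ChevCollect

open Cfsg.Lie

theorem smallChk_E8_3 : smallChk chevE8 2 3 true
    []
    [] = true := by
  decide +kernel

theorem smallChk_E8_4 : smallChk chevE8 3 2 false
    []
    [
   (120, 120, 1, 239, 0), (121, 121, 2, 238, 0), (122, 122, 2, 239, 0), (123, 123, 3, 237, 0), (124, 124, 3, 238, 0), (125, 125, 3, 239, 0),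
   (126, 126, 4, 236, 0), (127, 127, 4, 237, 0), (128, 128, 4, 238, 0), (129, 129, 4, 239, 0), (130, 130, 5, 235, 0), (131, 131, 5, 236, 0),
   (132, 132, 5, 237, 0), (133, 133, 5, 238, 0), (134, 134, 5, 239, 0), (135, 135, 6, 234, 0), (136, 136, 6, 235, 0), (137, 137, 6, 236, 0),
   (138, 138, 6, 237, 0), (139, 139, 6, 238, 0), (140, 140, 6, 239, 0), (141, 141, 7, 234, 0), (142, 142, 7, 235, 0), (143, 143, 7, 236, 0),
   (144, 144, 7, 237, 0), (145, 145, 7, 238, 0), (146, 146, 7, 239, 0), (147, 147, 8, 235, 0), (148, 148, 8, 236, 0), (149, 149, 8, 237, 0),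
   (150, 150, 8, 238, 0), (151, 151, 8, 239, 0), (152, 152, 9, 236, 0), (153, 153, 9, 237, 0), (154, 154, 9, 238, 0), (155, 155, 9, 239, 0),
   (156, 156, 10, 237, 0), (157, 157, 10, 238, 0), (158, 158, 10, 239, 0), (159, 159, 11, 238, 0), (160, 160, 11, 239, 0), (161, 161, 12, 239, 0),
   (162, 162, 14, 233, 0), (163, 163, 14, 234, 0), (164, 164, 14, 235, 0), (165, 165, 14, 236, 0), (166, 166, 14, 237, 0), (167, 167, 14, 238, 0),
   (168, 168, 14, 239, 0), (169, 169, 15, 235, 0), (170, 170, 15, 236, 0), (171, 171, 15, 237, 0), (172, 172, 15, 238, 0), (173, 173, 15, 239, 0),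
   (174, 174, 16, 236, 0), (175, 175, 16, 237, 0), (176, 176, 16, 238, 0), (177, 177, 16, 239, 0), (178, 178, 17, 237, 0), (179, 179, 17, 238, 0),
   (180, 180, 17, 239, 0), (181, 181, 18, 238, 0), (182, 182, 18, 239, 0), (183, 183, 19, 239, 0), (184, 184, 21, 236, 0), (185, 185, 21, 237, 0),
   (186, 186, 21, 238, 0), (187, 187, 21, 239, 0), (188, 188, 22, 237, 0), (189, 189, 22, 238, 0), (190, 190, 22, 239, 0), (191, 191, 23, 238, 0),
   (192, 192, 23, 239, 0), (193, 193, 24, 239, 0), (194, 194, 26, 237, 0), (195, 195, 26, 238, 0), (196, 196, 26, 239, 0), (197, 197, 27, 238, 0),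
   (198, 198, 27, 239, 0), (199, 199, 28, 239, 0), (200, 200, 30, 238, 0), (201, 201, 30, 239, 0), (202, 202, 31, 239, 0), (203, 203, 33, 239, 0),
   (204, 204, 36, 237, 0), (205, 205, 36, 238, 0), (206, 206, 36, 239, 0), (207, 207, 37, 238, 0), (208, 208, 37, 239, 0), (209, 209, 38, 239, 0),
   (210, 210, 40, 238, 0), (211, 211, 40, 239, 0), (212, 212, 41, 239, 0), (213, 213, 43, 239, 0), (214, 214, 46, 238, 0), (215, 215, 46, 239, 0),
   (216, 216, 47, 239, 0), (217, 217, 49, 239, 0), (218, 218, 52, 239, 0), (219, 219, 56, 238, 0), (220, 220, 56, 239, 0), (221, 221, 57, 239, 0),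
   (222, 222, 59, 239, 0), (223, 223, 62, 239, 0), (224, 224, 66, 239, 0), (225, 225, 71, 239, 0), (226, 226, 78, 238, 0), (227, 227, 78, 239, 0),
   (228, 228, 79, 239, 0), (229, 229, 81, 239, 0), (230, 230, 84, 239, 0), (231, 231, 88, 239, 0), (232, 232, 93, 239, 0), (233, 233, 99, 239, 0),
   (234, 234, 105, 239, 0), (235, 235, 110, 239, 0), (236, 236, 114, 239, 0), (237, 237, 117, 239, 0), (238, 238, 119, 239, 0), (239, 239, 120, 238, 0)] = true := by
  decide +kernel

end CfsgLib.ChevCollect
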