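import Cfsg.Agent.ChevCollect.LiftData
import Cfsg.Agent.ChevCollect.SmallData
import Cfsg.Agent.ChevCollect.SmallDataE7
import Cfsg.Agent.ChevCollect.SmallDataE8

/-!
# Universality of the presented group over small fields
-/

set_option autoImplicit false

namespace CfsgLib.ChevCollect

open Cfsg.Lie CfsgLib.Chevalley
open scoped MatrixGroups

variable {K : Type*} [Field K] [Finite K]

/-- The scalars of the field with three elements. -/
theorem small_three (h : Nat.card K = 3) : ((3 : ℕ) : K) = 0 ∧ (2 : K) ≠ 0 ∧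
    (∀ t : K, ∃ m : ℕ, (m : K) = t) ∧
      ∃ c : K, c ≠ 0 ∧ ∀ k : ℤ, c ^ k = 1 → ((2 : ℕ) : ℤ) ∣ k := by
  have := Fintype.ofFinite K
  rw [Nat.card_eq_fintype_card] at h
  have h3 : ((3 : ℕ) : K) = 0 := h ▸ FiniteField.cast_card_eq_zero K
  have h2 : (2 : K) ≠ 0 := fun e => by
    apply one_ne_zero (α := K)
    push_cast at h3
    linear_combination h3 - e
  refine ⟨h3, h2, fun t => ?_, -1, neg_ne_zero.2 one_ne_zero, fun k hk => ?_⟩
  · have hinj : Function.Injective fun i : Fin 3 => ((i : ℕ) : K) := by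
      have h1 : (1 : K) ≠ 0 := one_ne_zero
      have h21 : (2 : K) ≠ 1 := fun e => h1 (by linear_combination e)
      intro i j e
      fin_cases i <;> fin_cases j <;> simp_all [Ne.symm h1, Ne.symm h2, Ne.symm h21]
    obtain ⟨i, hi⟩ := ((Fintype.bijective_iff_injective_and_card _).2
      ⟨hinj, by rw [Fintype.card_fin, h]⟩).2 t
    exact ⟨i, hi⟩
  · rcases Int.even_or_odd k with he | ho
    · exact even_iff_two_dvd.1 he
    · rw [ho.neg_one_zpow] at hk
      exact absurd (by linear_combination -hk : (2 : K) = 0) h2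

/-- The scalars of the field with four elements. -/
theorem small_four (h : Nat.card K = 4) : ((2 : ℕ) : K) = 0 ∧
    ∃ c : K, c ≠ 0 ∧ ∀ k : ℤ, c ^ k = 1 → ((3 : ℕ) : ℤ) ∣ k := by
  classical
  have := Fintype.ofFinite K
  rw [Nat.card_eq_fintype_card] at h
  have h4 : ((4 : ℕ) : K) = 0 := h ▸ FiniteField.cast_card_eq_zero K
  have h2 : ((2 : ℕ) : K) = 0 := by
    have : ((2 : ℕ) : K) * ((2 : ℕ) : K) = 0 := by rw [← Nat.cast_mul]; exact h4
    simpa using this
  refine ⟨h2, ?_⟩
  obtain ⟨c, hc⟩ : ∃ c : K, c ∉ ({0, 1} : Finset K) := by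
    by_contra hcon
    simp only [not_exists, not_not] at hcon
    have := Finset.card_le_card (fun x (_ : x ∈ Finset.univ) => hcon x)
    have hcard : ({0, 1} : Finset K).card ≤ 2 := Finset.card_le_two
    rw [Finset.card_univ, h] at this
    omega
  simp only [Finset.mem_insert, Finset.mem_singleton, not_or] at hc
  refine ⟨c, hc.1, fun k hk => ?_⟩
  have h3 : c ^ (3 : ℤ) = 1 := by
    have := FiniteField.pow_card_sub_one_eq_one c hc.1
    rw [h] at this
    exact_mod_cast this
  have hr : c ^ (k % 3) = 1 := by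
    rw [← Int.emod_add_mul_ediv k 3, zpow_add₀ hc.1, zpow_mul, h3, one_zpow, mul_one] at hk
    exact hk
  have : k % 3 = 0 ∨ k % 3 = 1 ∨ k % 3 = 2 := by omega
  rcases this with e | e | e
  · exact Int.dvd_of_emod_eq_zero (by exact_mod_cast e)
  · rw [e, zpow_one] at hr
    exact absurd hr hc.2
  · rw [e] at hr
    refine absurd ?_ hc.2
    have e2 : c * c = 1 := by rwa [show (2 : ℤ) = 1 + 1 from rfl, zpow_add₀ hc.1, zpow_one] at hr
    push_cast at h2
    exact sub_eq_zero.1 (mul_self_eq_zero.1 (by linear_combination e2 + (1 - c) * h2))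

/-- The data where lifts are certified over the fields with `q = 3` or `4` elements. -/
def SmallOK (D : ChevalleyDatum) (q : ℕ) : Prop :=
  (q = 3 ∧ D ∈ [chevD4, chevF4, chevE6, chevE7, chevE8]) ∨
    (q = 4 ∧ D ∈ [chevB2, chevD4, chevF4, chevE6, chevE7, chevE8])

theorem existsUnique_lift_small {D : ChevalleyDatum} {q : ℕ} (hq : Nat.card K = q)
    (hD : SmallOK D q) (hperf : commutator (D.SteinbergCover K) = ⊤)
    {G₁ E : Type*} [Group G₁] [Group E] (π₁ : E →* G₁) (hπ : Function.Surjective π₁)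
    (hc : π₁.ker ≤ Subgroup.center E) (σ : D.SteinbergCover K →* G₁) :
    ∃! τ : D.SteinbergCover K →* E, π₁.comp τ = σ := by
  have hmem : D ∈ [chevG2, chevB2, chevD4, chevF4, chevE6, chevE7, chevE8] := by
    rcases hD with ⟨-, h⟩ | ⟨-, h⟩ <;> simp only [List.mem_cons, List.not_mem_nil, or_false] at h ⊢ <;>
      tauto
  obtain ⟨θ, C⟩ := exists_rootCtx_cover (goodWeyl_of_mem hmem) (exists_checks hmem) hperf
  refine existsUnique_of_exists hperf π₁ hπ hc σ fun p hps hpc _ => ?_
  rcases hD with ⟨rfl, hD⟩ | ⟨rfl, hD⟩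
  · obtain ⟨hp, h2, hprime, c, hc0, hcn⟩ := small_three hq
    have key : ∀ {sw cs}, smallChk D 2 3 true sw cs = true → _ := fun {sw cs} h =>
      exists_lift_small C hps hpc hp hc0 hcn (fun _ => hprime) (sw := sw) (cs := cs) h
        (fun _ => ⟨h2, rfl⟩)
    simp only [List.mem_cons, List.not_mem_nil, or_false] at hD
    rcases hD with rfl | rfl | rfl | rfl | rfl
    exacts [key smallChk_D4_3, key smallChk_F4_3, key smallChk_E6_3, key smallChk_E7_3,
      key smallChk_E8_3]
  · obtain ⟨hp, c, hc0, hcn⟩ := small_four hq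
    have key : ∀ {cs}, smallChk D 3 2 false [] cs = true → _ := fun {cs} h =>
      exists_lift_small C hps hpc hp hc0 hcn (fun e => absurd e Bool.false_ne_true) (sw := [])
        (cs := cs) h (fun e => absurd rfl e)
    simp only [List.mem_cons, List.not_mem_nil, or_false] at hD
    rcases hD with rfl | rfl | rfl | rfl | rfl | rfl
    exacts [key smallChk_B2_4, key smallChk_D4_4, key smallChk_F4_4, key smallChk_E6_4,
      key smallChk_E7_4, key smallChk_E8_4]

end CfsgLib.ChevCollect
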