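import Cfsg.Agent.ChevCollect.Basic

/-!
# Conjugation by `n_a(t)` in a group with (R1), (R2)

`nAct D a s` computes, by collection, the root `s'`, the sign `η` and the exponent `k` with
`n_a(t) x_s(u) n_a(t)⁻¹ = x_{s'}(η t^k u)`.
-/

set_option autoImplicit false
set_option linter.unusedSectionVars false

namespace CfsgLib.ChevCollect

open Cfsg.Lie

/-- `-t⁻¹`. -/
def tInv : Mon := (-1, -1, 0, 0)

/-- Conjugation followed by collection. -/
def conjCollect (D : ChevalleyDatum) (a : ℕ) (m : Mon) (w : Word) : Option Word := do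
  let w' ← conjWord D a m w
  collect D 60 w'

/-- The word of `n_a(t) x_s(u) n_a(t)⁻¹`. -/
def nConj (D : ChevalleyDatum) (a s : ℕ) : Option Word := do
  let w₁ ← conjCollect D a varT [(s, varU)]
  let w₂ ← conjCollect D (D.neg a) tInv w₁
  conjCollect D a varT w₂

/-- Root, sign and exponent of `n_a(t) x_s(u) n_a(t)⁻¹`. -/
def nAct (D : ChevalleyDatum) (a s : ℕ) : Option (ℕ × ℤ × ℤ) :=
  match nConj D a s with
  | some [(s', η, k, e, f)] =>
    if a < D.nroots ∧ s < D.nroots ∧ s' < D.nroots ∧ e = 1 ∧ f = 0 then some (s', η, k) else none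
  | _ => none

variable {K G : Type*} [Field K] [Group G]

/-- `n_a(t)` in a group with root elements. -/
def nEl (D : ChevalleyDatum) (x : ℕ → K → G) (a : ℕ) (t : K) : G :=
  x a t * x (D.neg a) (-t⁻¹) * x a t

/-- `h_a(t)` in a group with root elements. -/
def hEl (D : ChevalleyDatum) (x : ℕ → K → G) (a : ℕ) (t : K) : G :=
  nEl D x a t * nEl D x a (-1)

variable {D : ChevalleyDatum} {x : ℕ → K → G} (R : StRels D x)
include R

theorem conjCollect_sound {t u v : K} (ht : t ≠ 0) (hu : u ≠ 0) (hv : v ≠ 0) {a : ℕ} {m : Mon}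
    {w w' : Word} (h : conjCollect D a m w = some w') :
    wEval x t u v w' = x a (mEval t u v m) * wEval x t u v w * (x a (mEval t u v m))⁻¹ := by
  simp only [conjCollect, Option.bind_eq_bind, Option.bind_eq_some_iff] at h
  obtain ⟨w₁, h₁, h₂⟩ := h
  rw [collect_sound R ht hu hv h₂, conjWord_sound R ht hu hv h₁]

theorem nAct_sound {a s s' : ℕ} {η k : ℤ} (h : nAct D a s = some (s', η, k)) {t : K} (ht : t ≠ 0)
    (u : K) : nEl D x a t * x s u * (nEl D x a t)⁻¹ = x s' ((η : K) * t ^ k * u) := by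
  unfold nAct at h
  split at h
  · next s'' η' k' e f hw =>
    split_ifs at h with hc
    · obtain ⟨ha, hs, hs', rfl, rfl⟩ := hc
      simp only [Option.some.injEq, Prod.mk.injEq] at h
      obtain ⟨rfl, rfl, rfl⟩ := h
      rcases eq_or_ne u 0 with rfl | hu
      · rw [x_zero R hs, mul_zero, x_zero R hs']
        group
      simp only [nConj, Option.bind_eq_bind, Option.bind_eq_some_iff] at hw
      obtain ⟨w₁, h₁, w₂, h₂, h₃⟩ := hw
      have e1 := conjCollect_sound R ht hu one_ne_zero h₁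
      have e2 := conjCollect_sound R ht hu one_ne_zero h₂
      have e3 := conjCollect_sound R ht hu one_ne_zero h₃
      rw [e2, e1] at e3
      simp only [wEval, List.map_cons, List.map_nil, List.prod_cons, List.prod_nil, mul_one,
        mEval_T, mEval_U] at e3
      rw [show mEval t u 1 tInv = -t⁻¹ by simp [mEval, tInv],
        show mEval t u 1 (η', k', 1, 0) = (η' : K) * t ^ k' * u by simp [mEval]] at e3
      rw [e3, nEl]
      group
  · simp at h

theorem nEl_neg {a : ℕ} (ha : a < D.nroots) (hna : D.neg a < D.nroots) (t : K) :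
    nEl D x a (-t) = (nEl D x a t)⁻¹ := by
  simp only [nEl, inv_neg, neg_neg, x_neg R ha, x_neg R hna]
  group

/-- Weight of the torus of `a` on the root `s`. -/
theorem hAct_sound {a s s₁ : ℕ} {η₁ k₁ η₂ k₂ : ℤ} (h₁ : nAct D a s = some (s₁, η₁, k₁))
    (h₂ : nAct D a s₁ = some (s, η₂, k₂)) (hs : η₁ * η₂ * (-1) ^ k₁.natAbs = 1) {t : K} (ht : t ≠ 0)
    (u : K) : hEl D x a t * x s u * (hEl D x a t)⁻¹ = x s (t ^ k₂ * u) := by
  rw [hEl, show nEl D x a t * nEl D x a (-1) * x s u * (nEl D x a t * nEl D x a (-1))⁻¹ =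
    nEl D x a t * (nEl D x a (-1) * x s u * (nEl D x a (-1))⁻¹) * (nEl D x a t)⁻¹ by group,
    nAct_sound R h₁ (neg_ne_zero.2 one_ne_zero), nAct_sound R h₂ ht]
  congr 1
  have hz : ((-1 : K)) ^ k₁ = (-1 : K) ^ k₁.natAbs := by
    rcases Int.natAbs_eq k₁ with hk | hk
    · conv_lhs => rw [hk]
      rw [zpow_natCast]
    · conv_lhs => rw [hk]
      rw [zpow_neg, zpow_natCast, ← inv_pow, inv_neg, inv_one]
  have hc := congrArg (Int.cast : ℤ → K) hs
  push_cast at hc
  rw [hz]
  linear_combination t ^ k₂ * u * hc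

end CfsgLib.ChevCollect
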