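import Cfsg.Agent.ChevCollect.Lift

/-!
# Commuting lifts of root subgroups
-/

set_option autoImplicit false
set_option linter.unusedSectionVars false

namespace CfsgLib.ChevCollect

open Cfsg.Lie CfsgLib.Chevalley
open scoped MatrixGroups commutatorElement

variable {K G E : Type*} [Field K] [Group G] [Group E] {D : ChevalleyDatum}

theorem commute_of_terms {x : ℕ → K → G} (R : StRels D x) {r s : Root D} (hne : (s : ℕ) ≠ r)
    (hrev : (s : ℕ) ≠ D.neg r) (h : D.commTerms r s = []) (t u : K) :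
    Commute (x r t) (x s u) := by
  have e := R.comm r s t u r.isLt s.isLt hne hrev
  rw [ChevalleyDatum.commWord, h, List.map_nil, List.map_nil, List.prod_nil] at e
  calc x r t * x s u = x r t * (x s u * 1) := by rw [mul_one]
    _ = x r t * (x s u * ((x s u)⁻¹ * (x r t)⁻¹ * x s u * x r t)) := by rw [e]
    _ = _ := by group

variable {x : ℕ → K → G} {hW : GoodWeyl D} {θ : G →* GL D.Idx K} {π : E →* G}
  (C : RootCtx hW x θ) (hπ : Function.Surjective π) (hc : π.ker ≤ Subgroup.center E)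
include C hπ hc

/-- Commutators of lifts of two commuting root subgroups: biadditive and central. -/
theorem exists_form {r s : Root D} (hrs : ∀ t u, Commute (x r t) (x s u)) :
    ∃ f : K → K → E, (∀ a b t u, π a = x r t → π b = x s u → ⁅a, b⁆ = f t u) ∧
      (∀ t u u', f t (u + u') = f t u * f t u') ∧ (∀ t t' u, f (t + t') u = f t u * f t' u) ∧
      (∀ t u, f t u ∈ Subgroup.center E) ∧
      ∀ (τ : G) (χ : Root D → K), Scales x τ χ → ∀ t u, f (χ r * t) (χ s * u) = f t u := by
  obtain ⟨lt, hlt⟩ := hπ.hasRightInverse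
  set f : K → K → E := fun t u => ⁅lt (x r t), lt (x s u)⁆ with hf
  have hval : ∀ a b t u, π a = x r t → π b = x s u → ⁅a, b⁆ = f t u := fun a b t u ha hb =>
    comm_congr_eq hπ hc C.perfect (ha.trans (hlt _).symm) (hb.trans (hlt _).symm)
  have hcen : ∀ t u, f t u ∈ Subgroup.center E := fun t u => hc (by
    rw [MonoidHom.mem_ker, map_commutatorElement, hlt, hlt, commutatorElement_eq_one_iff_commute]
    exact hrs t u)
  refine ⟨f, hval, fun t u u' => ?_, fun t t' u => ?_, hcen, fun τ χ hτ t u => ?_⟩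
  · rw [← hval (lt (x r t)) (lt (x s u) * lt (x s u')) t (u + u') (hlt _)
      (by rw [map_mul, hlt, hlt, C.rels.add s s.isLt]), comm_mul,
      Subgroup.mem_center_iff.1 (hcen t u') (lt (x s u)), mul_inv_cancel_right]
  · rw [← hval (lt (x r t) * lt (x r t')) (lt (x s u)) (t + t') u
      (by rw [map_mul, hlt, hlt, C.rels.add r r.isLt]) (hlt _), mul_comm_left,
      Subgroup.mem_center_iff.1 (hcen t' u) (lt (x r t)), mul_inv_cancel_right,
      Subgroup.mem_center_iff.1 (hcen t u) (f t' u)]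
  · have h := conj_comm (lt τ) (lt (x r t)) (lt (x s u))
    rw [hval (lt τ * lt (x r t) * (lt τ)⁻¹) (lt τ * lt (x s u) * (lt τ)⁻¹) (χ r * t) (χ s * u) (by rw [map_mul, map_mul, map_inv, hlt, hlt, hτ])
      (by rw [map_mul, map_mul, map_inv, hlt, hlt, hτ]), show ⁅lt (x r t), lt (x s u)⁆ = f t u from rfl,
      Subgroup.mem_center_iff.1 (hcen t u) (lt τ), mul_inv_cancel_right] at h
    exact h.symm

/-- Distinguished by a torus element, commuting root subgroups lift to commuting ones. -/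
theorem liftComm_of_scales {r s : Root D} (hrs : ∀ t u, Commute (x r t) (x s u)) {τ : G}
    {χ : Root D → K} (hτ : Scales x τ χ) (hr : χ r = 1) (hs : χ s ≠ 1) : LiftComm x π r s := by
  obtain ⟨f, hval, hadd, -, -, heq⟩ := exists_form C hπ hc hrs
  intro a b t u ha hb
  rw [← commutatorElement_eq_one_iff_commute, hval a b t u ha hb]
  have h := heq τ χ hτ t (u / (χ s - 1))
  rw [hr, one_mul, show χ s * (u / (χ s - 1)) = u + u / (χ s - 1) by
    have := sub_ne_zero.2 hs; field_simp; ring, hadd] at h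
  exact mul_eq_right.1 h

/-- A root subgroup scaled by all scalars lifts to an abelian subgroup. -/
theorem liftComm_self_quad {r : Root D}
    (hall : ∀ c : K, c ≠ 0 → ∃ τ χ, Scales x τ χ ∧ χ r = c) {c₀ : K} (h0 : c₀ ≠ 0) (h1 : c₀ ≠ 1)
    (h2 : c₀ * c₀ - c₀ + 1 ≠ 0) : LiftComm x π r r := by
  have hrs : ∀ t u, Commute (x r t) (x r u) := fun t u => by
    show _ = _
    rw [← C.rels.add r r.isLt, ← C.rels.add r r.isLt, add_comm]
  obtain ⟨f, hval, hr, hl, hcen, heq⟩ := exists_form C hπ hc hrs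
  have hsc : ∀ c t u, c ≠ 0 → f (c * t) (c * u) = f t u := by
    intro c t u hc0
    obtain ⟨τ, χ, hτ, rfl⟩ := hall c hc0
    exact heq τ χ hτ t u
  intro a b t u ha hb
  rw [← commutatorElement_eq_one_iff_commute, hval a b t u ha hb]
  have hd : 1 - c₀ ≠ 0 := sub_ne_zero.2 (Ne.symm h1)
  set w := (c₀ * c₀ - c₀ + 1) / (c₀ * (1 - c₀)) with hw
  have hw0 : w ≠ 0 := div_ne_zero h2 (mul_ne_zero h0 hd)
  suffices H : ∀ t u, f (w * t) u = 1 by
    have := H (t / w) u
    rwa [mul_div_cancel₀ _ hw0] at this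
  intro t u
  have e1 : f ((1 - c₀) * t) (c₀ * u) = f ((1 - c₀) / c₀ * t) u := by
    rw [← hsc c₀ ((1 - c₀) / c₀ * t) u h0]
    congr 1
    field_simp
  have e2 : f (c₀ * t) ((1 - c₀) * u) = f (c₀ / (1 - c₀) * t) u := by
    rw [← hsc (1 - c₀) (c₀ / (1 - c₀) * t) u hd]
    congr 1
    field_simp
  have e : f t u = f ((1 - c₀) * t) ((1 - c₀) * u) * f (c₀ / (1 - c₀) * t) u *
      (f ((1 - c₀) / c₀ * t) u * f (c₀ * t) (c₀ * u)) := by
    rw [← e1, ← e2]
    conv_lhs => rw [show t = (1 - c₀) * t + c₀ * t by ring,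
      show u = (1 - c₀) * u + c₀ * u by ring, hr, hl, hl]
  rw [hsc _ t u hd, hsc _ t u h0, mul_assoc, ← mul_assoc (f (c₀ / (1 - c₀) * t) u), ← hl,
    left_eq_mul] at e
  rw [show w * t = (c₀ / (1 - c₀) * t + (1 - c₀) / c₀ * t) + t by rw [hw]; field_simp; ring, hl]
  exact e

/-- A root occurring with unit coefficient in the commutator of two roots it commutes with. -/
theorem liftComm_self_terms {r a b k : Root D} {C₁ C₂ : ℤ} (hab : b ≠ a) (hrev : b ≠ a.rev)
    (hterms : D.commTerms a b = [((k : ℕ), C₁, 1, 1), ((r : ℕ), C₂, 2, 1)])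
    (hC : C₂ * C₂ = 1) (hra : ∀ t u, Commute (x r t) (x a u))
    (hrb : ∀ t u, Commute (x r t) (x b u)) (hrk : LiftComm x π r k) : LiftComm x π r r := by
  intro g h t u hg hh
  obtain ⟨lt, hlt⟩ := hπ.hasRightInverse
  have hC' : (C₂ : K) * C₂ = 1 := by rw [← Int.cast_mul, hC, Int.cast_one]
  set u' := (C₂ : K) * u with hu'
  set W := ⁅(lt (x b u'))⁻¹, (lt (x a 1))⁻¹⁆ with hW'
  set Rk := lt (x k ((C₁ : K) * (-1) * u')) with hRk
  have hπW : π W = π Rk * π h := by
    have e := C.rels.comm a b 1 u' a.isLt b.isLt (fun e => hab (Fin.ext e))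
      (fun e => hrev (Fin.ext (e.trans (hW.good.neg_fin a))))
    rw [ChevalleyDatum.commWord, hterms] at e
    simp only [List.map_cons, List.map_nil, List.prod_cons, List.prod_nil, mul_one, pow_one,
      neg_one_sq] at e
    rw [hW', hRk, map_commutatorElement, map_inv, map_inv, hlt, hlt, hlt, hh, commutatorElement_def,
      inv_inv, inv_inv, e, hu', ← mul_assoc (C₂ : K), hC', one_mul]
  have hgW : Commute g W := by
    show g * W = W * g
    rw [← mul_inv_eq_iff_eq_mul, hW', conj_comm]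
    refine comm_congr_eq hπ hc C.perfect ?_ ?_
    · rw [map_mul, map_mul, map_inv π g, map_inv π (lt _), hg, hlt,
        ((hrb t u').inv_right).eq, mul_inv_cancel_right]
    · rw [map_mul, map_mul, map_inv π g, map_inv π (lt _), hg, hlt,
        ((hra t 1).inv_right).eq, mul_inv_cancel_right]
  have hgR : Commute g Rk := hrk _ _ _ _ hg (hlt _)
  have hz : (Rk⁻¹ * W)⁻¹ * h ∈ Subgroup.center E := hc (by
    rw [MonoidHom.mem_ker, map_mul, map_inv, map_mul, map_inv, hπW]; group)
  have h1 : Commute g ((Rk⁻¹ * W) * ((Rk⁻¹ * W)⁻¹ * h)) :=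
    (hgR.inv_right.mul_right hgW).mul_right (Subgroup.mem_center_iff.1 hz g)
  rwa [mul_inv_cancel_left] at h1

end CfsgLib.ChevCollect
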