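import Cfsg.Agent.ChevCollect.NAct
import Cfsg.Agent.MultPSL.LiftsTwo

/-!
# The rank one relation for every root, and (R3) over finite fields
-/

set_option autoImplicit false
set_option linter.unusedSectionVars false

namespace CfsgLib.ChevCollect

open Cfsg.Lie

/-- Evidence that `n_a(t)` carries `x_a(v)` to `x_{-a}(-t⁻² v)`: `x_a` is the conjugate of
`x_c` by `n_b(1)`. -/
def wXCheck (D : ChevalleyDatum) (a : ℕ) (w : ℕ × ℕ) : Bool :=
  decide (D.neg a < D.nroots) && decide (D.neg (D.neg a) = a) &&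
  match nAct D w.1 w.2, nAct D a w.1, nAct D a (D.neg w.1), nAct D a w.2 with
  | some (a', η, _), some (b', e, l), some (nb', e', l'), some (c', e₂, l₂) =>
    match nAct D b' c' with
    | some (d, η₃, k₃) =>
      decide (a' = a) && decide (η * η = 1) && decide (nb' = D.neg b') && decide (l' = -l) &&
        decide (e * e' = 1) && decide (d = D.neg a) &&
        decide (η₃ * e ^ k₃.natAbs * e₂ * η = -1) && decide (l * k₃ + l₂ = -2)
    | none => false
  | _, _, _, _ => false

/-- All roots have a checked witness. -/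
def wXAll (D : ChevalleyDatum) (W : List (ℕ × ℕ)) : Bool :=
  (List.range D.nroots).all fun a => wXCheck D a (W.getD a (0, 0))

variable {K G : Type*} [Field K] [Group G] {D : ChevalleyDatum} {x : ℕ → K → G} (R : StRels D x)
include R

theorem cast_unit_zpow {e : ℤ} (he : e = 1 ∨ e = -1) (k : ℤ) :
    (e : K) ^ k = ((e ^ k.natAbs : ℤ) : K) := by
  rcases he with rfl | rfl
  · simp
  · rcases Int.natAbs_eq k with hk | hk
    · conv_lhs => rw [hk]
      simp only [zpow_natCast, Int.cast_neg, Int.cast_one, Int.cast_pow]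
    · conv_lhs => rw [hk]
      simp only [zpow_neg, zpow_natCast, Int.cast_neg, Int.cast_one, Int.cast_pow, ← inv_pow,
        inv_neg, inv_one]

theorem wX_of_check {a : ℕ} {w : ℕ × ℕ} (h : wXCheck D a w = true) {t : K} (ht : t ≠ 0) (v : K) :
    nEl D x a t * x a v * (nEl D x a t)⁻¹ = x (D.neg a) (-(t⁻¹ ^ 2 * v)) := by
  simp only [wXCheck, Bool.and_eq_true, decide_eq_true_eq] at h
  obtain ⟨-, h⟩ := h
  split at h
  · next a' η k b' e l nb' e' l' c' e₂ l₂ h₁ h₂ h₃ h₄ =>
    split at h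
    · next d η₃ k₃ h₅ =>
      simp only [Bool.and_eq_true, decide_eq_true_eq] at h
      obtain ⟨⟨⟨⟨⟨⟨⟨rfl, hη⟩, rfl⟩, rfl⟩, he⟩, rfl⟩, hsgn⟩, hexp⟩ := h
      have hηK : (η : K) * η = 1 := by
        have := congrArg (Int.cast : ℤ → K) hη
        push_cast at this
        exact this
      have heK : (e : K) * e' = 1 := by
        have := congrArg (Int.cast : ℤ → K) he
        push_cast at this
        exact this
      have he1 : e = 1 ∨ e = -1 := Int.eq_one_or_neg_one_of_mul_eq_one he
      have hx : x a' v = nEl D x w.1 1 * x w.2 ((η : K) * v) * (nEl D x w.1 1)⁻¹ := by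
        rw [nAct_sound R h₁ one_ne_zero, one_zpow, mul_one, ← mul_assoc, hηK, one_mul]
      set g := nEl D x a' t with hg
      have hN : g * nEl D x w.1 1 * g⁻¹ = nEl D x b' ((e : K) * t ^ l) := by
        rw [show g * nEl D x w.1 1 * g⁻¹ =
          g * x w.1 1 * g⁻¹ * (g * x (D.neg w.1) (-(1 : K)⁻¹) * g⁻¹) * (g * x w.1 1 * g⁻¹) by
            simp only [nEl]; group, hg, nAct_sound R h₂ ht, nAct_sound R h₃ ht, nEl]
        congr 2
        · rw [mul_one]
        · congr 1
          rw [inv_one, zpow_neg, mul_inv, eq_inv_of_mul_eq_one_right heK]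
          ring
        · rw [mul_one]
      have htl : (e : K) * t ^ l ≠ 0 :=
        mul_ne_zero (left_ne_zero_of_mul_eq_one heK) (zpow_ne_zero l ht)
      rw [hx, show g * (nEl D x w.1 1 * x w.2 ((η : K) * v) * (nEl D x w.1 1)⁻¹) * g⁻¹ =
        (g * nEl D x w.1 1 * g⁻¹) * (g * x w.2 ((η : K) * v) * g⁻¹) *
          (g * nEl D x w.1 1 * g⁻¹)⁻¹ by group, hN, hg, nAct_sound R h₄ ht, nAct_sound R h₅ htl]
      congr 1
      rw [mul_zpow, cast_unit_zpow R he1, ← zpow_mul,
        show -(t⁻¹ ^ 2 * v) = ((-1 : ℤ) : K) * t ^ (-2 : ℤ) * v by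
          rw [zpow_neg, inv_pow]; norm_cast; push_cast; ring,
        ← hsgn, ← hexp, zpow_add₀ ht]
      push_cast
      ring
    · simp at h
  · simp at h

theorem hEl_mul [Fintype K] {a : ℕ} (ha : a < D.nroots) {w : ℕ × ℕ} (h : wXCheck D a w = true)
    {t u : K} (ht : t ≠ 0) (hu : u ≠ 0) :
    hEl D x a t * hEl D x a u = hEl D x a (t * u) := by
  have hna : D.neg a < D.nroots := by
    simp only [wXCheck, Bool.and_eq_true, decide_eq_true_eq] at h
    exact h.1.1
  set P := Subgroup.closure (Set.range (x a) ∪ Set.range (x (D.neg a))) with hP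
  let X : K → P := fun v => ⟨x a v, Subgroup.subset_closure (Or.inl ⟨v, rfl⟩)⟩
  let Y : K → P := fun v => ⟨x (D.neg a) v, Subgroup.subset_closure (Or.inr ⟨v, rfl⟩)⟩
  have hR : SL2Steinberg.Rel X Y := by
    refine ⟨?_, fun s t => Subtype.ext (R.add a ha s t),
      fun s t => Subtype.ext (R.add _ hna s t), fun t v ht => Subtype.ext (wX_of_check R h ht v)⟩
    rw [eq_top_iff, ← Subgroup.map_le_map_iff_of_injective P.subtype_injective,
      MonoidHom.map_closure, ← MonoidHom.range_eq_map, P.range_subtype]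
    refine (le_of_eq hP).trans ((Subgroup.closure_le _).2 ?_)
    rintro g (⟨v, rfl⟩ | ⟨v, rfl⟩)
    · exact Subgroup.subset_closure ⟨X v, Or.inl ⟨v, rfl⟩, rfl⟩
    · exact Subgroup.subset_closure ⟨Y v, Or.inr ⟨v, rfl⟩, rfl⟩
  exact congrArg Subtype.val ((MultPSL.H_mul hR ht hu).1).symm

end CfsgLib.ChevCollect
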