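import Cfsg.Agent.ChevCollect.SmallPairs
import Cfsg.Agent.ChevCollect.NAct

/-!
# Checkers for lifts over small fields

`n` is such that a suitable scalar `c` has `c ^ k = 1` only for multiples `k` of `n`; `p` is the
characteristic. A step `(r, s, a, b, i)` says that the `i`th term of `[a, b]` is `s` with unit
coefficient and `r` commutes with `a`, `b` and, after lifting, with the other terms.
-/

set_option autoImplicit false
set_option linter.unusedSectionVars false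

namespace CfsgLib.ChevCollect

open Cfsg.Lie CfsgLib.Chevalley
open scoped MatrixGroups

/-- A combination of at most two weights vanishing on `A` and not divisible by `n` on `B`. -/
def sepV (n : ℕ) (rk : ℕ) (A B : List ℤ) : Bool :=
  ((List.range rk).any fun i => decide (A.getD i 0 = 0) && !decide ((n : ℤ) ∣ B.getD i 0)) ||
  (List.range rk).any fun i => (List.range rk).any fun j =>
    decide (i < j) && [(1 : ℤ), 2].any fun b => [(1 : ℤ), -1, 2, -2].any fun a =>
      decide (a * A.getD i 0 + b * A.getD j 0 = 0) &&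
        !decide ((n : ℤ) ∣ a * B.getD i 0 + b * B.getD j 0)

/-- The torus separates `m` from `k`. -/
def sepN (D : ChevalleyDatum) (n m k : ℕ) : Bool :=
  sepV n D.rank ((wtTrie D).get m) ((wtTrie D).get k)

/-- `r` and `s` commute in characteristic `p`. -/
def cmQ (D : ChevalleyDatum) (p r s : ℕ) : Bool :=
  r == s || (!(s == D.neg r) &&
    (D.commTerms r s).all fun c => decide ((p : ℤ) ∣ c.2.1) && decide (c.1 < D.nroots))

/-- Lifts of `r` and `s` are known to commute. -/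
def knOK (D : ChevalleyDatum) (n p : ℕ) (cyc : Bool) (known : List (ℕ × ℕ)) (r s : ℕ) : Bool :=
  known.any (fun q => (q.1 == r && q.2 == s) || (q.1 == s && q.2 == r)) || (cyc && r == s) ||
    (!(r == s) && cmQ D p r s && (sepN D n r s || sepN D n s r))

/-- A valid step. -/
def stepOK (D : ChevalleyDatum) (n p : ℕ) (cyc : Bool) (known : List (ℕ × ℕ))
    (c : ℕ × ℕ × ℕ × ℕ × ℕ) : Bool :=
  decide (c.1 < D.nroots ∧ c.2.1 < D.nroots ∧ c.2.2.1 < D.nroots ∧ c.2.2.2.1 < D.nroots ∧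
    c.2.2.2.1 ≠ c.2.2.1 ∧ c.2.2.2.1 ≠ D.neg c.2.2.1) &&
  cmQ D p c.1 c.2.2.1 && cmQ D p c.1 c.2.2.2.1 &&
  match (D.commTerms c.2.2.1 c.2.2.2.1).drop c.2.2.2.2 with
  | (s, C, _, j) :: rest =>
    decide (s = c.2.1 ∧ j = 1 ∧ C * C = 1) &&
      ((D.commTerms c.2.2.1 c.2.2.2.1).take c.2.2.2.2 ++ rest).all fun e =>
        decide (e.1 < D.nroots) && (decide ((p : ℤ) ∣ e.2.1) || knOK D n p cyc known c.1 e.1)
  | [] => false

/-- Steps valid one after another. -/
def stepsOK (D : ChevalleyDatum) (n p : ℕ) (cyc : Bool) :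
    List (ℕ × ℕ) → List (ℕ × ℕ × ℕ × ℕ × ℕ) → Bool
  | _, [] => true
  | known, c :: cs =>
    stepOK D n p cyc known c && stepsOK D n p cyc ((c.1, c.2.1) :: known) cs

/-- The image of a root and the sign, along a word of reflections. -/
def wImg (D : ChevalleyDatum) : List ℕ → ℕ → Option (ℕ × ℤ)
  | [], r => some (r, 1)
  | a :: l, r => do
    let q ← wImg D l r
    let q' ← nAct D a q.1
    pure (q'.1, q'.2.1 * q.2)

/-- An interchanging word. -/
def swapOK (D : ChevalleyDatum) (p : ℕ) (c : ℕ × ℕ × List ℕ) : Bool :=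
  decide (c.1 < D.nroots ∧ c.2.1 < D.nroots) && cmQ D p c.1 c.2.1 &&
  match wImg D c.2.2 c.1, wImg D c.2.2 c.2.1 with
  | some (s, e), some (r, f) => decide (s = c.2.1 ∧ r = c.1 ∧ e = f ∧ e * e = 1)
  | _, _ => false

/-- The root torus and the pairs of positive roots for a small field. -/
def smallChk (D : ChevalleyDatum) (n p : ℕ) (cyc : Bool) (sw : List (ℕ × ℕ × List ℕ))
    (cs : List (ℕ × ℕ × ℕ × ℕ × ℕ)) : Bool :=
  sw.all (swapOK D p) && stepsOK D n p cyc (sw.map fun c => (c.1, c.2.1)) cs &&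
  (List.range D.nroots).all fun r =>
    ((List.range D.rank).any fun i => !decide ((n : ℤ) ∣ cartanT D i r)) &&
    (!decide (half D ≤ r) ||
      let known := sw.map (fun c => (c.1, c.2.1)) ++ cs.map (fun c => (c.1, c.2.1))
      (cyc || known.any fun q => q.1 == r && q.2 == r) &&
      (List.range D.nroots).all fun k => !decide (r < k) || sepN D n r k ||
        known.any fun q => (q.1 == r && q.2 == k) || (q.1 == k && q.2 == r))

section Sound

variable {K G E : Type*} [Field K] [Group G] [Group E] {D : ChevalleyDatum} {x : ℕ → K → G}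
  {hW : GoodWeyl D} {θ : G →* GL D.Idx K} {π : E →* G}

theorem wImg_sound (R : StRels D x) :
    ∀ {l : List ℕ} {r s : ℕ} {e : ℤ}, wImg D l r = some (s, e) → ∀ v : K,
      (l.map fun a => nEl D x a 1).prod * x r v * ((l.map fun a => nEl D x a 1).prod)⁻¹ =
        x s ((e : K) * v) := by
  intro l
  induction l with
  | nil =>
    intro r s e h v
    simp only [wImg, Option.some.injEq, Prod.mk.injEq] at h
    obtain ⟨rfl, rfl⟩ := h
    simp
  | cons a l ih =>
    intro r s e h v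
    simp only [wImg, Option.bind_eq_bind, Option.bind_eq_some_iff, Option.pure_def,
      Option.some.injEq, Prod.mk.injEq] at h
    obtain ⟨⟨s₁, e₁⟩, h₁, ⟨s₂, η, k⟩, h₂, rfl, rfl⟩ := h
    rw [List.map_cons, List.prod_cons, show ∀ m P X : G, m * P * X * (m * P)⁻¹ =
      m * (P * X * P⁻¹) * m⁻¹ from fun m P X => by group, ih h₁, nAct_sound R h₂ one_ne_zero,
      one_zpow, mul_one, Int.cast_mul, mul_assoc]

theorem cmQ_sound (R : StRels D x) {p : ℕ} (hp : (p : K) = 0) {r s : Root D}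
    (h : cmQ D p r s = true) (t u : K) : Commute (x r t) (x s u) := by
  simp only [cmQ, Bool.or_eq_true, Bool.and_eq_true, Bool.not_eq_true', beq_eq_false_iff_ne,
    List.all_eq_true, decide_eq_true_eq, beq_iff_eq] at h
  rcases eq_or_ne (s : ℕ) r with e | hne
  · rw [show s = r from Fin.ext e]
    exact commute_self R r t u
  · obtain ⟨hrev, hall⟩ := h.resolve_left (Ne.symm hne)
    refine commute_of_zero R hne hrev (fun c hc => ?_) (fun c hc => (hall c hc).2) t u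
    obtain ⟨q, hq⟩ := (hall c hc).1
    rw [hq, Int.cast_mul, Int.cast_natCast, hp, zero_mul]

variable (C : RootCtx hW x θ) (hπ : Function.Surjective π) (hc : π.ker ≤ Subgroup.center E)
  {n p : ℕ} (hp : (p : K) = 0) {c : K} (hc0 : c ≠ 0) (hcn : ∀ k : ℤ, c ^ k = 1 → (n : ℤ) ∣ k)
include C hπ hc hp hc0 hcn

theorem sepN_sound {m k : Root D} (h : sepN D n m k = true) :
    ∃ τ χ, Scales x τ χ ∧ χ m = 1 ∧ χ k ≠ 1 := by
  have hwt : ∀ {i : ℕ}, i < D.rank → ∀ r : Root D,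
      ((wtTrie D).get r).getD i 0 = D.cartan i r := fun hi r => hW.good.cartanT_eq hi r.isLt
  simp only [sepN, sepV, Bool.or_eq_true, List.any_eq_true, List.mem_range, Bool.and_eq_true,
    Bool.not_eq_true', decide_eq_true_eq, decide_eq_false_iff_not] at h
  rcases h with ⟨i, hi, h0, h1⟩ | ⟨i, hi, j, hj, -, b, -, a, -, h0, h1⟩
  · rw [hwt hi] at h0 h1
    refine ⟨_, _, C.scales_hEl ⟨i, hi⟩ hc0, ?_, fun e => h1 (hcn _ e)⟩
    show c ^ D.cartan i m = 1
    rw [h0, zpow_zero]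
  · rw [hwt hi, hwt hj] at h0 h1
    refine ⟨_, _, (C.scales_hEl ⟨i, hi⟩ (zpow_ne_zero a hc0)).mul
      (C.scales_hEl ⟨j, hj⟩ (zpow_ne_zero b hc0)), ?_, fun e => h1 (hcn _ ?_)⟩
    · simp only [Pi.mul_apply]
      rw [← zpow_mul, ← zpow_mul, ← zpow_add₀ hc0, h0, zpow_zero]
    · simp only [Pi.mul_apply] at e
      rwa [← zpow_mul, ← zpow_mul, ← zpow_add₀ hc0] at e

variable {cyc : Bool} (hcyc : cyc = true → ∀ t : K, ∃ m : ℕ, (m : K) = t)
include hcyc

/-- All listed pairs are pairs of roots with commuting lifts. -/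
def KnownGood (_ : RootCtx hW x θ) (π : E →* G) (known : List (ℕ × ℕ)) : Prop :=
  ∀ q ∈ known, ∃ (hr : q.1 < D.nroots) (hs : q.2 < D.nroots),
    LiftComm x π (⟨q.1, hr⟩ : Root D) ⟨q.2, hs⟩

theorem knOK_sound {known : List (ℕ × ℕ)} (hk : KnownGood C π known) {r s : Root D}
    (h : knOK D n p cyc known r s = true) : LiftComm x π r s := by
  simp only [knOK, Bool.or_eq_true, Bool.and_eq_true, List.any_eq_true, beq_iff_eq,
    Bool.not_eq_true', beq_eq_false_iff_ne] at h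
  rcases h with (⟨q, hq, hq'⟩ | ⟨hc', e⟩) | ⟨⟨hne, hcm⟩, hsep⟩
  · obtain ⟨q₁, q₂⟩ := q
    obtain ⟨hr, hs, hl⟩ := hk _ hq
    rcases hq' with ⟨rfl, rfl⟩ | ⟨rfl, rfl⟩
    exacts [hl, hl.symm]
  · rw [show r = s from Fin.ext e]
    exact liftComm_self_cyclic C hπ hc (hcyc hc') s
  · rcases hsep with hs | hs
    · obtain ⟨τ, χ, hτ, h1, h2⟩ := sepN_sound C hπ hc hp hc0 hcn hs
      exact liftComm_of_scales C hπ hc (cmQ_sound C.rels hp hcm) hτ h1 h2
    · obtain ⟨τ, χ, hτ, h1, h2⟩ := sepN_sound C hπ hc hp hc0 hcn hs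
      exact (liftComm_of_scales C hπ hc (fun t u => (cmQ_sound C.rels hp hcm u t).symm) hτ h1 h2).symm

theorem stepOK_sound {known : List (ℕ × ℕ)} (hk : KnownGood C π known) {q : ℕ × ℕ × ℕ × ℕ × ℕ}
    (h : stepOK D n p cyc known q = true) : ∃ (hr : q.1 < D.nroots) (hs : q.2.1 < D.nroots),
      LiftComm x π (⟨q.1, hr⟩ : Root D) ⟨q.2.1, hs⟩ := by
  obtain ⟨r, s, a, b, i⟩ := q
  simp only [stepOK, Bool.and_eq_true, decide_eq_true_eq] at h
  obtain ⟨⟨⟨⟨hr, hs, ha, hb, hba, hbna⟩, hra⟩, hrb⟩, h⟩ := h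
  refine ⟨hr, hs, ?_⟩
  split at h
  · next s' C₀ i₀ j rest hdrop =>
    simp only [Bool.and_eq_true, decide_eq_true_eq, List.all_eq_true, Bool.or_eq_true] at h
    obtain ⟨⟨rfl, rfl, hC⟩, hrest⟩ := h
    refine liftComm_of_step C hπ hc (r := ⟨r, hr⟩) (s := ⟨s', hs⟩) (a := ⟨a, ha⟩) (b := ⟨b, hb⟩)
      (fun e => hba (congrArg Fin.val e))
      (fun e => hbna ((congrArg Fin.val e).trans (hW.good.neg_fin ⟨a, ha⟩).symm))
      (cmQ_sound C.rels hp (r := ⟨r, hr⟩) (s := ⟨a, ha⟩) hra)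
      (cmQ_sound C.rels hp (r := ⟨r, hr⟩) (s := ⟨b, hb⟩) hrb)
      (l₁ := (D.commTerms a b).take i) (l₂ := rest) (C₀ := C₀) (i := i₀) ?_ hC fun e he => ?_
    · show D.commTerms a b = _
      rw [← hdrop, List.take_append_drop]
    · obtain ⟨hlt, hz | hkn⟩ := hrest e he
      · obtain ⟨w, hw⟩ := hz
        exact ⟨hlt, Or.inl (by rw [hw, Int.cast_mul, Int.cast_natCast, hp, zero_mul])⟩
      · exact ⟨hlt, Or.inr (knOK_sound C hπ hc hp hc0 hcn hcyc hk (r := ⟨r, hr⟩) (s := ⟨e.1, hlt⟩) hkn)⟩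
  · simp at h

theorem stepsOK_sound : ∀ {cs : List (ℕ × ℕ × ℕ × ℕ × ℕ)} {known : List (ℕ × ℕ)},
    KnownGood C π known → stepsOK D n p cyc known cs = true →
      KnownGood C π (known ++ cs.map fun c => (c.1, c.2.1)) := by
  intro cs
  induction cs with
  | nil => intro known hk _; simpa using hk
  | cons q cs ih =>
    intro known hk h
    simp only [stepsOK, Bool.and_eq_true] at h
    have hnew : KnownGood C π ((q.1, q.2.1) :: known) :=
      List.forall_mem_cons.2 ⟨stepOK_sound C hπ hc hp hc0 hcn hcyc hk h.1, hk⟩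
    have := ih hnew h.2
    intro z hz
    refine this z ?_
    simp only [List.map_cons, List.mem_append, List.mem_cons] at hz ⊢
    tauto

/-- Every central extension has root elements with (R1), (R2) over the given ones. -/
theorem exists_lift_small {sw : List (ℕ × ℕ × List ℕ)} {cs : List (ℕ × ℕ × ℕ × ℕ × ℕ)}
    (hchk : smallChk D n p cyc sw cs = true) (hsw : sw ≠ [] → (2 : K) ≠ 0 ∧ cyc = true) :
    ∃ y : ℕ → K → E, StRels D y ∧ (∀ r, ¬ r < D.nroots → ∀ t, y r t = 1) ∧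
      ∀ r, r < D.nroots → ∀ t, π (y r t) = x r t := by
  simp only [smallChk, Bool.and_eq_true, List.all_eq_true, List.mem_range, List.any_eq_true,
    Bool.or_eq_true, Bool.not_eq_true', decide_eq_false_iff_not, beq_iff_eq] at hchk
  obtain ⟨⟨hswap, hsteps⟩, hroot⟩ := hchk
  have hk0 : KnownGood C π (sw.map fun c => (c.1, c.2.1)) := by
    intro q hq
    obtain ⟨⟨r, s, l⟩, hmem, rfl⟩ := List.mem_map.1 hq
    obtain ⟨h2, hcy⟩ := hsw (List.ne_nil_of_mem hmem)
    have h := hswap _ hmem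
    simp only [swapOK, Bool.and_eq_true, decide_eq_true_eq] at h
    obtain ⟨⟨⟨hr, hs⟩, hcm⟩, h⟩ := h
    refine ⟨hr, hs, ?_⟩
    split at h
    · next s' e r' f h₁ h₂ =>
      simp only [decide_eq_true_eq] at h
      obtain ⟨rfl, rfl, rfl, he⟩ := h
      exact liftComm_of_swap C hπ hc (hcyc hcy) h2 (cmQ_sound C.rels hp (r := ⟨r', hr⟩)
        (s := ⟨s', hs⟩) hcm) he (wImg_sound C.rels h₁) (wImg_sound C.rels h₂)
    · simp at h
  have hk := stepsOK_sound C hπ hc hp hc0 hcn hcyc hk0 hsteps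
  have hkn : ∀ {r s : Root D}, (∃ q ∈ (sw.map fun c => (c.1, c.2.1)) ++
      cs.map (fun c => (c.1, c.2.1)), (q.1 = (r : ℕ) ∧ q.2 = s) ∨ (q.1 = (s : ℕ) ∧ q.2 = r)) →
      LiftComm x π r s := by
    rintro r s ⟨⟨q₁, q₂⟩, hq, ⟨rfl, rfl⟩ | ⟨rfl, rfl⟩⟩
    · obtain ⟨_, _, hl⟩ := hk _ hq
      exact hl
    · obtain ⟨_, _, hl⟩ := hk _ hq
      exact hl.symm
  have hgam : ∀ r : Root D, ∃ g : G × K, g.2 ≠ 1 ∧ ∃ χ, Scales x g.1 χ ∧ χ r = g.2 := by
    intro r
    obtain ⟨i, hi, h⟩ := (hroot r r.isLt).1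
    rw [hW.good.cartanT_eq hi r.isLt] at h
    exact ⟨(_, _), fun e => h (hcn _ e), _, C.scales_hEl ⟨i, hi⟩ hc0, rfl⟩
  choose γ hγ using hgam
  have L : LiftCtx hW x θ π γ := ⟨C, hπ, hc, hγ⟩
  have hpos : ∀ r : Root D, half D ≤ r → (cyc = true ∨ _) ∧ _ := fun r hr =>
    (hroot r r.isLt).2.resolve_left (not_not.2 hr)
  refine ⟨_, L.stRels_y (fun r hr => ?_) (fun m k hm hmk => ?_),
    fun r hr t => by simp [yEl, hr], fun r hr t => L.map_y ⟨r, hr⟩ t⟩
  · rcases (hpos r hr).1 with hcy | ⟨q, hq, e⟩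
    · exact liftComm_self_cyclic C hπ hc (hcyc hcy) r
    · exact hkn ⟨q, hq, Or.inl e⟩
  · rcases (hpos m hm).2 k k.isLt with (hlt | hs) | hq
    · exact absurd hmk hlt
    · exact Or.inr (sepN_sound C hπ hc hp hc0 hcn hs)
    · exact Or.inl (hkn hq)

end Sound

end CfsgLib.ChevCollect
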