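import Cfsg.Agent.ChevCollect.Pairs

/-!
# Commuting lifts over small fields
-/

set_option autoImplicit false
set_option linter.unusedSectionVars false

namespace CfsgLib.ChevCollect

open Cfsg.Lie CfsgLib.Chevalley
open scoped MatrixGroups commutatorElement

variable {K G E : Type*} [Field K] [Group G] [Group E] {D : ChevalleyDatum} {x : ℕ → K → G}

/-- Roots with vanishing commutator formula commute. -/
theorem commute_of_zero (R : StRels D x) {r s : Root D} (hne : (s : ℕ) ≠ r)
    (hrev : (s : ℕ) ≠ D.neg r) (h : ∀ c ∈ D.commTerms r s, ((c.2.1 : ℤ) : K) = 0)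
    (hk : ∀ c ∈ D.commTerms r s, c.1 < D.nroots) (t u : K) : Commute (x r t) (x s u) := by
  have e := R.comm r s t u r.isLt s.isLt hne hrev
  rw [List.prod_eq_one] at e
  · calc x r t * x s u = x r t * (x s u * 1) := by rw [mul_one]
      _ = x r t * (x s u * ((x s u)⁻¹ * (x r t)⁻¹ * x s u * x r t)) := by rw [e]
      _ = _ := by group
  · intro g hg
    simp only [ChevalleyDatum.commWord, List.map_map, List.mem_map] at hg
    obtain ⟨c, hc, rfl⟩ := hg
    simp only [Function.comp_apply, h c hc, zero_mul]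
    exact x_zero R (hk c hc)

theorem commute_self (R : StRels D x) (r : Root D) (t u : K) : Commute (x r t) (x r u) := by
  show _ = _
  rw [← R.add r r.isLt, ← R.add r r.isLt, add_comm]

variable {hW : GoodWeyl D} {θ : G →* GL D.Idx K} {π : E →* G}
  (C : RootCtx hW x θ) (hπ : Function.Surjective π) (hc : π.ker ≤ Subgroup.center E)
include C hπ hc

/-- A root with unit coefficient in the commutator of two roots which commute with `r`. -/
theorem liftComm_of_step {r s a b : Root D} (hab : b ≠ a) (hrev : b ≠ a.rev)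
    (hra : ∀ t u, Commute (x r t) (x a u)) (hrb : ∀ t u, Commute (x r t) (x b u))
    {l₁ l₂ : List (ℕ × ℤ × ℕ × ℕ)} {C₀ : ℤ} {i : ℕ}
    (hterms : D.commTerms a b = l₁ ++ ((s : ℕ), C₀, i, 1) :: l₂) (hC : C₀ * C₀ = 1)
    (hrest : ∀ c ∈ l₁ ++ l₂, ∃ h : c.1 < D.nroots,
      ((c.2.1 : ℤ) : K) = 0 ∨ LiftComm x π r ⟨c.1, h⟩) :
    LiftComm x π r s := by
  intro g h t u hg hh
  obtain ⟨lt, hlt⟩ := hπ.hasRightInverse
  set κ : K := (C₀ : K) * (-1) ^ i with hκ
  have hκ1 : κ * κ = 1 := by
    rw [hκ, mul_mul_mul_comm, ← mul_pow, ← Int.cast_mul, hC]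
    simp
  set u' := κ * u with hu'
  set W := ⁅(lt (x b u'))⁻¹, (lt (x a 1))⁻¹⁆ with hW'
  let f : ℕ × ℤ × ℕ × ℕ → G := fun c => x c.1 ((c.2.1 : K) * (-(1 : K)) ^ c.2.2.1 * u' ^ c.2.2.2)
  have hπW : π W = (l₁.map f).prod * x s u * (l₂.map f).prod := by
    have e := C.rels.comm a b 1 u' a.isLt b.isLt (fun e => hab (Fin.ext e))
      (fun e => hrev (Fin.ext (e.trans (hW.good.neg_fin a))))
    rw [ChevalleyDatum.commWord, hterms] at e
    simp only [List.map_append, List.map_cons, List.prod_append, List.prod_cons, List.map_map,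
      pow_one] at e
    rw [show (C₀ : K) * (-1) ^ i * u' = u by
      rw [hu', ← hκ, ← mul_assoc, hκ1, one_mul]] at e
    rw [hW', map_commutatorElement, map_inv, map_inv, hlt, hlt, commutatorElement_def,
      inv_inv, inv_inv, e, mul_assoc]
    rfl
  have hgW : Commute g W := by
    show g * W = W * g
    rw [← mul_inv_eq_iff_eq_mul, hW', conj_comm]
    refine comm_congr_eq hπ hc C.perfect ?_ ?_
    · rw [map_mul, map_mul, map_inv π g, map_inv π (lt _), hg, hlt,
        ((hrb t u').inv_right).eq, mul_inv_cancel_right]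
    · rw [map_mul, map_mul, map_inv π g, map_inv π (lt _), hg, hlt,
        ((hra t 1).inv_right).eq, mul_inv_cancel_right]
  have hgl : ∀ l : List (ℕ × ℤ × ℕ × ℕ), (∀ c ∈ l, c ∈ l₁ ++ l₂) →
      ∃ z : E, Commute g z ∧ π z = (l.map f).prod := by
    intro l hl
    induction l with
    | nil => exact ⟨1, Commute.one_right g, by simp⟩
    | cons c l ih =>
      obtain ⟨z, hz, hzπ⟩ := ih fun d hd => hl d (List.mem_cons_of_mem _ hd)
      obtain ⟨hk, hzero | hcm⟩ := hrest c (hl c List.mem_cons_self)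
      · refine ⟨z, hz, ?_⟩
        simp only [List.map_cons, List.prod_cons, f, hzero, zero_mul, x_zero C.rels hk, one_mul]
        exact hzπ
      · refine ⟨lt (f c) * z, (hcm _ _ _ _ hg (hlt _)).mul_right hz, ?_⟩
        rw [map_mul, hlt, hzπ, List.map_cons, List.prod_cons]
  obtain ⟨z₁, hz₁, hz₁π⟩ := hgl l₁ fun c hc => List.mem_append_left _ hc
  obtain ⟨z₂, hz₂, hz₂π⟩ := hgl l₂ fun c hc => List.mem_append_right _ hc
  set V := z₁⁻¹ * W * z₂⁻¹ with hV
  have hz : V⁻¹ * h ∈ Subgroup.center E := hc (by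
    rw [MonoidHom.mem_ker, hV, map_mul, map_inv, map_mul, map_mul, map_inv, map_inv, hz₁π, hz₂π,
      hπW, hh]
    group)
  have h1 : Commute g (V * (V⁻¹ * h)) :=
    ((hz₁.inv_right.mul_right hgW).mul_right hz₂.inv_right).mul_right
      (Subgroup.mem_center_iff.1 hz g)
  rwa [mul_inv_cancel_left] at h1

variable (hprime : ∀ t : K, ∃ n : ℕ, (n : K) = t)
include hprime

/-- Over a prime field every root subgroup lifts to an abelian subgroup. -/
theorem liftComm_self_cyclic (r : Root D) : LiftComm x π r r := by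
  intro a b t u ha hb
  obtain ⟨lt, hlt⟩ := hπ.hasRightInverse
  have hpow : ∀ (a : E) (t : K), π a = x r t → ∃ (n : ℕ) (z : E), z ∈ Subgroup.center E ∧
      a = lt (x r 1) ^ n * z := by
    intro a t ha
    obtain ⟨n, rfl⟩ := hprime t
    refine ⟨n, (lt (x r 1) ^ n)⁻¹ * a, hc ?_, by group⟩
    rw [MonoidHom.mem_ker, map_mul, map_inv, map_pow, hlt, ha, inv_mul_eq_one]
    clear ha
    induction n with
    | zero => rw [pow_zero, Nat.cast_zero, x_zero C.rels r.isLt]
    | succ n ih => rw [pow_succ, Nat.cast_succ, C.rels.add r r.isLt, ih]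
  obtain ⟨n, z, hz, rfl⟩ := hpow a t ha
  obtain ⟨m, z', hz', rfl⟩ := hpow b u hb
  exact ((Commute.refl _).pow_pow n m |>.mul_right (Subgroup.mem_center_iff.1 hz' _)).mul_left
    (Subgroup.mem_center_iff.1 hz _).symm

/-- Commuting root subgroups which are interchanged lift to commuting ones in odd characteristic. -/
theorem liftComm_of_swap (h2 : (2 : K) ≠ 0) {r s : Root D}
    (hrs : ∀ t u, Commute (x r t) (x s u)) {n : G} {e : ℤ} (he : e * e = 1)
    (hnr : ∀ v, n * x r v * n⁻¹ = x s ((e : K) * v))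
    (hns : ∀ v, n * x s v * n⁻¹ = x r ((e : K) * v)) : LiftComm x π r s := by
  obtain ⟨f, hval, hadd, hladd, hcen, -⟩ := exists_form C hπ hc hrs
  obtain ⟨lt, hlt⟩ := hπ.hasRightInverse
  have hl0 : ∀ u, f 0 u = 1 := fun u => by
    have h := hladd 0 0 u
    rw [add_zero] at h
    exact left_eq_mul.1 h
  have hr0 : ∀ t, f t 0 = 1 := fun t => by
    have h := hadd t 0 0
    rw [add_zero] at h
    exact left_eq_mul.1 h
  have hnat : ∀ i j : ℕ, f (i : K) (j : K) = f 1 1 ^ (i * j) := by
    intro i j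
    induction j with
    | zero => rw [Nat.cast_zero, hr0, mul_zero, pow_zero]
    | succ j ih =>
      rw [Nat.cast_succ, hadd, ih, Nat.mul_succ, pow_add]
      congr 1
      clear ih
      induction i with
      | zero => rw [Nat.cast_zero, hl0, pow_zero]
      | succ i ih => rw [Nat.cast_succ, hladd, ih, pow_succ]
  have hsymm : ∀ t u, f t u = f u t := by
    intro t u
    obtain ⟨i, rfl⟩ := hprime t
    obtain ⟨j, rfl⟩ := hprime u
    rw [hnat, hnat, mul_comm]
  have hneg : ∀ t u, f (-t) (-u) = f t u := by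
    intro t u
    have h1 := hladd t (-t) (-u)
    have h2 := hadd t u (-u)
    rw [add_neg_cancel, hl0] at h1
    rw [add_neg_cancel, hr0] at h2
    rw [eq_inv_of_mul_eq_one_right h1.symm, eq_inv_of_mul_eq_one_right h2.symm, inv_inv]
  intro a b t u ha hb
  rw [← commutatorElement_eq_one_iff_commute, hval a b t u ha hb]
  have hsq : ∀ t u, f t u * f t u = 1 := by
    intro t u
    have h := conj_comm (lt n) (lt (x r t)) (lt (x s u))
    rw [hval (lt (x r t)) (lt (x s u)) t u (hlt _) (hlt _),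
      Subgroup.mem_center_iff.1 (hcen t u) (lt n), mul_inv_cancel_right,
      ← commutatorElement_inv (lt n * lt (x s u) * (lt n)⁻¹),
      hval (lt n * lt (x s u) * (lt n)⁻¹) (lt n * lt (x r t) * (lt n)⁻¹) ((e : K) * u) ((e : K) * t)
        (by rw [map_mul, map_mul, map_inv, hlt, hlt, hns])
        (by rw [map_mul, map_mul, map_inv, hlt, hlt, hnr])] at h
    have h' : f ((e : K) * u) ((e : K) * t) = f t u := by
      rcases Int.eq_one_or_neg_one_of_mul_eq_one he with rfl | rfl
      · rw [Int.cast_one, one_mul, one_mul, hsymm]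
      · rw [Int.cast_neg, Int.cast_one, neg_one_mul, neg_one_mul, hneg, hsymm]
    rw [h'] at h
    nth_rewrite 2 [h]
    rw [mul_inv_cancel]
  have h := hsq (t / 2) u
  rw [← hladd] at h
  rwa [← two_mul, mul_div_cancel₀ _ h2] at h

end CfsgLib.ChevCollect
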