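import Cfsg.Agent.ChevCollect.TorsionFree
import Mathlib.LinearAlgebra.Matrix.GeneralLinearGroup.Basic

/-!
# Projective representations in the natural characteristic lift to the presented group
-/

set_option autoImplicit false
set_option linter.unusedSectionVars false

namespace CfsgLib.ChevCollect

open Cfsg.Lie CfsgLib.Chevalley
open scoped MatrixGroups

/-- Every root is a single-term commutator with a coefficient odd and first part commuting with it. -/
def tfChk (D : ChevalleyDatum) (ds : List (ℕ × ℕ)) : Bool :=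
  (List.range D.nroots).all fun r =>
    let q := ds.getD r (0, 0)
    decide (q.1 < D.nroots ∧ q.2 < D.nroots ∧ q.2 ≠ q.1 ∧ q.2 ≠ D.neg q.1) &&
    cmQ D 2 q.1 r &&
    match D.commTerms q.1 q.2 with
    | [(k, C₀, 1, 1)] => decide (k = r ∧ ¬ (2 : ℤ) ∣ C₀)
    | _ => false

/-- Every root has a weight which `n` does not divide. -/
def wtNdChk (D : ChevalleyDatum) (n : ℕ) : Bool :=
  (List.range D.nroots).all fun r => (List.range D.rank).any fun i =>
    !decide ((n : ℤ) ∣ D.cartan i r)

theorem tfChk_D4 : tfChk chevD4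
   [(1, 9), (0, 14), (0, 15), (0, 16), (0, 17), (1, 17), (0, 19), (0, 20),
    (0, 21), (0, 22), (1, 20), (1, 21), (2, 22), (3, 22), (1, 23), (2, 23),
    (3, 23), (4, 23), (6, 22), (6, 23), (7, 23), (8, 23), (9, 23), (14, 22)] = true := by decide +kernel

theorem tfChk_F4 : tfChk chevF4
   [(1, 23), (0, 24), (0, 26), (7, 14), (0, 31), (0, 32), (1, 32), (3, 33),
    (3, 34), (3, 35), (3, 36), (3, 37), (3, 38), (3, 39), (3, 40), (0, 42),
    (0, 43), (1, 43), (7, 37), (7, 38), (7, 39), (0, 45), (1, 45), (0, 46),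
    (1, 47), (2, 46), (2, 47), (8, 40), (9, 40), (10, 40), (4, 46), (4, 47),
    (5, 47), (7, 44), (8, 44), (9, 44), (10, 44), (11, 44), (12, 44), (13, 44),
    (14, 44), (15, 46), (15, 47), (16, 47), (33, 40), (21, 47), (23, 47), (24, 46)] = true := by decide +kernel

theorem wtNdChk_G2 : wtNdChk chevG2 2 = true ∧ wtNdChk chevG2 3 = true := by decide +kernel

theorem center_GL_torsion {L : Type*} [Field L] {n p : ℕ} (hp : p.Prime) (hchar : CharP L p)
    {z : GL (Fin n) L} (hz : z ∈ Subgroup.center (GL (Fin n) L)) (h : z ^ p = 1) : z = 1 := by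
  haveI := Fact.mk hp
  haveI := hchar
  rw [Matrix.GeneralLinearGroup.center_eq_range_scalar, MonoidHom.mem_range] at hz
  obtain ⟨u, rfl⟩ := hz
  refine Units.ext (Matrix.ext fun i j => ?_)
  have hu : u = 1 := by
    rw [← map_pow] at h
    have h' := congrArg (fun g : GL (Fin n) L => (g : Matrix (Fin n) (Fin n) L) i i) h
    simp [Matrix.diagonal_pow] at h'
    refine Units.ext (sub_eq_zero.1 (pow_eq_zero_iff hp.ne_zero |>.1 ?_))
    rw [Units.val_one, sub_pow_char, one_pow, h', sub_self]
  simp [hu]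

variable {K : Type*} [Field K] {D : ChevalleyDatum}

/-- The data and fields not covered by universality. -/
def TfOK (D : ChevalleyDatum) (q : ℕ) : Prop :=
  (q = 2 ∧ D ∈ [chevD4, chevF4]) ∨ (q = 3 ∧ D = chevG2) ∨ (q = 4 ∧ D = chevG2)

theorem existsUnique_lift_tf [Finite K] {q : ℕ} (hq : Nat.card K = q) (hD : TfOK D q)
    (hperf : commutator (D.SteinbergCover K) = ⊤) {L : Type*} [Field L]
    (hL : ringChar L = ringChar K) {n : ℕ}
    (σ : D.SteinbergCover K →* GL (Fin n) L ⧸ Subgroup.center (GL (Fin n) L)) :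
    ∃! τ : D.SteinbergCover K →* GL (Fin n) L,
      (QuotientGroup.mk' (Subgroup.center (GL (Fin n) L))).comp τ = σ := by
  have hmem : D ∈ [chevG2, chevB2, chevD4, chevF4, chevE6, chevE7, chevE8] := by
    rcases hD with ⟨-, h⟩ | ⟨-, rfl⟩ | ⟨-, rfl⟩
    · simp only [List.mem_cons, List.not_mem_nil, or_false] at h ⊢; tauto
    all_goals simp
  obtain ⟨θ, C⟩ := exists_rootCtx_cover (goodWeyl_of_mem hmem) (exists_checks hmem) hperf
  refine existsUnique_of_exists hperf _ (QuotientGroup.mk'_surjective _)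
    (by rw [QuotientGroup.ker_mk']) σ fun f hfs hfc hsnd => ?_
  have key : ∀ p : ℕ, p.Prime → (p : K) = 0 → ∀ z, f z = 1 → z ^ p = 1 → z = 1 := by
    intro p hp hpK z hz hzp
    haveI : CharP L p := by
      haveI : CharP K p := by
        obtain ⟨r, hr⟩ := CharP.exists K
        rcases (Nat.dvd_prime hp).1 ((CharP.cast_eq_zero_iff K r p).1 hpK) with rfl | rfl
        · exact absurd rfl (CharP.char_ne_one K 1)
        · exact hr
      rw [← ringChar.eq K p, ← hL]
      exact ringChar.charP L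
    have h2 : (z : GL (Fin n) L × D.SteinbergCover K).2 = 1 := (hsnd z).symm.trans hz
    have h1 : (z : GL (Fin n) L × D.SteinbergCover K).1 ∈ Subgroup.center (GL (Fin n) L) := by
      rw [← QuotientGroup.eq_one_iff]
      exact (show _ = σ (z : GL (Fin n) L × D.SteinbergCover K).2 from z.2).trans (by rw [h2, map_one])
    refine Subtype.ext (Prod.ext (center_GL_torsion hp inferInstance h1 ?_) h2)
    exact congrArg (fun w : coverPull _ σ => (w : GL (Fin n) L × D.SteinbergCover K).1) hzp
  rcases hD with ⟨rfl, h⟩ | ⟨rfl, rfl⟩ | ⟨rfl, rfl⟩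
  · obtain ⟨h2, hchar⟩ := small_two hq
    have hp : ((2 : ℕ) : K) = 0 := by push_cast; linear_combination hchar
    refine exists_lift_tf C hfs hfc hp (key 2 Nat.prime_two hp) fun r t => ?_
    refine exists_pow_dec C hfs hfc hp (key 2 Nat.prime_two hp) h2 rfl ?_ t
    obtain ⟨ds, hds⟩ : ∃ ds, tfChk D ds = true := by
      simp only [List.mem_cons, List.not_mem_nil, or_false] at h
      rcases h with rfl | rfl
      exacts [⟨_, tfChk_D4⟩, ⟨_, tfChk_F4⟩]
    simp only [tfChk, List.all_eq_true, List.mem_range, Bool.and_eq_true, decide_eq_true_eq] at hds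
    obtain ⟨⟨⟨ha, hb, hne, hrev⟩, hcm⟩, hm⟩ := hds r r.isLt
    split at hm
    · next k C₀ hterms =>
      simp only [decide_eq_true_eq] at hm
      obtain ⟨rfl, hodd⟩ := hm
      exact ⟨⟨_, ha⟩, ⟨_, hb⟩, C₀, fun e => hne (congrArg Fin.val e),
        fun e => hrev ((congrArg Fin.val e).trans ((goodWeyl_of_mem hmem).good.neg_fin ⟨_, ha⟩).symm),
        hterms, hodd, cmQ_sound C.rels hp (r := ⟨_, ha⟩) (s := r) hcm⟩
    · simp at hm
  · obtain ⟨hp, -, -, c, hc0, hcn⟩ := small_three hq
    refine exists_lift_tf C hfs hfc hp (key 3 Nat.prime_three hp)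
      (exists_pow_torus C hfs hfc hp (key 3 Nat.prime_three hp) hc0 hcn fun r => ?_)
    have h := List.all_eq_true.1 wtNdChk_G2.1 r (List.mem_range.2 r.isLt)
    simp only [List.any_eq_true, List.mem_range, Bool.not_eq_true', decide_eq_false_iff_not] at h
    obtain ⟨i, hi, hi'⟩ := h
    exact ⟨⟨i, hi⟩, hi'⟩
  · obtain ⟨hp, c, hc0, hcn⟩ := small_four hq
    refine exists_lift_tf C hfs hfc hp (key 2 Nat.prime_two hp)
      (exists_pow_torus C hfs hfc hp (key 2 Nat.prime_two hp) hc0 hcn fun r => ?_)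
    have h := List.all_eq_true.1 wtNdChk_G2.2 r (List.mem_range.2 r.isLt)
    simp only [List.any_eq_true, List.mem_range, Bool.not_eq_true', decide_eq_false_iff_not] at h
    obtain ⟨i, hi, hi'⟩ := h
    exact ⟨⟨i, hi⟩, hi'⟩

/-- Projective representations in the natural characteristic lift uniquely. -/
theorem existsUnique_lift_natural (hD : D ∈ [chevG2, chevB2, chevD4, chevF4, chevE6, chevE7, chevE8])
    (hK : D ∈ [chevB2, chevG2] → ∃ x : K, x ≠ 0 ∧ x ≠ 1)
    (hperf : commutator (D.SteinbergCover K) = ⊤) {L : Type*} [Field L]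
    (hL : ringChar L = ringChar K) {n : ℕ}
    (σ : D.SteinbergCover K →* GL (Fin n) L ⧸ Subgroup.center (GL (Fin n) L)) :
    ∃! τ : D.SteinbergCover K →* GL (Fin n) L,
      (QuotientGroup.mk' (Subgroup.center (GL (Fin n) L))).comp τ = σ := by
  classical
  have hs := QuotientGroup.mk'_surjective (Subgroup.center (GL (Fin n) L))
  have hc : (QuotientGroup.mk' (Subgroup.center (GL (Fin n) L))).ker ≤
      Subgroup.center (GL (Fin n) L) := by rw [QuotientGroup.ker_mk']
  by_cases h5 : ∃ s : Finset K, 4 < s.card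
  · exact existsUnique_lift hD h5 hperf _ hs hc σ
  haveI : Finite K := by
    rcases finite_or_infinite K with h | h
    · exact h
    · obtain ⟨s, hs⟩ := Infinite.exists_subset_card_eq K 5
      exact absurd ⟨s, by omega⟩ h5
  have := Fintype.ofFinite K
  have h4 : Nat.card K ≤ 4 := by
    rw [Nat.card_eq_fintype_card]
    by_contra hcon
    exact h5 ⟨Finset.univ, by rw [Finset.card_univ]; omega⟩
  have h1 : 1 < Nat.card K := Finite.one_lt_card
  have h3 : D ∈ [chevB2, chevG2] → 3 ≤ Nat.card K := fun h => by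
    obtain ⟨x, hx0, hx1⟩ := hK h
    have := Finset.card_le_univ ({0, 1, x} : Finset K)
    rw [Finset.card_eq_three.2 ⟨0, 1, x, zero_ne_one, Ne.symm hx0, Ne.symm hx1, rfl⟩,
      ← Nat.card_eq_fintype_card] at this
    exact this
  simp only [List.mem_cons, List.not_mem_nil, or_false] at hD h3
  rcases hD with rfl | rfl | rfl | rfl | rfl | rfl | rfl
  · have := h3 (Or.inr rfl)
    refine existsUnique_lift_tf rfl ?_ hperf hL σ
    rcases (show Nat.card K = 3 ∨ Nat.card K = 4 by omega) with h | h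
    exacts [Or.inr (Or.inl ⟨h, rfl⟩), Or.inr (Or.inr ⟨h, rfl⟩)]
  · have := h3 (Or.inl rfl)
    rcases (show Nat.card K = 3 ∨ 4 ≤ Nat.card K by omega) with h | h
    · exact existsUnique_lift_B2_three h _ hs hc σ
    · exact existsUnique_lift_finite (Or.inr (Or.inr (Or.inl ⟨h, rfl⟩))) hperf _ hs hc σ
  iterate 2
    · rcases (show Nat.card K = 2 ∨ 3 ≤ Nat.card K by omega) with h | h
      · exact existsUnique_lift_tf h (Or.inl ⟨rfl, by simp⟩) hperf hL σ
      · exact existsUnique_lift_finite (Or.inr (Or.inl ⟨h, by simp⟩)) hperf _ hs hc σ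
  all_goals exact existsUnique_lift_finite (Or.inl (by simp)) hperf _ hs hc σ

end CfsgLib.ChevCollect
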