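import Cfsg.Agent.ChevCollect.LiftFinite
import Cfsg.Agent.ChevCollect.LiftThree

/-!
# Lifts through kernels without elements of order `p`

The lift of a root element is then the one lift of exponent `p`.
-/

set_option autoImplicit false
set_option linter.unusedSectionVars false

namespace CfsgLib.ChevCollect

open Cfsg.Lie CfsgLib.Chevalley
open scoped MatrixGroups commutatorElement

variable {K G E : Type*} [Field K] [Group G] [Group E] {D : ChevalleyDatum}
  {x : ℕ → K → G} {hW : GoodWeyl D} {θ : G →* GL D.Idx K} {π : E →* G}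
  (C : RootCtx hW x θ) (hπ : Function.Surjective π) (hc : π.ker ≤ Subgroup.center E)
  {p : ℕ} (hp : (p : K) = 0) (htf : ∀ z : E, π z = 1 → z ^ p = 1 → z = 1)
include C hπ hc hp htf

/-- Commuting root subgroups lift to commuting ones. -/
theorem liftComm_tf {r s : Root D} (hrs : ∀ t u, Commute (x r t) (x s u)) : LiftComm x π r s := by
  obtain ⟨f, hval, -, hladd, -, -⟩ := exists_form C hπ hc hrs
  intro a b t u ha hb
  have hf0 : f 0 u = 1 := by
    have h := hladd 0 0 u
    rw [add_zero] at h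
    exact left_eq_mul.1 h
  have hpow : ∀ j : ℕ, f ((j : K) * t) u = f t u ^ j := by
    intro j
    induction j with
    | zero => rw [Nat.cast_zero, zero_mul, hf0, pow_zero]
    | succ j ih => rw [Nat.cast_succ, add_mul, one_mul, hladd, ih, pow_succ]
  rw [← commutatorElement_eq_one_iff_commute]
  refine htf _ ?_ ?_
  · rw [map_commutatorElement, ha, hb, commutatorElement_eq_one_iff_commute]
    exact hrs t u
  · rw [hval a b t u ha hb, ← hpow, hp, zero_mul, hf0]

/-- Lifts of exponent `p` of the root elements satisfy (R1), (R2). -/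
theorem exists_lift_tf (hex : ∀ (r : Root D) (t : K), ∃ a, π a = x r t ∧ a ^ p = 1) :
    ∃ y : ℕ → K → E, StRels D y ∧ (∀ r, ¬ r < D.nroots → ∀ t, y r t = 1) ∧
      ∀ r, r < D.nroots → ∀ t, π (y r t) = x r t := by
  classical
  choose a haπ hap using hex
  have huniq : ∀ (b b' : E) (g : G), π b = g → π b' = g → b ^ p = 1 → b' ^ p = 1 → b' = b := by
    intro b b' g hb hb' hbp hb'p
    have hz : π (b⁻¹ * b') = 1 := by rw [map_mul, map_inv, hb, hb', inv_mul_cancel]
    have hcomm : Commute b (b⁻¹ * b') := Subgroup.mem_center_iff.1 (hc hz) b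
    refine (inv_mul_eq_one.1 (htf _ hz ?_)).symm
    have e := hcomm.mul_pow p
    rw [mul_inv_cancel_left, hb'p, hbp, one_mul] at e
    exact e.symm
  let y : ℕ → K → E := fun r t => if h : r < D.nroots then a ⟨r, h⟩ t else 1
  have hy : ∀ (r : Root D) t, y r t = a r t := fun r t => by simp [y]
  have hmap : ∀ (r : Root D) t, π (y r t) = x r t := fun r t => (congrArg π (hy r t)).trans (haπ r t)
  have hpw : ∀ (r : Root D) t, y r t ^ p = 1 := fun r t => by rw [hy]; exact hap r t
  have L : LiftFam hW x θ π y := by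
    refine ⟨⟨C, hπ, hc⟩, hmap, fun r => ?_, fun r _ v w => ?_, fun n σ hn _ r _ => ?_⟩
    · exact huniq 1 _ 1 (map_one π) ((hmap r 0).trans (x_zero C.rels r.isLt)) (one_pow p) (hpw r 0)
    · refine huniq _ _ _ ?_ (hmap r (v + w)) ?_ (hpw r _)
      · rw [map_mul, hmap, hmap, C.rels.add r r.isLt]
      · rw [(liftComm_tf C hπ hc hp htf (commute_self C.rels r) _ _ v w (hmap r v) (hmap r w)).mul_pow,
          hpw, hpw, one_mul]
    · obtain ⟨c, hc0, hc'⟩ := hn r
      refine ⟨c, hc0, fun v => huniq _ _ _ (hmap (σ r) _) ?_ (hpw (σ r) _) ?_⟩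
      · rw [map_mul, map_mul, map_inv, hmap, hc']
      · rw [conj_pow, hpw, mul_one, mul_inv_cancel]
  exact ⟨y, L.stRels_y fun m k _ _ => Or.inr (Or.inr (Or.inr ⟨p, hp, htf⟩)),
    fun r hr t => by simp [y, hr], fun r hr t => hmap ⟨r, hr⟩ t⟩

/-- Where the torus moves every root, lifts of exponent `p` exist. -/
theorem exists_pow_torus {n : ℕ} {c : K} (hc0 : c ≠ 0) (hcn : ∀ k : ℤ, c ^ k = 1 → (n : ℤ) ∣ k)
    (hw : ∀ r : Root D, ∃ i : Fin D.rank, ¬ (n : ℤ) ∣ D.cartan i r) (r : Root D) (t : K) :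
    ∃ a, π a = x r t ∧ a ^ p = 1 := by
  obtain ⟨i, hi⟩ := hw r
  set γ : Root D → G × K := fun r => (hEl D x (pRoot hW i) c, c ^ D.cartan i r) with hγ
  have B : LiftBase hW x θ π := ⟨C, hπ, hc⟩
  have hg : GamAt x γ r := ⟨fun e => hi (hcn _ e), _, C.scales_hEl i hc0, rfl⟩
  refine ⟨yEl x π γ r t, B.map_y hg t, ?_⟩
  have hs := liftComm_tf C hπ hc hp htf (commute_self C.rels r)
  have hpow : ∀ j : ℕ, yEl x π γ r ((j : K) * t) = yEl x π γ r t ^ j := by
    intro j
    induction j with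
    | zero => rw [Nat.cast_zero, zero_mul, B.y_zero, pow_zero]
    | succ j ih => rw [Nat.cast_succ, add_mul, one_mul, B.y_add hg hs, ih, pow_succ]
  rw [← hpow, hp, zero_mul, B.y_zero]

/-- In characteristic two a commutator of root elements lifts with exponent two. -/
theorem exists_pow_dec (h2 : ∀ t : K, t = 0 ∨ t = 1) (hp2 : p = 2) {r : Root D}
    (hd : ∃ (a b : Root D) (C₀ : ℤ), b ≠ a ∧ b ≠ a.rev ∧
      D.commTerms a b = [((r : ℕ), C₀, 1, 1)] ∧ ¬ (2 : ℤ) ∣ C₀ ∧
        ∀ t u, Commute (x a t) (x r u)) (t : K) :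
    ∃ A, π A = x r t ∧ A ^ p = 1 := by
  subst hp2
  obtain ⟨a, b, C₀, hne, hrev, hterms, hodd, har⟩ := hd
  rcases h2 t with rfl | rfl
  · exact ⟨1, by rw [map_one, x_zero C.rels r.isLt], one_pow 2⟩
  push_cast at hp
  obtain ⟨A, hA⟩ := hπ (x a 1)
  obtain ⟨B, hB⟩ := hπ (x b 1)
  have hchar : (1 : K) + 1 = 0 := by linear_combination hp
  have hC : (C₀ : K) = 1 := by
    obtain ⟨m, rfl⟩ : Odd C₀ := Int.not_even_iff_odd.1 (fun e => hodd (even_iff_two_dvd.1 e))
    push_cast
    linear_combination (m : K) * hp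
  have hd : Dec x r a b := by
    refine ⟨hne, hrev, ?_⟩
    have h := C.rels.comm a b 1 1 a.isLt b.isLt (fun e => hne (Fin.ext e))
      (fun e => hrev (Fin.ext (e.trans (hW.good.neg_fin a))))
    rw [ChevalleyDatum.commWord, hterms] at h
    simp only [List.map_cons, List.map_nil, List.prod_cons, List.prod_nil, mul_one, hC, one_mul,
      pow_one, show (-1 : K) = 1 from neg_eq_of_add_eq_zero_left hchar,
      x_inv_one C hπ hc h2 hchar a, x_inv_one C hπ hc h2 hchar b] at h
    rw [← commutatorElement_inv, commutatorElement_def, x_inv_one C hπ hc h2 hchar a,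
      x_inv_one C hπ hc h2 hchar b, h]
    exact x_inv_one C hπ hc h2 hchar r
  refine ⟨⁅A, B⁆, by rw [map_commutatorElement, hA, hB, hd.2.2], ?_⟩
  rw [pow_two]
  exact dec_sq C hπ hc h2 hchar hd (liftComm_tf C hπ hc (by exact_mod_cast hp) htf har) hA hB

end CfsgLib.ChevCollect
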