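import Cfsg.Agent.ChevCollect.Weights
import Cfsg.Agent.Chevalley.WeylGroup

/-!
# Diagonal and monomial elements in a group with root elements
-/

set_option autoImplicit false
set_option linter.unusedSectionVars false

namespace CfsgLib.ChevCollect

open Cfsg.Lie CfsgLib.Chevalley
open scoped MatrixGroups

variable {K G : Type*} [Field K] [Group G] {D : ChevalleyDatum}

/-- `τ` scales every root element. -/
def Scales (x : ℕ → K → G) (τ : G) (χ : Root D → K) : Prop :=
  ∀ (r : Root D) (u : K), τ * x r u * τ⁻¹ = x r (χ r * u)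

/-- Hypotheses on a group with root elements over the Chevalley group. -/
structure RootCtx (hW : GoodWeyl D) (x : ℕ → K → G) (θ : G →* GL D.Idx K) : Prop where
  rels : StRels D x
  map_x : ∀ (r : Root D) (t : K), θ (x r t) = X hW.good r t
  nchk : nChk D = true
  wtchk : wtChk D = true
  wchk : ∃ W, wXAll D W = true
  weyl : ∃ (C : Weyl.Cert D.rank) (M : CoxeterMatrix (Fin D.rank)) (T : Weyl.RootTable),
    Weyl.RootGood C M T
  gen : Subgroup.closure {g | ∃ r : Root D, ∃ t, x r t = g} = ⊤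
  perfect : commutator G = ⊤

variable {x : ℕ → K → G} {hW : GoodWeyl D} {θ : G →* GL D.Idx K}

theorem Scales.mul {τ σ : G} {χ ψ : Root D → K} (h : Scales x τ χ) (h' : Scales x σ ψ) :
    Scales x (τ * σ) (χ * ψ) := fun r u => by
  rw [show τ * σ * x r u * (τ * σ)⁻¹ = τ * (σ * x r u * σ⁻¹) * τ⁻¹ by group, h', h,
    Pi.mul_apply, mul_assoc]

theorem scales_one : Scales x (1 : G) (1 : Root D → K) := fun r u => by simp

namespace RootCtx

variable (C : RootCtx hW x θ)
include C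

theorem x_injective (r : Root D) {t u : K} (h : x r t = x r u) : t = u := by
  have := congrArg θ h
  rw [C.map_x, C.map_x] at this
  exact X_injective hW.good r this

/-- Two scaling elements commute modulo the centre. -/
theorem conj_scales {τ σ : G} {χ ψ : Root D → K} (h : Scales x τ χ) (h' : Scales x σ ψ) :
    σ⁻¹ * (τ * σ * τ⁻¹) ∈ Subgroup.center G := by
  rw [Subgroup.mem_center_iff]
  intro g
  have hle : ⊤ ≤ Subgroup.centralizer ({(σ * τ)⁻¹ * (τ * σ)} : Set G) := by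
    rw [← C.gen, Subgroup.closure_le]
    rintro _ ⟨r, t, rfl⟩
    rw [SetLike.mem_coe, Subgroup.mem_centralizer_singleton_iff]
    have e := (h.mul h') r t
    rw [show (χ * ψ) r = (ψ * χ) r by rw [mul_comm], ← (h'.mul h) r t, mul_inv_eq_iff_eq_mul] at e
    calc x r t * ((σ * τ)⁻¹ * (τ * σ))
        = (σ * τ)⁻¹ * ((σ * τ) * x r t * (σ * τ)⁻¹ * (τ * σ)) := by group
      _ = (σ * τ)⁻¹ * (τ * σ * x r t) := by rw [← e]
      _ = _ := by group
  set κ := (σ * τ)⁻¹ * (τ * σ) with hκ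
  have hκc : ∀ g, g * κ = κ * g := fun g =>
    Subgroup.mem_centralizer_singleton_iff.1 (hle (Subgroup.mem_top g))
  rw [show σ⁻¹ * (τ * σ * τ⁻¹) = τ * κ * τ⁻¹ by rw [hκ]; group,
    show τ * κ * τ⁻¹ = κ by rw [hκc τ, mul_inv_cancel_right]]
  exact hκc g

theorem monG_nEl (i : Fin D.rank) {t : K} (ht : t ≠ 0) :
    MonG x (nEl D x (pRoot hW i) t) (wPerm hW i) := by
  obtain ⟨W, hX⟩ := C.wchk
  exact ChevCollect.monG_nEl C.rels hW θ C.map_x C.nchk hX i ht

/-- `h_p(c)` scales by the powers of the weights. -/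
theorem scales_hEl (i : Fin D.rank) {c : K} (hc : c ≠ 0) :
    Scales x (hEl D x (pRoot hW i) c) (fun r : Root D => c ^ D.cartan i r) := by
  intro r u
  obtain ⟨d, -, hd⟩ := C.monG_nEl i (neg_ne_zero.2 (one_ne_zero (α := K))) r
  obtain ⟨e, -, he⟩ := C.monG_nEl i hc (wPerm hW i r)
  have key : ∀ u, hEl D x (pRoot hW i) c * x r u * (hEl D x (pRoot hW i) c)⁻¹ = x r (e * d * u) := by
    intro u
    rw [hEl, show nEl D x (pRoot hW i) c * nEl D x (pRoot hW i) (-1) * x r u *
      (nEl D x (pRoot hW i) c * nEl D x (pRoot hW i) (-1))⁻¹ = nEl D x (pRoot hW i) c *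
        (nEl D x (pRoot hW i) (-1) * x r u * (nEl D x (pRoot hW i) (-1))⁻¹) *
          (nEl D x (pRoot hW i) c)⁻¹ by group, hd, he, hW.wPerm_wPerm, mul_assoc]
  rw [key]
  have hθh : θ (hEl D x (pRoot hW i) c) = hT K (pRoot hW i) (Units.mk0 c hc) := by
    rw [← hElt_pRoot hW]
    simp only [hEl, nEl, nElt, map_mul, hW.good.neg_fin, C.map_x, Units.val_mk0,
      Units.val_inv_eq_inv_val, Units.val_neg, Units.val_one, inv_neg, inv_one, neg_neg]
  have h1 := congrArg θ (key 1)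
  rw [map_mul, map_mul, map_inv, hθh, C.map_x, C.map_x, hT_pRoot_conj_X] at h1
  have h2 := X_injective hW.good r h1
  rw [Units.val_zpow_eq_zpow_val, Units.val_mk0, mul_one, mul_one] at h2
  simp only [← h2]

/-- Elements of the torus with prescribed exponents. -/
theorem exists_scales (e : Fin D.rank → ℤ) {c : K} (hc : c ≠ 0) :
    ∃ τ, Scales x τ (fun r : Root D => c ^ ∑ i, e i * D.cartan i r) := by
  suffices ∀ S : Finset (Fin D.rank),
      ∃ τ, Scales x τ (fun r : Root D => c ^ ∑ i ∈ S, e i * D.cartan i r) from this Finset.univ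
  intro S
  induction S using Finset.induction_on with
  | empty => exact ⟨1, fun r u => by simp⟩
  | insert i S hi ih =>
    obtain ⟨τ, hτ⟩ := ih
    refine ⟨hEl D x (pRoot hW i) (c ^ e i) * τ, fun r u => ?_⟩
    rw [((C.scales_hEl i (zpow_ne_zero (e i) hc)).mul hτ) r u, Pi.mul_apply]
    simp only [Finset.sum_insert hi, zpow_add₀ hc, zpow_mul]

/-- An element of `N` moving two given roots, not opposite, to positive roots. -/
theorem exists_pos_pair (r s : Root D) (hne : s ≠ r.rev) :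
    ∃ n π, MonG x n π ∧ LinPerm π ∧ (∀ k, π k.rev = (π k).rev) ∧
      half D ≤ (π r : ℕ) ∧ half D ≤ (π s : ℕ) := by
  obtain ⟨Ct, M, T, h⟩ := C.weyl
  have hlift : ∀ w : M.Group, ∃ n π, π = h.rootPerm w ∧ MonG x n π ∧ LinPerm π ∧
      ∀ k, π k.rev = (π k).rev := by
    intro w
    induction w using M.toCoxeterSystem.simple_induction_left with
    | one => exact ⟨1, 1, (map_one _).symm, fun k => ⟨1, one_ne_zero, fun u => by simp⟩,
        linPerm_one, fun k => rfl⟩
    | mul_simple_left w i ih =>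
      obtain ⟨n, π, hπ, hn, hl, hrev⟩ := ih
      refine ⟨nEl D x (pRoot hW i) 1 * n, wPerm hW i * π, ?_, fun k => ?_,
        (linPerm_wPerm hW i).mul hl, fun k => by simp [hrev, hW.wPerm_rev]⟩
      · rw [map_mul, ← hπ, CoxeterMatrix.toCoxeterSystem_simple, wPerm_eq_rootPerm hW h]
      · obtain ⟨c, hc, hc'⟩ := hn k
        obtain ⟨d, hd, hd'⟩ := C.monG_nEl i (one_ne_zero (α := K)) (π k)
        refine ⟨d * c, mul_ne_zero hd hc, fun u => ?_⟩
        rw [show nEl D x (pRoot hW i) 1 * n * x k u * (nEl D x (pRoot hW i) 1 * n)⁻¹ =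
          nEl D x (pRoot hW i) 1 * (n * x k u * n⁻¹) * (nEl D x (pRoot hW i) 1)⁻¹ by group, hc',
          hd', mul_assoc]
        rfl
  have hmul : ∀ (i : Fin D.rank) (n : G) (π : Equiv.Perm (Root D)), MonG x n π → LinPerm π →
      (∀ k, π k.rev = (π k).rev) → ∃ n', MonG x n' (π * wPerm hW i) ∧ LinPerm (π * wPerm hW i) ∧
      ∀ k, (π * wPerm hW i) k.rev = ((π * wPerm hW i) k).rev := by
    intro i n π hn hl hrev
    refine ⟨n * nEl D x (pRoot hW i) 1, fun k => ?_, hl.mul (linPerm_wPerm hW i),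
      fun k => by simp [hrev, hW.wPerm_rev]⟩
    obtain ⟨d, hd, hd'⟩ := C.monG_nEl i (one_ne_zero (α := K)) k
    obtain ⟨c, hc, hc'⟩ := hn (wPerm hW i k)
    refine ⟨c * d, mul_ne_zero hc hd, fun u => ?_⟩
    rw [show n * nEl D x (pRoot hW i) 1 * x k u * (n * nEl D x (pRoot hW i) 1)⁻¹ =
      n * (nEl D x (pRoot hW i) 1 * x k u * (nEl D x (pRoot hW i) 1)⁻¹) * n⁻¹ by group, hd', hc',
      mul_assoc]
    rfl
  revert s
  refine hW.root_induction (P := fun r => ∀ s : Root D, s ≠ r.rev → ∃ n π, MonG x n π ∧ LinPerm π ∧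
    (∀ k, π k.rev = (π k).rev) ∧ half D ≤ (π r : ℕ) ∧ half D ≤ (π s : ℕ)) (fun i s hne => ?_) ?_ r
  · by_cases hs : half D ≤ (s : ℕ)
    · exact ⟨1, 1, fun k => ⟨1, one_ne_zero, fun u => by simp⟩, linPerm_one, fun k => rfl,
        pRoot_pos hW i, hs⟩
    have hh := hW.good.two_half
    have hs' : half D ≤ (s.rev : ℕ) := by rw [Fin.val_rev]; omega
    have hpos := (hW.wPerm_pos i hs' (fun e => hne (by rw [← e, Fin.rev_rev]))).1
    obtain ⟨w, hw⟩ := h.exists_longest
    obtain ⟨n, π, hπ, hn, hl, hrev⟩ := hlift w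
    have hflip : ∀ k : Root D, half D ≤ (k : ℕ) → half D ≤ ((π k.rev : Root D) : ℕ) := by
      intro k hk
      have := hw k ((posIdx_iff hW.good h k).2 hk)
      rw [posIdx_iff hW.good h, ← hπ] at this
      rw [hrev, Fin.val_rev]
      omega
    obtain ⟨n', hn', hl', hrev'⟩ := hmul i n π hn hl hrev
    refine ⟨n', _, hn', hl', hrev', ?_, ?_⟩
    · rw [Equiv.Perm.mul_apply, hW.wPerm_pRoot]
      exact hflip _ (pRoot_pos hW i)
    · rw [Equiv.Perm.mul_apply, ← Fin.rev_rev s, hW.wPerm_rev]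
      exact hflip _ hpos
  · intro i r ih s hne
    obtain ⟨n, π, hn, hl, hrev, h1, h2⟩ := ih (wPerm hW i s) fun e => hne (by
      rw [← hW.wPerm_wPerm i s, e, hW.wPerm_rev])
    obtain ⟨n', hn', hl', hrev'⟩ := hmul i n π hn hl hrev
    refine ⟨n', _, hn', hl', hrev', ?_, h2⟩
    rw [Equiv.Perm.mul_apply, hW.wPerm_wPerm]
    exact h1

end RootCtx

end CfsgLib.ChevCollect
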