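import Cfsg.Agent.ChevCollect.TwoPairs

/-!
# Checkers for lifts over the field with two elements
-/

set_option autoImplicit false
set_option linter.unusedSectionVars false

namespace CfsgLib.ChevCollect

open Cfsg.Lie CfsgLib.Chevalley
open scoped MatrixGroups commutatorElement

/-- The root `a + b`, if it is one. -/
def sEnt (D : ChevalleyDatum) (a b : ℕ) : Option ℕ := (entryT D a b).head?.map Prod.fst

/-- Every chain has one entry, with odd coefficient. -/
def slChk (D : ChevalleyDatum) : Bool :=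
  (List.range D.nroots).all fun r => ((chainTrie D).get r).all fun e =>
    match e.2 with
    | [(k, M)] => decide (k < D.nroots) && decide (M.natAbs = 1)
    | _ => false

/-- `a` and `b` commute. -/
def cm2 (D : ChevalleyDatum) (a b : ℕ) : Bool := !(b == D.neg a) && (sEnt D a b).isNone

/-- `k = a + b`. -/
def decOK (D : ChevalleyDatum) (a b k : ℕ) : Bool :=
  decide (a < D.nroots ∧ b < D.nroots ∧ k < D.nroots ∧ b ≠ a ∧ b ≠ D.neg a) &&
    sEnt D a b == some k

/-- `s` is `a + b` for roots commuting with `p`. -/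
def step2 (D : ChevalleyDatum) (p s : ℕ) (ab : ℕ × ℕ) : Bool :=
  decOK D ab.1 ab.2 s && cm2 D p ab.1 && cm2 D p ab.2

/-- `a + b = p` and `a' + d = p` are joined by `c`. -/
def moveOK (D : ChevalleyDatum) (p : ℕ) (m : ℕ × ℕ × ℕ × ℕ × ℕ) : Bool :=
  decOK D m.2.2.1 m.2.2.2.1 m.2.1 && decOK D m.1 m.2.2.1 m.2.2.2.2 && decOK D m.1 m.2.1 p &&
    decOK D m.2.2.2.2 m.2.2.2.1 p && cm2 D m.1 m.2.2.2.1 && cm2 D m.2.2.2.2 m.2.1 && cm2 D m.2.1 p

/-- Membership in either order. -/
def inKnown (known : List (ℕ × ℕ)) (a b : ℕ) : Bool :=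
  known.any fun q => (q.1 == a && q.2 == b) || (q.1 == b && q.2 == a)

/-- Valid moves, one after another, and the decompositions reached. -/
def movesOK (D : ChevalleyDatum) (p : ℕ) :
    List (ℕ × ℕ) → List (ℕ × ℕ × ℕ × ℕ × ℕ) → Option (List (ℕ × ℕ))
  | known, [] => some known
  | known, m :: ms =>
    if moveOK D p m && (inKnown known m.1 m.2.1 || inKnown known m.2.2.2.2 m.2.2.2.1) then
      movesOK D p ((m.1, m.2.1) :: (m.2.2.2.2, m.2.2.2.1) :: known) ms
    else none

/-- The checks at one fundamental root. -/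
def rootChk2 (D : ChevalleyDatum) (p : ℕ) (cms : List (ℕ × ℕ)) (anch : ℕ × ℕ)
    (ms : List (ℕ × ℕ × ℕ × ℕ × ℕ)) : Bool :=
  decOK D anch.1 anch.2 p && cm2 D anch.1 p &&
  ((List.range D.nroots).all fun s =>
    s == p || s == D.neg p || (sEnt D p s).isSome || step2 D p s (cms.getD s (0, 0))) &&
  match movesOK D p [anch] ms with
  | some known => (List.range D.nroots).all fun a => ((chainTrie D).get a).all fun e =>
      !((e.2.head?.map Prod.fst) == some p) || inKnown known a e.1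
  | none => false

section Sound

variable {K G E : Type*} [Field K] [Group G] [Group E] {D : ChevalleyDatum} {x : ℕ → K → G}
  {hW : GoodWeyl D} {θ : G →* GL D.Idx K} {π : E →* G}

theorem chainEntry_of_sl (hsl : slChk D = true) {a : ℕ} (ha : a < D.nroots) (b : ℕ) :
    (D.chainEntry a b = [] ∧ sEnt D a b = none) ∨ ∃ (k : ℕ) (M : ℤ),
      D.chainEntry a b = [(k, M)] ∧ sEnt D a b = some k ∧ k < D.nroots ∧ M.natAbs = 1 := by
  rw [sEnt, ← entryT_eq, entryT]
  cases hf : ((chainTrie D).get a).find? (fun e => e.1 == b) with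
  | none => exact Or.inl ⟨rfl, rfl⟩
  | some e =>
    simp only [slChk, List.all_eq_true, List.mem_range] at hsl
    have h := hsl a ha e (List.mem_of_find?_eq_some hf)
    split at h
    · next k M he =>
      simp only [Bool.and_eq_true, decide_eq_true_eq] at h
      exact Or.inr ⟨k, M, he, by simp [he], h.1, h.2⟩
    · simp at h

theorem commTerms_of_sl (hsl : slChk D = true) {a b : ℕ} (ha : a < D.nroots) (hb : b < D.nroots) :
    (D.commTerms a b = [] ∧ sEnt D a b = none) ∨ ∃ (k : ℕ) (M : ℤ),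
      D.commTerms a b = [(k, M, 1, 1)] ∧ sEnt D a b = some k ∧ k < D.nroots ∧
        M.natAbs = 1 := by
  have hhigh : ∀ {r : ℕ}, r < D.nroots → ∀ (s i : ℕ), 2 ≤ i → D.chainRoot r s i = none := by
    intro r hr s i hi
    rcases chainEntry_of_sl hsl hr s with ⟨e, -⟩ | ⟨k, M, e, -⟩
    all_goals
      rw [ChevalleyDatum.chainRoot, e, List.getElem?_eq_none
        (by simp only [List.length_nil, List.length_singleton]; omega), Option.map_none]
  rcases chainEntry_of_sl hsl ha b with ⟨e, e'⟩ | ⟨k, M, e, e', hk, hM⟩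
  all_goals
    have h2a := hhigh ha b 2 le_rfl
    have h3a := hhigh ha b 3 (by omega)
    have h2b := hhigh hb a 2 le_rfl
    have h3b := hhigh hb a 3 (by omega)
  · have h1 : D.chainRoot a b 1 = none := by simp [ChevalleyDatum.chainRoot, e]
    refine Or.inl ⟨?_, e'⟩
    simp [ChevalleyDatum.commTerms, h1, h2a, h3a, h2b, h3b]
  · have h1 : D.chainRoot a b 1 = some k := by simp [ChevalleyDatum.chainRoot, e]
    have h1' : D.chainM a b 1 = M := by simp [ChevalleyDatum.chainM, e]
    refine Or.inr ⟨k, M, ?_, e', hk, hM⟩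
    simp [ChevalleyDatum.commTerms, h1, h1', h2a, h3a, h2b, h3b]

variable (C : RootCtx hW x θ) (hπ : Function.Surjective π) (hc : π.ker ≤ Subgroup.center E)
  (h2 : ∀ t : K, t = 0 ∨ t = 1) (hchar : (1 : K) + 1 = 0) (hsl : slChk D = true)
include C hπ hc h2 hchar hsl

theorem cast_odd {M : ℤ} (hM : M.natAbs = 1) : (M : K) = 1 := by
  rcases Int.natAbs_eq M with e | e <;> rw [e, hM]
  · simp
  · push_cast; exact neg_eq_of_add_eq_zero_left hchar

theorem comm_one {a b : Root D} (hne : b ≠ a) (hrev : b ≠ a.rev) :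
    (sEnt D a b = none ∧ Commute (x a 1) (x b 1)) ∨
      ∃ k : Root D, sEnt D a b = some (k : ℕ) ∧ ⁅x a 1, x b 1⁆ = x k 1 := by
  have hne' : (b : ℕ) ≠ a := fun e => hne (Fin.ext e)
  have hrev' : (b : ℕ) ≠ D.neg a := fun e => hrev (Fin.ext (e.trans (hW.good.neg_fin a)))
  rcases commTerms_of_sl hsl a.isLt b.isLt with ⟨e, e'⟩ | ⟨k, M, e, e', hk, hM⟩
  · exact Or.inl ⟨e', commute_of_terms C.rels hne' hrev' e 1 1⟩
  refine Or.inr ⟨⟨k, hk⟩, e', ?_⟩
  have h := C.rels.comm a b 1 1 a.isLt b.isLt hne' hrev'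
  rw [ChevalleyDatum.commWord, e] at h
  simp only [List.map_cons, List.map_nil, List.prod_cons, List.prod_nil, mul_one,
    cast_odd C hπ hc h2 hchar hsl hM, one_mul, pow_one,
    show (-1 : K) = 1 from neg_eq_of_add_eq_zero_left hchar, x_inv_one C hπ hc h2 hchar a,
    x_inv_one C hπ hc h2 hchar b] at h
  rw [← commutatorElement_inv, commutatorElement_def, x_inv_one C hπ hc h2 hchar a,
    x_inv_one C hπ hc h2 hchar b, h]
  exact x_inv_one C hπ hc h2 hchar ⟨k, hk⟩

theorem x_ne_one (r : Root D) : x r 1 ≠ 1 := fun e =>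
  one_ne_zero (α := K) (C.x_injective r (e.trans (x_zero C.rels r.isLt).symm))

theorem decOK_sound {a b k : ℕ} (h : decOK D a b k = true) :
    ∃ (ha : a < D.nroots) (hb : b < D.nroots) (hk : k < D.nroots),
      Dec x (⟨k, hk⟩ : Root D) ⟨a, ha⟩ ⟨b, hb⟩ := by
  simp only [decOK, Bool.and_eq_true, decide_eq_true_eq, beq_iff_eq] at h
  obtain ⟨⟨ha, hb, hk, hne, hrev⟩, he⟩ := h
  have hne' : (⟨b, hb⟩ : Root D) ≠ ⟨a, ha⟩ := fun e => hne (congrArg Fin.val e)
  have hrev' : (⟨b, hb⟩ : Root D) ≠ Fin.rev ⟨a, ha⟩ := fun e =>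
    hrev ((congrArg Fin.val e).trans (hW.good.neg_fin ⟨a, ha⟩).symm)
  refine ⟨ha, hb, hk, hne', hrev', ?_⟩
  rcases comm_one C hπ hc h2 hchar hsl hne' hrev' with ⟨e, -⟩ | ⟨k', e, h'⟩
  · simp only [he] at e; simp at e
  · simp only [he, Option.some.injEq] at e
    rw [h']
    exact congrArg (fun j => x j 1) e.symm

theorem cm2_sound {a b : Root D} (h : cm2 D a b = true) : Commute (x a 1) (x b 1) := by
  simp only [cm2, Bool.and_eq_true, Bool.not_eq_true', beq_eq_false_iff_ne,
    Option.isNone_iff_eq_none] at h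
  rcases eq_or_ne b a with rfl | hne
  · exact Commute.refl _
  · rcases comm_one C hπ hc h2 hchar hsl hne (fun e => h.1 ((congrArg Fin.val e).trans
      (hW.good.neg_fin a).symm)) with ⟨-, e⟩ | ⟨k, e, -⟩
    · exact e
    · rw [h.2] at e; simp at e

theorem commute_all {a b : Root D} (h : Commute (x a 1) (x b 1)) (t u : K) :
    Commute (x a t) (x b u) := by
  rcases h2 t with rfl | rfl
  · rw [x_zero C.rels a.isLt]; exact Commute.one_left _
  rcases h2 u with rfl | rfl
  · rw [x_zero C.rels b.isLt]; exact Commute.one_right _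
  exact h

theorem cm2_lift {p : Root D} (hp : CommOK x π p) {s : Root D} (h : cm2 D p s = true) :
    LiftComm x π p s := by
  refine hp s (fun e => ?_) (cm2_sound C hπ hc h2 hchar hsl h)
  simp only [cm2, Bool.and_eq_true, Bool.not_eq_true', beq_eq_false_iff_ne] at h
  exact h.1 ((congrArg Fin.val e).trans (hW.good.neg_fin p).symm)

theorem commOK_of_chk {i : Fin D.rank} {cms : List (ℕ × ℕ)} {anch : ℕ × ℕ}
    {ms : List (ℕ × ℕ × ℕ × ℕ × ℕ)} (h : rootChk2 D (D.simple i) cms anch ms = true) :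
    CommOK x π (pRoot hW i) := by
  intro s hs hcm
  set p := pRoot hW i with hp
  change rootChk2 D (p : ℕ) cms anch ms = true at h
  simp only [rootChk2, Bool.and_eq_true, List.all_eq_true, List.mem_range, Bool.or_eq_true,
    beq_iff_eq] at h
  obtain ⟨⟨-, hall⟩, -⟩ := h
  have hprime : ∀ t : K, ∃ n : ℕ, (n : K) = t := fun t =>
    (h2 t).elim (fun e => ⟨0, by rw [e, Nat.cast_zero]⟩) fun e => ⟨1, by rw [e, Nat.cast_one]⟩
  rcases eq_or_ne s p with rfl | hne
  · exact liftComm_self_cyclic C hπ hc hprime p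
  rcases hall s s.isLt with ((e | e) | e) | e
  · exact absurd (Fin.ext e) hne
  · exact absurd (Fin.ext (e.trans (hW.good.neg_fin p))) hs
  · rcases comm_one C hπ hc h2 hchar hsl hne hs with ⟨e', -⟩ | ⟨k, -, e'⟩
    · rw [e'] at e; simp at e
    · rw [hcm.commutator_eq] at e'
      exact absurd e'.symm (x_ne_one C hπ hc h2 hchar hsl k)
  · simp only [step2, Bool.and_eq_true] at e
    obtain ⟨⟨hdec, hpa⟩, hpb⟩ := e
    set a := (cms.getD s (0, 0)).1
    set b := (cms.getD s (0, 0)).2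
    simp only [decOK, Bool.and_eq_true, decide_eq_true_eq, beq_iff_eq] at hdec
    obtain ⟨⟨ha, hb, -, hne', hrev'⟩, he⟩ := hdec
    rcases commTerms_of_sl hsl ha hb with ⟨-, e'⟩ | ⟨k, M, hterms, e', -, hM⟩
    · rw [e'] at he; simp at he
    rw [e', Option.some.injEq] at he
    subst he
    refine liftComm_of_step C hπ hc (r := p) (s := s) (a := ⟨a, ha⟩) (b := ⟨b, hb⟩)
      (fun e => hne' (congrArg Fin.val e))
      (fun e => hrev' ((congrArg Fin.val e).trans (hW.good.neg_fin ⟨a, ha⟩).symm))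
      (commute_all C hπ hc h2 hchar hsl (cm2_sound C hπ hc h2 hchar hsl (b := ⟨a, ha⟩) hpa))
      (commute_all C hπ hc h2 hchar hsl (cm2_sound C hπ hc h2 hchar hsl (b := ⟨b, hb⟩) hpb))
      (l₁ := []) (l₂ := []) (C₀ := M) (i := 1) hterms ?_ (by simp)
    rcases Int.natAbs_eq M with e | e <;> rw [e, hM] <;> norm_num

variable (hcomm : ∀ r : Root D, CommOK x π r)
include hcomm

/-- Every decomposition of a checked root has the same lift. -/
theorem decLift_of_chk {i : Fin D.rank} {cms : List (ℕ × ℕ)} {anch : ℕ × ℕ}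
    {ms : List (ℕ × ℕ × ℕ × ℕ × ℕ)} (h : rootChk2 D (D.simple i) cms anch ms = true) :
    ∃ c, DecLift x π (pRoot hW i) c := by
  set p := pRoot hW i with hp
  change rootChk2 D (p : ℕ) cms anch ms = true at h
  simp only [rootChk2, Bool.and_eq_true] at h
  obtain ⟨⟨⟨hanch, hanc⟩, -⟩, hknown⟩ := h
  obtain ⟨ha₀, hb₀, _, hd₀⟩ := decOK_sound C hπ hc h2 hchar hsl hanch
  obtain ⟨A₀, hA₀⟩ := hπ (x anch.1 1)
  obtain ⟨B₀, hB₀⟩ := hπ (x anch.2 1)
  set c := ⁅A₀, B₀⁆ with hcdef
  have hc2 : c * c = 1 := dec_sq C hπ hc h2 hchar (r := p) hd₀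
    (cm2_lift C hπ hc h2 hchar hsl (hcomm _) (p := ⟨anch.1, ha₀⟩) hanc) hA₀ hB₀
  let Good : ℕ → ℕ → Prop := fun a b =>
    ∀ A B : E, π A = x a 1 → π B = x b 1 → ⁅A, B⁆ = c
  have hsymm : ∀ {a b}, Good a b → Good b a := fun {a b} hab A B hA hB => by
    rw [← commutatorElement_inv, hab B A hB hA]
    exact inv_eq_of_mul_eq_one_right hc2
  have hin : ∀ {known : List (ℕ × ℕ)}, (∀ q ∈ known, Good q.1 q.2) → ∀ {a b},
      inKnown known a b = true → Good a b := by
    intro known hk a b hab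
    simp only [inKnown, List.any_eq_true, Bool.or_eq_true, Bool.and_eq_true, beq_iff_eq] at hab
    obtain ⟨⟨q₁, q₂⟩, hq, ⟨rfl, rfl⟩ | ⟨rfl, rfl⟩⟩ := hab
    exacts [hk _ hq, hsymm (hk _ hq)]
  have hmoves : ∀ (ms : List (ℕ × ℕ × ℕ × ℕ × ℕ)) (known res : List (ℕ × ℕ)),
      (∀ q ∈ known, Good q.1 q.2) → movesOK D p known ms = some res → ∀ q ∈ res, Good q.1 q.2 := by
    intro ms
    induction ms with
    | nil => intro known res hk hres; simp only [movesOK, Option.some.injEq] at hres; exact hres ▸ hk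
    | cons m ms ih =>
      intro known res hk hres
      obtain ⟨a, b, c', d, a'⟩ := m
      simp only [movesOK] at hres
      split_ifs at hres with hcond
      simp only [Bool.and_eq_true, moveOK, Bool.or_eq_true] at hcond
      obtain ⟨⟨⟨⟨⟨⟨⟨h1, h2'⟩, h3⟩, h4⟩, had⟩, ha'b⟩, hbp⟩, hor⟩ := hcond
      obtain ⟨hc', hd, hb, hdb⟩ := decOK_sound C hπ hc h2 hchar hsl h1
      obtain ⟨ha, _, ha', hda'⟩ := decOK_sound C hπ hc h2 hchar hsl h2'
      obtain ⟨_, _, _, hdr⟩ := decOK_sound C hπ hc h2 hchar hsl h4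
      have hmv : ∀ A B A' D', π A = x a 1 → π B = x b 1 → π A' = x a' 1 → π D' = x d 1 →
          ⁅A, B⁆ = ⁅A', D'⁆ := fun A B A' D' hA hB hA' hD' =>
        dec_move C hπ hc h2 hchar (r := p) hdb hda'
          (cm2_lift C hπ hc h2 hchar hsl (hcomm _) (p := ⟨a, ha⟩) (s := ⟨d, hd⟩) had)
          (cm2_lift C hπ hc h2 hchar hsl (hcomm _) (p := ⟨a', ha'⟩) (s := ⟨b, hb⟩) ha'b)
          (cm2_lift C hπ hc h2 hchar hsl (hcomm _) (p := ⟨b, hb⟩) (s := p) hbp)
          hdr hA hB hA' hD'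
      have hboth : Good a b ∧ Good a' d := by
        rcases hor with hk' | hk'
        · refine ⟨hin hk hk', fun A' D' hA' hD' => ?_⟩
          obtain ⟨A, hA⟩ := hπ (x a 1)
          obtain ⟨B, hB⟩ := hπ (x b 1)
          exact (hmv A B A' D' hA hB hA' hD').symm.trans (hin hk hk' A B hA hB)
        · refine ⟨fun A B hA hB => ?_, hin hk hk'⟩
          obtain ⟨A', hA'⟩ := hπ (x a' 1)
          obtain ⟨D', hD'⟩ := hπ (x d 1)
          exact (hmv A B A' D' hA hB hA' hD').trans (hin hk hk' A' D' hA' hD')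
      exact ih _ res (List.forall_mem_cons.2 ⟨hboth.1, List.forall_mem_cons.2 ⟨hboth.2, hk⟩⟩) hres
  split at hknown
  · next known hres =>
    have hgood : ∀ q ∈ known, Good q.1 q.2 := hmoves ms [anch] known
      (List.forall_mem_cons.2 ⟨fun A B hA hB => comm_congr_eq hπ hc C.perfect (hA.trans hA₀.symm)
        (hB.trans hB₀.symm), by simp⟩) hres
    refine ⟨c, ⟨_, _, hd₀⟩, hc2,
      by rw [hcdef, map_commutatorElement, hA₀, hB₀]; exact hd₀.2.2, fun a b A B hd hA hB => ?_⟩
    simp only [List.all_eq_true, List.mem_range, Bool.or_eq_true, Bool.not_eq_true',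
      beq_eq_false_iff_ne] at hknown
    rcases comm_one C hπ hc h2 hchar hsl hd.1 hd.2.1 with ⟨-, e⟩ | ⟨k, e, e'⟩
    · exact absurd (hd.2.2.symm.trans e.commutator_eq) (x_ne_one C hπ hc h2 hchar hsl p)
    · have hkp : k = p := by
        by_contra hne
        have e2 := congrArg θ (e'.symm.trans hd.2.2)
        rw [C.map_x, C.map_x] at e2
        exact X_ne hW.toGoodUni hne one_ne_zero _ e2
      subst hkp
      rw [sEnt, entryT] at e
      cases hf : ((chainTrie D).get a).find? (fun e => e.1 == (b : ℕ)) with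
      | none => rw [hf] at e; simp at e
      | some q =>
        rw [hf] at e
        have hqb : q.1 = (b : ℕ) := by simpa using List.find?_some hf
        have hin' := (hknown a a.isLt q (List.mem_of_find?_eq_some hf)).resolve_left (fun h => h e)
        rw [hqb] at hin'
        exact hin hgood hin' A B hA hB
  · simp at hknown

end Sound

end CfsgLib.ChevCollect
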