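import Cfsg.Agent.ChevCollect.SmallPairs

/-!
# Lifts over the field with two elements

The lift of a root element is the commutator of lifts along any decomposition of the root.
-/

set_option autoImplicit false
set_option linter.unusedSectionVars false

namespace CfsgLib.ChevCollect

open Cfsg.Lie CfsgLib.Chevalley
open scoped MatrixGroups commutatorElement

variable {K G E : Type*} [Field K] [Group G] [Group E] {D : ChevalleyDatum}

/-- `r` is the commutator of `a` and `b`. -/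
def Dec (x : ℕ → K → G) (r a b : Root D) : Prop :=
  b ≠ a ∧ b ≠ a.rev ∧ ⁅x a 1, x b 1⁆ = x r 1

/-- Lifts of `r` and of each root commuting with it commute. -/
def CommOK (x : ℕ → K → G) (π : E →* G) (r : Root D) : Prop :=
  ∀ s : Root D, s ≠ r.rev → Commute (x r 1) (x s 1) → LiftComm x π r s

/-- `c` is the commutator of any lifts of a decomposition of `r`. -/
def DecLift (x : ℕ → K → G) (π : E →* G) (r : Root D) (c : E) : Prop :=
  (∃ a b, Dec x r a b) ∧ c * c = 1 ∧ π c = x r 1 ∧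
    ∀ a b A B, Dec x r a b → π A = x a 1 → π B = x b 1 → ⁅A, B⁆ = c

theorem Dec.conj {x : ℕ → K → G} {r a b : Root D} (h : Dec x r a b) {n : G}
    {σ : Equiv.Perm (Root D)} (hσ : ∀ k, σ k.rev = (σ k).rev)
    (hn : ∀ k : Root D, n * x k 1 * n⁻¹ = x (σ k) 1) : Dec x (σ r) (σ a) (σ b) := by
  refine ⟨fun e => h.1 (σ.injective e), fun e => h.2.1 (σ.injective (e.trans (hσ a).symm)), ?_⟩
  rw [← hn, ← hn, ← hn, ← h.2.2]
  exact (conj_comm n (x a 1) (x b 1)).symm

variable {x : ℕ → K → G} {hW : GoodWeyl D} {θ : G →* GL D.Idx K} {π : E →* G}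
  (C : RootCtx hW x θ) (hπ : Function.Surjective π) (hc : π.ker ≤ Subgroup.center E)
  (h2 : ∀ t : K, t = 0 ∨ t = 1) (hchar : (1 : K) + 1 = 0)
include C hπ hc h2 hchar

theorem x_sq (r : Root D) : x r 1 * x r 1 = 1 := by
  rw [← C.rels.add r r.isLt, hchar, x_zero C.rels r.isLt]

theorem x_inv_one (r : Root D) : (x r 1)⁻¹ = x r 1 :=
  inv_eq_of_mul_eq_one_right (x_sq C hπ hc h2 hchar r)

/-- Two decompositions joined by a third root give the same lift. -/
theorem dec_move {r a b c d a' : Root D} (hb : Dec x b c d) (ha' : Dec x a' a c)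
    (had : LiftComm x π a d) (ha'b : LiftComm x π a' b) (hbr : LiftComm x π b r)
    (hr : Dec x r a' d) {A B A' D' : E} (hA : π A = x a 1) (hB : π B = x b 1)
    (hA' : π A' = x a' 1) (hD' : π D' = x d 1) : ⁅A, B⁆ = ⁅A', D'⁆ := by
  obtain ⟨Ĉ, hC⟩ := hπ (x c 1)
  have eB : π ⁅Ĉ, D'⁆ = π B := by rw [map_commutatorElement, hC, hD', hB, hb.2.2]
  have eA' : π A' = π ⁅A, Ĉ⁆ := by rw [map_commutatorElement, hA, hC, hA', ha'.2.2]
  rw [comm_congr_eq hπ hc C.perfect (a := A) (b := ⁅Ĉ, D'⁆) rfl eB.symm,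
    comm_congr_eq hπ hc C.perfect (a := ⁅A, Ĉ⁆) (b := D') eA' rfl]
  set P := ⁅A, Ĉ⁆ with hP
  set B' := ⁅Ĉ, D'⁆ with hB'
  set Q := ⁅P, D'⁆ with hQ
  have hPπ : π P = x a' 1 := eA'.symm.trans hA'
  have hBπ : π B' = x b 1 := eB.trans hB
  have hQπ : π Q = x r 1 := by rw [hQ, map_commutatorElement, hPπ, hD', hr.2.2]
  have e : A * B' * A⁻¹ = B' * Q := by
    rw [hB', conj_comm, (had A D' 1 1 hA hD').eq, mul_inv_cancel_right,
      show A * Ĉ * A⁻¹ = P * Ĉ by rw [hP, commutatorElement_def]; group, mul_comm_left, ← hB',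
      (ha'b P B' 1 1 hPπ hBπ).eq, mul_inv_cancel_right]
  calc ⁅A, B'⁆ = A * B' * A⁻¹ * B'⁻¹ := commutatorElement_def A B'
    _ = B' * Q * B'⁻¹ := by rw [e]
    _ = Q := by rw [(hbr B' Q 1 1 hBπ hQπ).eq, mul_inv_cancel_right]

/-- A decomposition with commuting first part gives an involution. -/
theorem dec_sq {r a b : Root D} (hd : Dec x r a b) (har : LiftComm x π a r) {A B : E}
    (hA : π A = x a 1) (hB : π B = x b 1) : ⁅A, B⁆ * ⁅A, B⁆ = 1 := by
  have hQ : π ⁅A, B⁆ = x r 1 := by rw [map_commutatorElement, hA, hB, hd.2.2]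
  have hAA : ⁅A * A, B⁆ = 1 := by
    rw [comm_congr_eq hπ hc C.perfect (a := 1) (b := B)
      (by rw [map_mul, hA, x_sq C hπ hc h2 hchar a, map_one]) rfl, commutatorElement_one_left]
  rwa [mul_comm_left, (har A _ 1 1 hA hQ).eq, mul_inv_cancel_right] at hAA

theorem commOK_conj {r : Root D} (h : CommOK x π r) {n : G} {σ : Equiv.Perm (Root D)}
    (hσ : ∀ k, σ k.rev = (σ k).rev) (hn : ∀ (k : Root D) u, n * x k u * n⁻¹ = x (σ k) u) :
    CommOK x π (σ r) := by
  intro s hs hcm a b t u ha hb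
  obtain ⟨s, rfl⟩ := σ.surjective s
  obtain ⟨N, rfl⟩ := hπ n
  have hcm' : Commute (x r 1) (x s 1) := by
    rw [← hn, ← hn] at hcm
    exact (MulAut.conj (π N)).injective.eq_iff.1 (by
      rw [map_mul, map_mul]; exact hcm.eq)
  have h' := h s (fun e => hs (by rw [e, hσ])) hcm' (N⁻¹ * a * N) (N⁻¹ * b * N) t u
    (by rw [map_mul, map_mul, map_inv, ha, ← hn]; group)
    (by rw [map_mul, map_mul, map_inv, hb, ← hn]; group)
  have := h'.map (MulAut.conj N).toMonoidHom
  simpa [mul_assoc] using this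

theorem decLift_conj {r : Root D} {c : E} (h : DecLift x π r c) {N : E}
    {σ : Equiv.Perm (Root D)} (hσ : ∀ k, σ k.rev = (σ k).rev)
    (hn : ∀ k : Root D, π N * x k 1 * (π N)⁻¹ = x (σ k) 1) :
    DecLift x π (σ r) (N * c * N⁻¹) := by
  obtain ⟨⟨a, b, hab⟩, hsq, hcπ, hind⟩ := h
  refine ⟨⟨_, _, hab.conj hσ hn⟩, ?_, by rw [map_mul, map_mul, map_inv, hcπ, hn], ?_⟩
  · rw [show N * c * N⁻¹ * (N * c * N⁻¹) = N * (c * c) * N⁻¹ by group, hsq, mul_one, mul_inv_cancel]
  intro a b A B hd hA hB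
  obtain ⟨a, rfl⟩ := σ.surjective a
  obtain ⟨b, rfl⟩ := σ.surjective b
  have hd' : Dec x r a b := by
    refine ⟨fun e => hd.1 (congrArg σ e), fun e => hd.2.1 (by rw [e, hσ]), ?_⟩
    apply (MulAut.conj (π N)).injective
    show π N * ⁅x a 1, x b 1⁆ * (π N)⁻¹ = π N * x r 1 * (π N)⁻¹
    rw [conj_comm, hn, hn, hn]
    exact hd.2.2
  rw [← hind a b (N⁻¹ * A * N) (N⁻¹ * B * N) hd'
      (by rw [map_mul, map_mul, map_inv, hA, ← hn]; group)
      (by rw [map_mul, map_mul, map_inv, hB, ← hn]; group), conj_comm]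
  congr 1 <;> group

/-- From the fundamental roots to all roots, and to root elements with (R1), (R2). -/
theorem exists_lift_two (hsimp : ∀ i : Fin D.rank, CommOK x π (pRoot hW i))
    (hdec : ∀ i : Fin D.rank, ∃ c, DecLift x π (pRoot hW i) c)
    (hterms : ∀ r s : Root D, s ≠ r → s ≠ r.rev →
      (∀ c ∈ D.commTerms r s, c.1 < D.nroots ∧ ((c.2.1 : ℤ) : K) = 0) ∨
        ∃ (k : Root D) (C₀ : ℤ), D.commTerms r s = [((k : ℕ), C₀, 1, 1)] ∧ (C₀ : K) = 1) :
    ∃ y : ℕ → K → E, StRels D y ∧ (∀ r, ¬ r < D.nroots → ∀ t, y r t = 1) ∧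
      ∀ r, r < D.nroots → ∀ t, π (y r t) = x r t := by
  classical
  have hn : ∀ i : Fin D.rank, ∀ (k : Root D) u,
      nEl D x (pRoot hW i) 1 * x k u * (nEl D x (pRoot hW i) 1)⁻¹ = x (wPerm hW i k) u := by
    intro i k u
    obtain ⟨d, hd0, hd⟩ := C.monG_nEl i (one_ne_zero (α := K)) k
    rw [hd, (h2 d).resolve_left hd0, one_mul]
  have hcomm : ∀ r : Root D, CommOK x π r := hW.root_induction hsimp fun i r ih =>
    commOK_conj C hπ hc h2 hchar ih (hW.wPerm_rev i) (hn i)
  have hall : ∀ r : Root D, ∃ c, DecLift x π r c := hW.root_induction hdec fun i r ih => by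
    obtain ⟨c, hc'⟩ := ih
    obtain ⟨N, hN⟩ := hπ (nEl D x (pRoot hW i) 1)
    exact ⟨_, decLift_conj C hπ hc h2 hchar hc' (N := N) (hW.wPerm_rev i)
      (fun k => by rw [hN]; exact hn i k 1)⟩
  choose c hdl using hall
  let y : ℕ → K → E := fun r t =>
    if h : r < D.nroots then (if t = 0 then 1 else c ⟨r, h⟩) else 1
  have hy0 : ∀ r, y r 0 = 1 := fun r => by by_cases h : r < D.nroots <;> simp [y, h]
  have hy1 : ∀ r : Root D, y r 1 = c r := fun r => by simp [y]
  have hπy : ∀ r : Root D, ∀ t, π (y r t) = x r t := by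
    intro r t
    rcases h2 t with rfl | rfl
    · rw [hy0, map_one, x_zero C.rels r.isLt]
    · rw [hy1, (hdl r).2.2.1]
  refine ⟨y, ⟨fun r hr t u => ?_, fun r s t u hr hs hne hrev => ?_⟩,
    fun r hr t => by simp [y, hr], fun r hr t => hπy ⟨r, hr⟩ t⟩
  · rcases h2 t with rfl | rfl
    · rw [zero_add, hy0, one_mul]
    rcases h2 u with rfl | rfl
    · rw [add_zero, hy0, mul_one]
    rw [hchar, hy0, show y r 1 = c ⟨r, hr⟩ from hy1 ⟨r, hr⟩, (hdl ⟨r, hr⟩).2.1]
  · set a : Root D := ⟨r, hr⟩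
    set b : Root D := ⟨s, hs⟩
    have hab : b ≠ a := fun e => hne (congrArg Fin.val e)
    have hrev' : b ≠ a.rev := fun e => hrev ((congrArg Fin.val e).trans (hW.good.neg_fin a).symm)
    rcases hterms a b hab hrev' with h0 | ⟨k, C₀, hk, hC⟩
    · have hW1 : ((D.commWord K r s t u).map fun p => y p.1 p.2).prod = 1 := by
        refine List.prod_eq_one fun g hg => ?_
        simp only [ChevalleyDatum.commWord, List.map_map, List.mem_map] at hg
        obtain ⟨e, he, rfl⟩ := hg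
        simp only [Function.comp_apply, (h0 e he).2, zero_mul, hy0]
      rw [hW1]
      have hcm : Commute (y r t) (y s u) := by
        refine hcomm a b hrev' ?_ _ _ t u (hπy a t) (hπy b u)
        exact commute_of_zero C.rels hne hrev (fun e he => (h0 e he).2) (fun e he => (h0 e he).1) 1 1
      rw [mul_assoc ((y s u)⁻¹ * (y r t)⁻¹), ← hcm.eq]
      group
    · rw [ChevalleyDatum.commWord, show D.commTerms r s = [((k : ℕ), C₀, 1, 1)] from hk]
      simp only [List.map_cons, List.map_nil, List.prod_cons, List.prod_nil, mul_one, hC, one_mul,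
        pow_one]
      rcases h2 t with rfl | rfl
      · rw [neg_zero, zero_mul, hy0, hy0]; group
      rcases h2 u with rfl | rfl
      · rw [mul_zero, hy0, hy0]; group
      rw [mul_one, show (-1 : K) = 1 from neg_eq_of_add_eq_zero_left hchar,
        show y k 1 = c k from hy1 k]
      have e := C.rels.comm r s 1 1 hr hs hne hrev
      rw [ChevalleyDatum.commWord, show D.commTerms r s = [((k : ℕ), C₀, 1, 1)] from hk] at e
      simp only [List.map_cons, List.map_nil, List.prod_cons, List.prod_nil, mul_one, hC, one_mul,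
        pow_one, show (-1 : K) = 1 from neg_eq_of_add_eq_zero_left hchar] at e
      have hd : Dec x k b a := by
        refine ⟨hab.symm, fun e => hrev' (by rw [e, Fin.rev_rev]), ?_⟩
        rw [commutatorElement_def]
        rw [x_inv_one C hπ hc h2 hchar b, x_inv_one C hπ hc h2 hchar a]
        rw [x_inv_one C hπ hc h2 hchar b, x_inv_one C hπ hc h2 hchar a] at e
        exact e
      rw [← (hdl k).2.2.2 b a (y s 1)⁻¹ (y r 1)⁻¹ hd
        (by rw [map_inv, hπy b 1, x_inv_one C hπ hc h2 hchar b])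
        (by rw [map_inv, hπy a 1, x_inv_one C hπ hc h2 hchar a]),
        commutatorElement_def, inv_inv, inv_inv]

end CfsgLib.ChevCollect
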