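import Cfsg.Agent.ChevCollect.Central
import Cfsg.Agent.Chevalley.Borel

/-!
# Elements of the Weyl group as permutations of roots which respect linear relations of weights
-/

set_option autoImplicit false
set_option linter.unusedSectionVars false

namespace CfsgLib.ChevCollect

open Cfsg.Lie CfsgLib.Chevalley
open scoped MatrixGroups

/-- The `l`th coordinate of the sum of the positive coroots. -/
def posSum (D : ChevalleyDatum) (l : ℕ) : ℤ :=
  ((List.range D.nroots).map fun p => if half D ≤ p then (D.coroot.getD p #[]).getD l 0 else 0).sum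

/-- A functional positive exactly on the positive roots. -/
def wtPhi (D : ChevalleyDatum) (r : ℕ) : ℤ :=
  ((List.range D.rank).map fun l => D.cartan l r * posSum D l).sum

/-- Positive roots have positive `wtPhi`, and the roots in the chains are combinations. -/
def wtChk (D : ChevalleyDatum) : Bool :=
  ((List.range D.nroots).all fun r => !decide (half D ≤ r) || decide (0 < wtPhi D r)) &&
  (List.range D.nroots).all fun r => ((chainTrie D).get r).all fun e =>
    decide (e.1 < D.nroots) && e.2.zipIdx.all fun q => decide (q.1.1 < D.nroots) &&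
      (List.range D.rank).all fun l =>
        decide (cartanT D l q.1.1 = ((q.2 : ℤ) + 1) * cartanT D l r + cartanT D l e.1)

variable {D : ChevalleyDatum}

/-- `π` respects the positive linear relations between weights and their divisors. -/
structure LinPerm (π : Equiv.Perm (Root D)) : Prop where
  lin : ∀ (k r s : Root D) (i j : ℕ),
    (∀ l : Fin D.rank, D.cartan l k = i * D.cartan l r + j * D.cartan l s) →
      ∀ l : Fin D.rank, D.cartan l (π k) = i * D.cartan l (π r) + j * D.cartan l (π s)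
  dvd : ∀ (d : ℤ) (r : Root D),
    (∀ l : Fin D.rank, d ∣ D.cartan l r) → ∀ l : Fin D.rank, d ∣ D.cartan l (π r)

theorem linPerm_one : LinPerm (1 : Equiv.Perm (Root D)) :=
  ⟨fun _ _ _ _ _ h => h, fun _ _ h => h⟩

theorem LinPerm.mul {π ρ : Equiv.Perm (Root D)} (h : LinPerm π) (h' : LinPerm ρ) :
    LinPerm (π * ρ) :=
  ⟨fun _ _ _ _ _ e => h.lin _ _ _ _ _ (h'.lin _ _ _ _ _ e),
    fun _ _ e => h.dvd _ _ (h'.dvd _ _ e)⟩

theorem linPerm_wPerm (hW : GoodWeyl D) (i : Fin D.rank) : LinPerm (wPerm hW i) := by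
  refine ⟨fun k r s a b h l => ?_, fun d r h l => ?_⟩
  · rw [hW.cartan_wPerm i l, hW.cartan_wPerm i l, hW.cartan_wPerm i l, h, h]
    ring
  · rw [hW.cartan_wPerm i l]
    exact dvd_sub (h l) (Dvd.dvd.mul_right (h i) _)

theorem chain_lin (hD : Good D) (hw : wtChk D = true) {r : ℕ} (hr : r < D.nroots) {s i k : ℕ}
    (hi : 0 < i) (h : D.chainRoot r s i = some k) :
    k < D.nroots ∧ s < D.nroots ∧
      ∀ l : Fin D.rank, D.cartan l k = i * D.cartan l r + D.cartan l s := by
  simp only [wtChk, Bool.and_eq_true, List.all_eq_true, List.mem_range, decide_eq_true_eq] at hw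
  rw [ChevalleyDatum.chainRoot, ← entryT_eq, entryT] at h
  cases hf : ((chainTrie D).get r).find? (fun e => e.1 == s) with
  | none => rw [hf] at h; simp at h
  | some e =>
    rw [hf] at h
    simp only [Option.map_eq_some_iff] at h
    obtain ⟨q, hq, rfl⟩ := h
    obtain rfl : e.1 = s := by simpa using List.find?_some hf
    obtain ⟨he, hall⟩ := hw.2 r hr e (List.mem_of_find?_eq_some hf)
    obtain ⟨hk, hl⟩ := hall (q, i - 1) (List.mk_mem_zipIdx_iff_getElem?.2 hq)
    refine ⟨hk, he, fun l => ?_⟩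
    have := hl l l.isLt
    rw [hD.cartanT_eq l.isLt hk, hD.cartanT_eq l.isLt hr, hD.cartanT_eq l.isLt he] at this
    rw [this, show ((i - 1 : ℕ) : ℤ) + 1 = i by omega]

/-- The roots in the commutator formula are combinations with positive coefficients. -/
theorem commTerms_lin (hD : Good D) (hw : wtChk D = true) (r s : Root D) {c : ℕ × ℤ × ℕ × ℕ}
    (hc : c ∈ D.commTerms r s) : c.1 < D.nroots ∧ 0 < c.2.2.1 ∧ 0 < c.2.2.2 ∧
      ∀ l : Fin D.rank, D.cartan l c.1 = c.2.2.1 * D.cartan l r + c.2.2.2 * D.cartan l s := by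
  have hrs : ∀ {a b : Root D} {i k : ℕ}, 0 < i → D.chainRoot a b i = some k → k < D.nroots ∧
      ∀ l : Fin D.rank, D.cartan l k = i * D.cartan l a + D.cartan l b := fun {a _ _ _} hi h =>
    let h' := chain_lin hD hw a.isLt hi h
    ⟨h'.1, h'.2.2⟩
  simp only [ChevalleyDatum.commTerms, List.mem_filterMap, List.mem_cons, List.not_mem_nil,
    or_false] at hc
  obtain ⟨e, he, hec⟩ := hc
  rw [Option.map_eq_some_iff] at hec
  obtain ⟨k, hk, rfl⟩ := hec
  rcases he with rfl | rfl | rfl | rfl | rfl | rfl | rfl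
  all_goals dsimp only at hk ⊢
  · exact ⟨(hrs Nat.one_pos hk).1, Nat.one_pos, Nat.one_pos, fun l => by
      rw [(hrs Nat.one_pos hk).2 l]; push_cast; ring⟩
  · exact ⟨(hrs Nat.two_pos hk).1, Nat.two_pos, Nat.one_pos, fun l => by
      rw [(hrs Nat.two_pos hk).2 l]; push_cast; ring⟩
  · exact ⟨(hrs Nat.two_pos hk).1, Nat.one_pos, Nat.two_pos, fun l => by
      rw [(hrs Nat.two_pos hk).2 l]; push_cast; ring⟩
  · exact ⟨(hrs (by omega) hk).1, by omega, by omega, fun l => by
      rw [(hrs (by omega) hk).2 l]; push_cast; ring⟩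
  · exact ⟨(hrs (by omega) hk).1, by omega, by omega, fun l => by
      rw [(hrs (by omega) hk).2 l]; push_cast; ring⟩
  · obtain ⟨m, hm, hmk⟩ := Option.bind_eq_some_iff.1 hk
    obtain ⟨hmlt, hml⟩ := hrs (by omega) hm
    obtain ⟨hklt, hkl⟩ := hrs (a := ⟨m, hmlt⟩) Nat.one_pos hmk
    exact ⟨hklt, by omega, by omega, fun l => by rw [hkl l, hml l]; push_cast; ring⟩
  · obtain ⟨m, hm, hmk⟩ := Option.bind_eq_some_iff.1 hk
    obtain ⟨hmlt, hml⟩ := hrs (by omega) hm
    obtain ⟨hklt, hkl⟩ := hrs (a := ⟨m, hmlt⟩) Nat.one_pos hmk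
    exact ⟨hklt, by omega, by omega, fun l => by rw [hkl l, hml l]; push_cast; ring⟩

/-- Roots in a commutator formula of positive roots, moved by `π`, stay positive. -/
theorem term_pos (hD : Good D) (hw : wtChk D = true) {π : Equiv.Perm (Root D)} (hπ : LinPerm π)
    {r s : Root D} (_hne : s ≠ r) (_hrev : s ≠ r.rev) (hr : half D ≤ (π r : ℕ))
    (hs : half D ≤ (π s : ℕ)) {c : ℕ × ℤ × ℕ × ℕ} (hc : c ∈ D.commTerms r s) :
    ∃ h : c.1 < D.nroots, half D ≤ (π ⟨c.1, h⟩ : ℕ) := by
  obtain ⟨hk, hi, hj, hlin⟩ := commTerms_lin hD hw r s hc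
  simp only [wtChk, Bool.and_eq_true, List.all_eq_true, List.mem_range, Bool.or_eq_true,
    Bool.not_eq_true', decide_eq_false_iff_not, decide_eq_true_eq] at hw
  have hphi : ∀ t : Root D, half D ≤ (t : ℕ) → 0 < wtPhi D t := fun t ht =>
    (hw.1 t t.isLt).resolve_left (not_not.2 ht)
  refine ⟨hk, ?_⟩
  by_contra hneg
  set k : Root D := π ⟨c.1, hk⟩ with hkdef
  have hrevpos : 0 < wtPhi D k.rev := hphi _ (by
    rw [Fin.val_rev]; have := hD.two_half; omega)
  have hlk := hπ.lin ⟨c.1, hk⟩ r s c.2.2.1 c.2.2.2 hlin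
  have e1 : wtPhi D k = c.2.2.1 * wtPhi D (π r) + c.2.2.2 * wtPhi D (π s) := by
    simp only [wtPhi, ← List.sum_map_mul_left, ← List.sum_map_add]
    refine congrArg List.sum (List.map_congr_left fun l hl => ?_)
    rw [hlk ⟨l, List.mem_range.1 hl⟩]
    ring
  have e2 : wtPhi D k.rev = -wtPhi D k := by
    rw [wtPhi, wtPhi, neg_eq_neg_one_mul, ← List.sum_map_mul_left]
    refine congrArg List.sum (List.map_congr_left fun l hl => ?_)
    rw [show D.cartan l k.rev = -D.cartan l k from hD.cartan_rev ⟨l, List.mem_range.1 hl⟩ k]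
    ring
  have := mul_pos (Int.natCast_pos.2 hi) (hphi _ hr)
  have := mul_pos (Int.natCast_pos.2 hj) (hphi _ hs)
  omega

end CfsgLib.ChevCollect
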